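import Cfsg.Agent.PushUp.Twist
import Cfsg.Agent.PushRankOne.FF
import Cfsg.Agent.PMinOff.Linear
import Cfsg.Prelude.Def_Exceptional

/-!
# A failure-of-factorization chief factor is a natural `SL₂` module
-/

set_option autoImplicit false
set_option linter.unusedSectionVars false

namespace Cfsg.Agent.PushUp

open Subgroup Cfsg.Agent.PushRankOne
open Cfsg.Agent.Offender (cj mem_cj)
open scoped commutatorElement MatrixGroups

variable {G : Type*} [Group G] [Finite G] {p : ℕ} [Fact p.Prime]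

theorem card_map_mk {W X : Subgroup G} [W.Normal] (h : W ≤ X) :
    Nat.card (X.map (QuotientGroup.mk' W)) * Nat.card W = Nat.card X := by
  let f : ↥X →* G ⧸ W := (QuotientGroup.mk' W).comp X.subtype
  have hr : f.range = X.map (QuotientGroup.mk' W) := by
    rw [MonoidHom.range_eq_map, ← Subgroup.map_map, ← MonoidHom.range_eq_map, Subgroup.range_subtype]
  have hk : f.ker = W.subgroupOf X := by
    rw [← MonoidHom.comap_ker, QuotientGroup.ker_mk']; rfl
  have e := Subgroup.card_eq_card_quotient_mul_card_subgroup f.ker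
  rw [Nat.card_congr (QuotientGroup.quotientKerEquivRange f).toEquiv, hr, hk,
    Nat.card_congr (subgroupOfEquivOfLe h).toEquiv] at e
  exact e.symm

variable {S : Sylow p G} {M K : Subgroup G}

theorem setup_quot (h : Setup₀ p S M K) (W : Subgroup G) [W.Normal]
    (hW : W ≤ Cfsg.pCore p G) :
    Setup₀ p (S.mapSurjective (f := QuotientGroup.mk' W) (QuotientGroup.mk'_surjective W))
      (M.map (QuotientGroup.mk' W)) (K.map (QuotientGroup.mk' W)) := by
  haveI := h.hK
  set π := QuotientGroup.mk' W with hπ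
  have hs : Function.Surjective π := QuotientGroup.mk'_surjective W
  have hk : π.ker = W := QuotientGroup.ker_mk' W
  have hWS : W ≤ (S : Subgroup G) := hW.trans (h.pCore_eq.le.trans inf_le_left)
  have hWK : W ≤ K := hW.trans (h.pCore_eq.le.trans inf_le_right)
  have hcm : ∀ X : Subgroup G, W ≤ X → (X.map π).comap π = X := fun X hX =>
    Subgroup.comap_map_eq_self (hk.le.trans hX)
  have hcc : ∀ Y : Subgroup (G ⧸ W), (Y.comap π).map π = Y := fun Y =>
    Subgroup.map_comap_eq_self_of_surjective hs Y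
  refine ⟨⟨fun e => h.hM.1 ?_, fun N hN => ?_⟩, map_mono h.hSM, fun M' hM' hS' => ?_,
    Subgroup.Normal.map inferInstance π hs, ?_, ?_, ?_, ?_⟩
  · rw [← hcm M (hWS.trans h.hSM), e, Subgroup.comap_top]
  · have h1 : M < N.comap π := by
      refine lt_of_le_of_ne ((hcm M (hWS.trans h.hSM)).ge.trans (Subgroup.comap_mono hN.le)) fun e => ?_
      exact hN.ne (by rw [e, hcc])
    rw [← hcc N, h.hM.2 _ h1, Subgroup.map_top_of_surjective π hs]
  · have h1 : M'.comap π = M := by
      refine h.huniq _ ⟨fun e => hM'.1 ?_, fun N hN => ?_⟩ (map_le_iff_le_comap.1 hS')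
      · rw [← hcc M', e, Subgroup.map_top_of_surjective π hs]
      · have hWN : W ≤ N := le_trans (le_of_eq_of_le hk.symm (MonoidHom.ker_le_comap π M')) hN.le
        have h2 : M' < N.map π := by
          refine lt_of_le_of_ne ((hcc M').ge.trans (map_mono hN.le)) fun e => ?_
          exact hN.ne (by rw [e, hcm N hWN])
        rw [← hcm N hWN, hM'.2 _ h2, Subgroup.comap_top]
    rw [← h1, hcc]
  · rintro _ ⟨a, ha, rfl⟩ _ ⟨b, hb, rfl⟩
    exact ⟨_, h.comm a ha b hb, by simp⟩
  · rintro _ ⟨a, ha, rfl⟩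
    exact ⟨_, h.pow a ha, by simp⟩
  · intro g' a' ha' haK hga
    obtain ⟨g, rfl⟩ := hs g'
    obtain ⟨a, ha, rfl⟩ := ha'
    have h1 : g⁻¹ * a * g ∈ (S : Subgroup G) := by
      rw [← hcm S hWS, Subgroup.mem_comap, map_mul, map_mul, map_inv]
      exact hga
    have h2 := h.ti g a ha (fun hK => haK ⟨a, hK, rfl⟩) h1
    rw [show ((S.mapSurjective hs : Sylow p (G ⧸ W)) : Subgroup (G ⧸ W)) = (S : Subgroup G).map π from rfl,
      ← Subgroup.map_sup]
    exact le_normalizer_map π ⟨g, h2, rfl⟩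
  · intro hn
    refine h.notNormal ?_
    rw [show ((S.mapSurjective hs : Sylow p (G ⧸ W)) : Subgroup (G ⧸ W)) = (S : Subgroup G).map π from rfl,
      ← Subgroup.map_sup] at hn
    rw [← hcm _ (hWS.trans le_sup_left)]
    exact hn.comap π

/-- The main recognition, inside a group with a minimal normal offended subgroup. -/
theorem natural_of_ff (h : Setup₀ p S M K) {V : Subgroup G} {z : G} (hg : Ground p S V z)
    (hirr : V ⊓ center G = ⊥)
    (hb : Nat.card V * Nat.card (Cfsg.pCore p G) ≤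
      Nat.card (S : Subgroup G) * Nat.card (V ⊓ centralizer ((S : Subgroup G) : Set G) : Subgroup G))
    (F : Type*) [Field F] [Fintype F] (n : ℕ) (hF : Fintype.card F = p ^ n)
    (hq : Nat.card (S : Subgroup G) = p ^ n * Nat.card (Cfsg.pCore p G)) :
    ∃ (ρ : G →* SL(2, F)) (ψ : Additive ↥V ≃+ (Fin 2 → F)),
      Nat.card (V ⊓ centralizer ((S : Subgroup G) : Set G) : Subgroup G) = p ^ n ∧
      Function.Surjective ρ ∧
      ρ.ker = centralizer (V : Set G) ∧
      ∀ (g : G) (v : ↥V), ∃ w : ↥V, (w : G) = g * (v : G) * g⁻¹ ∧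
        ψ (Additive.ofMul w) = ((ρ g : SL(2, F)) : Matrix (Fin 2) (Fin 2) F).mulVec
          (ψ (Additive.ofMul v)) := by
  classical
  haveI := hg.hVn
  set Q := Cfsg.pCore p G with hQdef
  have hQS : Q ≤ (S : Subgroup G) := h.pCore_eq.le.trans inf_le_left
  have hQi : ((S : Subgroup G) ⊓ Q : Subgroup G) = Q := inf_eq_right.2 hQS
  have hSQ : ¬ (S : Subgroup G) ≤ Q := fun hle => h.notNormal (by
    rw [sup_eq_right.2 (hle.trans (h.pCore_eq.le.trans inf_le_right))]; exact h.hK)
  have hbd : Nat.card V * Nat.card ((S : Subgroup G) ⊓ Q : Subgroup G) ≤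
      Nat.card (S : Subgroup G) * Nat.card (V ⊓ centralizer ((S : Subgroup G) : Set G) : Subgroup G) := by
    rw [hQi]; exact hb
  obtain ⟨B, hBS, hAB, hBQ, hBb, hstrict⟩ := hg.exists_minimal h (S : Subgroup G) hSQ hbd
  obtain rfl : B = (S : Subgroup G) := by
    refine le_antisymm hBS fun t ht => ?_
    obtain ⟨a, ha, hq⟩ := hg.exists_cover h B hBS hBQ hBb hstrict ht
    have := mul_mem ha (hAB ⟨mul_mem ((S : Subgroup G).inv_mem (hBS ha)) ht, hq⟩)
    rwa [mul_inv_cancel_left] at this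
  obtain ⟨x, hxM⟩ : ∃ x : G, x ∉ M := by
    by_contra hcon
    push Not at hcon
    exact h.hM.1 (eq_top_iff.2 fun g _ => hcon g)
  have hcjM : ∀ k : G, k ∉ M → (S : Subgroup G) ⊔ cj k (S : Subgroup G) = ⊤ := by
    intro k hk
    refine h.eq_top_of_not_le le_sup_left fun hle => ?_
    obtain ⟨s, hs, hsQ⟩ := SetLike.not_le_iff_exists.1 hSQ
    refine h.conj_notMem hs hsQ hk (hle (mem_sup_right (mem_cj.2 ?_)))
    simpa [mul_assoc] using hs
  obtain ⟨hcard, hdec, hreg, hquad⟩ := hg.run h (S : Subgroup G) le_rfl hSQ hBb hstrict ⊤ le_top x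
    (mem_top x) hxM (fun k _ hk => by rw [hcjM k hk]; exact le_sup_left)
  have hD : V ⊓ centralizer ((⊤ : Subgroup G) : Set G) = ⊥ := by
    rw [eq_bot_iff, ← hirr]
    exact inf_le_inf_left _ fun v hv => mem_center_iff.2 fun k => mem_centralizer_iff.1 hv k (mem_top k)
  rw [hD, hQi, Subgroup.card_bot, mul_one, hq] at hcard
  set W := V ⊓ centralizer ((S : Subgroup G) : Set G) with hW
  have hWcard : Nat.card W = p ^ n := Nat.eq_of_mul_eq_mul_right Nat.card_pos hcard
  set C := centralizer (V : Set G) with hC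
  have hCM : C ≤ M := hg.centralizer_le h
  haveI : C.Normal := inferInstance
  let π := QuotientGroup.mk' C
  letI : CommGroup ↥V :=
    { (inferInstance : Group ↥V) with
      mul_comm := fun a b => Subtype.ext
        (mem_centralizer_iff.1 ((Thompson.ea_iff.1 hg.hV).1 b.2) a a.2) }
  let φ : G →* MulAut ↥V := MulAut.conjNormal
  have hφ : ∀ (g : G) (v : ↥V), ((φ g v : ↥V) : G) = g * v * g⁻¹ := fun g v =>
    MulAut.conjNormal_apply g v
  have hφker : C ≤ φ.ker := fun g hg' => MonoidHom.mem_ker.2 (MulEquiv.ext fun v => Subtype.ext (by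
    rw [hφ]
    exact mul_inv_eq_iff_eq_mul.2 (mem_centralizer_iff.1 hg' v v.2).symm))
  let Φ : (G ⧸ C) →* MulAut ↥V := QuotientGroup.lift C φ hφker
  let f : (G ⧸ C) → Additive ↥V →+ Additive ↥V := fun y => MonoidHom.toAdditive (Φ y).toMonoidHom
  have hf : ∀ (g : G) (v : ↥V), f (π g) (Additive.ofMul v) = Additive.ofMul (φ g v) := fun _ _ => rfl
  have hexp : ∀ q : Additive ↥V, p • q = 0 := fun q => by
    obtain ⟨v, rfl⟩ : ∃ v : ↥V, Additive.ofMul v = q := ⟨Additive.toMul q, rfl⟩
    rw [← ofMul_pow, ofMul_eq_zero]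
    exact Subtype.ext ((Thompson.ea_iff.1 hg.hV).2 v v.2)
  let Ws : AddSubgroup (Additive ↥V) := Subgroup.toAddSubgroup (W.subgroupOf V)
  have hWs : ∀ v : ↥V, Additive.ofMul v ∈ Ws ↔ (v : G) ∈ W := fun _ => Iff.rfl
  have hAker : ((S : Subgroup G) ⊓ C : Subgroup G) = Q := hg.hQ
  have hcardA : Nat.card ((S : Subgroup G).map π) = p ^ n := by
    let g₀ : ↥(S : Subgroup G) →* G ⧸ C := π.comp (S : Subgroup G).subtype
    have hr : g₀.range = (S : Subgroup G).map π := by
      rw [MonoidHom.range_eq_map, ← Subgroup.map_map, ← MonoidHom.range_eq_map, Subgroup.range_subtype]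
    have hk : g₀.ker = ((S : Subgroup G) ⊓ C).subgroupOf (S : Subgroup G) := by
      rw [← MonoidHom.comap_ker, QuotientGroup.ker_mk', Subgroup.inf_subgroupOf_left]; rfl
    have e := Subgroup.card_eq_card_quotient_mul_card_subgroup g₀.ker
    rw [Nat.card_congr (QuotientGroup.quotientKerEquivRange g₀).toEquiv, hr, hk,
      Nat.card_congr (subgroupOfEquivOfLe inf_le_left).toEquiv, hAker, hq] at e
    exact (Nat.eq_of_mul_eq_mul_right Nat.card_pos e).symm
  have hne : (S : Subgroup G).map π ≠ ⊥ := fun e => hSQ fun s hs => hAker.le ⟨hs, by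
    have : π s ∈ (S : Subgroup G).map π := ⟨s, hs, rfl⟩
    rw [e, mem_bot] at this
    exact (QuotientGroup.eq_one_iff s).1 this⟩
  have hπM : ∀ g : G, π g ∈ M.map π → g ∈ M := fun g ⟨m, hm, e⟩ => by
    simpa using mul_mem hm (hCM (QuotientGroup.eq.1 e))
  obtain ⟨K', iK, iKf, hK', ρ, μ, hρ⟩ := PMinOff.recognise_additive hexp f
    (fun q => by
      show MonoidHom.toAdditive (Φ 1).toMonoidHom q = q
      rw [map_one]
      rfl)
    (fun y z' q => by
      show MonoidHom.toAdditive (Φ (y * z')).toMonoidHom q = _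
      rw [map_mul]
      rfl)
    (fun y hy => by
      obtain ⟨g, rfl⟩ := QuotientGroup.mk'_surjective C y
      refine (QuotientGroup.eq_one_iff g).2 (mem_centralizer_iff.2 fun v hv => ?_)
      have h1 := hy (Additive.ofMul ⟨v, hv⟩)
      rw [hf] at h1
      have h2 : g * v * g⁻¹ = v := by
        rw [← hφ g ⟨v, hv⟩]
        exact congrArg Subtype.val (Additive.ofMul.injective h1)
      exact (mul_inv_eq_iff_eq_mul.1 h2).symm)
    ((S : Subgroup G).map π) (M.map π) (π x) Ws
    (by
      have h1 := congrArg (Subgroup.map π) (hcjM x hxM)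
      rw [Subgroup.map_sup, Subgroup.map_top_of_surjective π (QuotientGroup.mk'_surjective C)] at h1
      rw [← h1, Offender.cj, Subgroup.map_map, Subgroup.map_map]
      congr 2)
    (map_mono h.hSM) (fun hm => hxM (hπM x hm)) hne
    (by
      rintro _ ⟨a, ha, rfl⟩ q hq'
      obtain ⟨v, rfl⟩ : ∃ v : ↥V, Additive.ofMul v = q := ⟨Additive.toMul q, rfl⟩
      rw [hf]
      refine congrArg Additive.ofMul (Subtype.ext ?_)
      rw [hφ]
      exact mul_inv_eq_iff_eq_mul.2 (mem_centralizer_iff.1 ((hWs v).1 hq').2 a ha))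
    (by
      rintro _ ⟨a, ha, rfl⟩ q
      obtain ⟨v, rfl⟩ : ∃ v : ↥V, Additive.ofMul v = q := ⟨Additive.toMul q, rfl⟩
      rw [hf, ← ofMul_div, hWs]
      rw [div_eq_mul_inv, Subgroup.coe_mul, Subgroup.coe_inv, hφ]
      exact hquad a ha v v.2)
    (by
      rintro _ ⟨a, ha, rfl⟩ ha1 q hq'
      obtain ⟨v, rfl⟩ : ∃ v : ↥V, Additive.ofMul v = q := ⟨Additive.toMul q, rfl⟩
      rw [hf] at hq'
      have h1 : a * v * a⁻¹ = v := by
        rw [← hφ a v]; exact congrArg Subtype.val (Additive.ofMul.injective hq')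
      refine (hWs v).2 (hreg a ha (fun haQ => ha1 ((QuotientGroup.eq_one_iff a).2
        (hAker.ge haQ).2)) v v.2 ?_)
      rw [hD, h1, mul_inv_cancel]
      exact one_mem _)
    (by
      rw [show Nat.card Ws = Nat.card (W.subgroupOf V) from rfl,
        Nat.card_congr (subgroupOfEquivOfLe inf_le_left).toEquiv, hWcard, hcardA])
    (by
      intro q
      obtain ⟨v, rfl⟩ : ∃ v : ↥V, Additive.ofMul v = q := ⟨Additive.toMul q, rfl⟩
      obtain ⟨w, hw, w', hw', e⟩ := hdec v v.2
      refine ⟨Additive.ofMul ⟨w, hw.1⟩, (hWs _).2 hw, Additive.ofMul ⟨w', hw'.1⟩, (hWs _).2 hw', ?_⟩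
      rw [hf, ← ofMul_mul]
      refine congrArg Additive.ofMul (Subtype.ext ?_)
      rw [Subgroup.coe_mul, hφ]
      exact e)
    (by
      intro y hy q hq1 hq2
      obtain ⟨g, rfl⟩ := QuotientGroup.mk'_surjective C y
      obtain ⟨v, rfl⟩ : ∃ v : ↥V, Additive.ofMul v = q := ⟨Additive.toMul q, rfl⟩
      rw [hf] at hq2 ⊢
      have hgM : g ∉ M := fun hm => hy ⟨g, hm, rfl⟩
      set u := g * (v : G) * g⁻¹ with hu
      have hu1 : ∀ s ∈ (S : Subgroup G), Commute s u := fun s hs => by
        have := ((hWs _).1 hq2).2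
        rw [hφ] at this
        exact mem_centralizer_iff.1 this s hs
      have hu2 : ∀ s ∈ cj g (S : Subgroup G), Commute s u := fun s hs => by
        have h1 : Commute (g⁻¹ * s * g) (v : G) :=
          mem_centralizer_iff.1 ((hWs v).1 hq1).2 _ (mem_cj.1 hs)
        have h2 := h1.map (MulAut.conj g).toMonoidHom
        simpa [hu, mul_assoc] using h2
      have hle : (⊤ : Subgroup G) ≤ centralizer ({u} : Set G) := (hcjM g hgM).ge.trans
        (sup_le (fun s hs => mem_centralizer_singleton_iff.2 (hu1 s hs).eq)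
          (fun s hs => mem_centralizer_singleton_iff.2 (hu2 s hs).eq))
      have h1 : u ∈ V ⊓ center G := ⟨hg.hVn.conj_mem v v.2 g,
        mem_center_iff.2 fun k => mem_centralizer_singleton_iff.1 (hle (mem_top k))⟩
      rw [hirr, mem_bot] at h1
      rw [ofMul_eq_zero]
      exact Subtype.ext (by rw [hφ]; exact h1))
  -- transport to `F`
  haveI : CharP F p := charP_of_card_eq_prime_pow hF
  let e : K' ≃+* F := FiniteField.ringEquivOfCardEq (K := K') (K' := F) (by rw [hK', hcardA, hF])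
  let σ : SL(2, K') →* SL(2, F) := Matrix.SpecialLinearGroup.map e.toRingHom
  have hσ : ∀ (m : SL(2, K')) (i j : Fin 2), ((σ m : SL(2, F)) : Matrix (Fin 2) (Fin 2) F) i j =
      e ((m : Matrix (Fin 2) (Fin 2) K') i j) := fun _ _ _ => rfl
  refine ⟨σ.comp (ρ.toMonoidHom.comp π), μ.symm.trans (AddEquiv.piCongrRight fun _ => e.toAddEquiv),
    hWcard, ?_, ?_, ?_⟩
  · intro m
    let σ' : SL(2, F) →* SL(2, K') := Matrix.SpecialLinearGroup.map e.symm.toRingHom
    obtain ⟨g, hg'⟩ := QuotientGroup.mk'_surjective C (ρ.symm (σ' m))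
    refine ⟨g, ?_⟩
    show σ (ρ (π g)) = m
    rw [show π g = ρ.symm (σ' m) from hg', ρ.apply_symm_apply]
    refine Subtype.ext (Matrix.ext fun i j => ?_)
    rw [hσ]
    exact e.apply_symm_apply _
  · ext g
    rw [MonoidHom.mem_ker]
    show σ (ρ (π g)) = 1 ↔ g ∈ C
    constructor
    · intro h1
      have h2 : ρ (π g) = 1 := by
        refine Subtype.ext (Matrix.ext fun i j => e.injective ?_)
        rw [← hσ, h1]
        by_cases hij : i = j <;> simp [hij]
      exact (QuotientGroup.eq_one_iff g).1 (ρ.injective (h2.trans ρ.map_one.symm))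
    · intro hgC
      rw [show π g = 1 from (QuotientGroup.eq_one_iff g).2 hgC, map_one, map_one]
  · intro g v
    refine ⟨φ g v, hφ g v, ?_⟩
    have h1 := hρ (π g) (μ.symm (Additive.ofMul v))
    rw [μ.apply_symm_apply, hf] at h1
    funext i
    show e (μ.symm (Additive.ofMul (φ g v)) i) = _
    rw [h1, μ.symm_apply_apply]
    show _ = ((σ (ρ (π g)) : SL(2, F)) : Matrix (Fin 2) (Fin 2) F).mulVec
      (fun j => e (μ.symm (Additive.ofMul v) j)) i
    simp only [Matrix.mulVec, dotProduct, map_sum, map_mul, hσ]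

end Cfsg.Agent.PushUp
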