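import Cfsg.Agent.PushRankOne.Setup
import Cfsg.Agent.Thompson.Offender.Basic

/-!
# Two `SL₂` quotients with a common Sylow kernel have the same kernel
-/

set_option autoImplicit false
set_option linter.unusedSectionVars false

namespace Cfsg.Agent.PushUp

open Subgroup Matrix Cfsg.Agent.PushRankOne
open Cfsg.Agent.Classical (rootHomSL conj_rootHomSL conj_rootHomSL_mem_of_upper sylow_sl2_conj)
open Cfsg.Agent.Offender (cj mem_cj)
open scoped MatrixGroups commutatorElement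

variable {G : Type*} [Group G] [Finite G] {p : ℕ} [Fact p.Prime]
  {S : Sylow p G} {M K : Subgroup G} {F : Type*} [Field F] [Fintype F] [CharP F p]

/-- The lower root element. -/
def lowerSL (b : F) : SL(2, F) := ⟨!![1, 0; b, 1], by simp [Matrix.det_fin_two]⟩

/-- The Weyl element. -/
def weylSL : SL(2, F) := ⟨!![0, 1; -1, 0], by simp [Matrix.det_fin_two]⟩

theorem lowerSL_val (b : F) :
    ((lowerSL b : SL(2, F)) : Matrix (Fin 2) (Fin 2) F) = !![1, 0; b, 1] := rfl

/-- Entrywise field endomorphism followed by a diagonal conjugation. -/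
def scaleSL (a : F) (ha : a ≠ 0) (σ : F →+* F) (z : SL(2, F)) : SL(2, F) :=
  ⟨!![σ (z.1 0 0), a * σ (z.1 0 1); σ (z.1 1 0) / a, σ (z.1 1 1)], by
    have := congrArg σ z.2
    rw [Matrix.det_fin_two, map_sub, map_mul, map_mul, map_one] at this
    rw [Matrix.det_fin_two_of, show a * σ (z.1 0 1) * (σ (z.1 1 0) / a) = σ (z.1 0 1) * σ (z.1 1 0) by
      field_simp]
    exact this⟩

theorem scaleSL_val (a : F) (ha : a ≠ 0) (σ : F →+* F) (z : SL(2, F)) :
    ((scaleSL a ha σ z : SL(2, F)) : Matrix (Fin 2) (Fin 2) F) =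
      !![σ (z.1 0 0), a * σ (z.1 0 1); σ (z.1 1 0) / a, σ (z.1 1 1)] := rfl

theorem root_val (a : F) :
    ((rootHomSL (Multiplicative.ofAdd a) : SL(2, F)) : Matrix (Fin 2) (Fin 2) F) = !![1, a; 0, 1] :=
  Cfsg.Agent.Classical.rootHomSL_coe _

theorem weyl_conj (a : F) :
    weylSL * rootHomSL (Multiplicative.ofAdd a) * (weylSL : SL(2, F))⁻¹ = lowerSL (-a) := by
  rw [mul_inv_eq_iff_eq_mul]
  refine Subtype.ext ?_
  rw [Matrix.SpecialLinearGroup.coe_mul, Matrix.SpecialLinearGroup.coe_mul, root_val]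
  simp [weylSL, lowerSL]

theorem weyl_inv_val :
    (((weylSL : SL(2, F))⁻¹ : SL(2, F)) : Matrix (Fin 2) (Fin 2) F) = !![0, -1; 1, 0] := by
  rw [Matrix.SpecialLinearGroup.coe_inv]
  simp [weylSL, Matrix.adjugate_fin_two_of]

theorem lowerSL_zero : lowerSL (0 : F) = 1 := Subtype.ext (by simp [lowerSL, Matrix.one_fin_two])

/-- A Sylow subgroup other than the upper one becomes the lower one after conjugation by an upper
root element. -/
theorem exists_move {h : SL(2, F)} (hh : h.1 1 0 ≠ 0) :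
    ∃ c : F, ∀ a : F, ∃ b : F,
      rootHomSL (Multiplicative.ofAdd c) * (h * rootHomSL (Multiplicative.ofAdd a) * h⁻¹) *
        (rootHomSL (Multiplicative.ofAdd c))⁻¹ = lowerSL b := by
  refine ⟨-(h.1 0 0 / h.1 1 0), fun a => ?_⟩
  set u := rootHomSL (Multiplicative.ofAdd (-(h.1 0 0 / h.1 1 0))) with hu
  set k := weylSL⁻¹ * (u * h) with hk
  have hk10 : k.1 1 0 = 0 := by
    rw [hk, Matrix.SpecialLinearGroup.coe_mul, Matrix.SpecialLinearGroup.coe_mul, weyl_inv_val, hu,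
      root_val]
    simp [Matrix.mul_apply, Fin.sum_univ_two, Matrix.vecMul, dotProduct]
    field_simp
    ring
  refine ⟨-(a * k.1 0 0 ^ 2), ?_⟩
  rw [← weyl_conj]
  have h1 := conj_rootHomSL_mem_of_upper hk10 (Multiplicative.ofAdd a)
  rw [toAdd_ofAdd] at h1
  rw [← h1, hk]
  group

variable (h : Setup₀ p S M K)

include h

theorem exists_notMem' : ∃ x : G, x ∉ M := by
  by_contra hcon
  push Not at hcon
  exact h.hM.1 (eq_top_iff.2 fun g _ => hcon g)

theorem sup_cj {x : G} (hx : x ∉ M) : (S : Subgroup G) ⊔ cj x (S : Subgroup G) = ⊤ := by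
  refine h.eq_top_of_not_le le_sup_left fun hle => ?_
  obtain ⟨s, hs, hsQ⟩ : ∃ s ∈ (S : Subgroup G), s ∉ Cfsg.pCore p G := by
    by_contra hcon
    push Not at hcon
    refine h.notNormal ?_
    rw [sup_eq_right.2 (show (S : Subgroup G) ≤ K from fun s hs =>
      (h.pCore_eq.le (hcon s hs)).2)]
    exact h.hK
  refine h.conj_notMem hs hsQ hx (hle (mem_sup_right (mem_cj.2 ?_)))
  simpa [mul_assoc] using hs

variable {ρ : G →* SL(2, F)} (hρ : Function.Surjective ρ)

include hρ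

theorem map_sylow_comm {a b : G} (ha : a ∈ (S : Subgroup G)) (hb : b ∈ (S : Subgroup G)) :
    Commute (ρ a) (ρ b) ∧ ρ a ^ p = 1 :=
  have := sylow_sl_comm p (S.mapSurjective hρ) (a := ρ a) (b := ρ b) ⟨a, ha, rfl⟩ ⟨b, hb, rfl⟩
  ⟨this.1, this.2⟩

/-- A normal subgroup mapping into the center lies in `M`. -/
theorem le_of_central {N : Subgroup G} [N.Normal]
    (hN : ∀ c ∈ N, ρ c ∈ center SL(2, F)) : N ≤ M := by
  by_contra hle
  have htop : (S : Subgroup G) ⊔ N = ⊤ :=
    h.eq_top_of_not_le le_sup_left fun hle' => hle (le_sup_right.trans hle')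
  obtain ⟨P, Q, hPQ⟩ := exists_two_sylow (F := F) p
  refine hPQ (Sylow.ext ?_)
  have hall : ∀ g, ρ g ∈ (S.mapSurjective hρ : Subgroup SL(2, F)) ⊔ center SL(2, F) := by
    intro g
    obtain ⟨s, hs, c, hc, rfl⟩ := Subgroup.mem_sup_of_normal_right.1 (htop.ge (mem_top g))
    rw [map_mul]
    exact mul_mem (mem_sup_left ⟨s, hs, rfl⟩) (mem_sup_right (hN c hc))
  set R := (S.mapSurjective hρ : Subgroup SL(2, F)) with hR
  have hRn : R.Normal := by
    refine normalizer_eq_top_iff.mp (eq_top_iff.2 fun g _ => ?_)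
    obtain ⟨g, rfl⟩ := hρ g
    refine (sup_le le_normalizer ?_ : R ⊔ center SL(2, F) ≤ normalizer (R : Set SL(2, F))) (hall g)
    exact (center_le_centralizer _).trans (centralizer_le_normalizer _)
  haveI := hRn
  letI := Sylow.unique_of_normal (S.mapSurjective hρ) hRn
  rw [Subsingleton.elim P Q]

theorem ker_le : ρ.ker ≤ M :=
  le_of_central h hρ (N := ρ.ker) fun c hc => (MonoidHom.mem_ker.1 hc).symm ▸ one_mem _

theorem inf_ker_le : (S : Subgroup G) ⊓ ρ.ker ≤ Cfsg.pCore p G :=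
  h.normal_inf_le (ker_le h hρ)

/-- Normal subgroups in `M` map into the center. -/
theorem central_of_le (hQ : Cfsg.pCore p G ≤ ρ.ker) {N : Subgroup G} [hN : N.Normal] (hNM : N ≤ M)
    {c : G} (hc : c ∈ N) : ρ c ∈ center SL(2, F) := by
  obtain ⟨x, hx⟩ := exists_notMem' h
  have hPM : ∀ m ∈ M, ∀ s ∈ (S : Subgroup G),
      ρ (m * s * m⁻¹) ∈ (S.mapSurjective hρ : Subgroup SL(2, F)) := by
    intro m hm s hs
    by_contra hne
    set P := S.mapSurjective hρ with hP
    have hne' : ρ m • P ≠ P := fun e => hne (by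
      rw [← e, Sylow.coe_subgroup_smul]
      exact ⟨ρ s, ⟨s, hs, rfl⟩, by simp⟩)
    have htop := Cfsg.Agent.Classical.sylow_sl2_sup p (ρ m • P) P hne'
    have hle : ((ρ m • P : Sylow p SL(2, F)) : Subgroup SL(2, F)) ⊔ P ≤ M.map ρ := by
      refine sup_le ?_ (map_mono h.hSM)
      rw [Sylow.coe_subgroup_smul]
      rintro _ ⟨_, ⟨t, ht, rfl⟩, rfl⟩
      exact ⟨m * t * m⁻¹, mul_mem (mul_mem hm (h.hSM ht)) (inv_mem hm), by simp⟩
    rw [htop] at hle
    refine h.hM.1 ?_
    rw [eq_top_iff]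
    intro g _
    obtain ⟨m', hm', e⟩ := hle (mem_top (ρ g))
    have := mul_mem hm' (ker_le h hρ (show m'⁻¹ * g ∈ ρ.ker by simp [MonoidHom.mem_ker, e]))
    rwa [mul_inv_cancel_left] at this
  have hcomm : ∀ d ∈ N, ∀ s ∈ (S : Subgroup G), Commute (ρ d) (ρ s) := by
    intro d hd s hs
    obtain ⟨t, ht, e⟩ := hPM d (hNM hd) s hs
    have e' : ρ (s * (s⁻¹ * t)) = ρ (d * s * d⁻¹) := by rw [mul_inv_cancel_left]; exact e
    have h1 : s⁻¹ * t ∈ N ⊔ ρ.ker := by
      have hk : (s⁻¹ * d * s * d⁻¹)⁻¹ * (s⁻¹ * t) ∈ ρ.ker := by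
        rw [MonoidHom.mem_ker, map_mul, map_inv, map_mul, map_mul, map_mul, map_inv, map_inv,
          map_mul, map_inv, e, map_mul, map_mul, map_inv]
        group
      have h2 : s⁻¹ * d * s * d⁻¹ ∈ N := mul_mem (by simpa using hN.conj_mem d hd s⁻¹) (inv_mem hd)
      have := mul_mem (mem_sup_left (T := ρ.ker) h2) (mem_sup_right (S := N) hk)
      rwa [mul_inv_cancel_left] at this
    have h3 := hQ (h.normal_inf_le (N := N ⊔ ρ.ker) (sup_le hNM (ker_le h hρ))
      ⟨(S : Subgroup G).mul_mem ((S : Subgroup G).inv_mem hs) ht, h1⟩)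
    rw [map_mul, MonoidHom.mem_ker.1 h3, mul_one, map_mul, map_mul, map_inv] at e'
    exact (mul_inv_eq_iff_eq_mul.1 e'.symm)
  rw [mem_center_iff]
  intro y
  obtain ⟨y, rfl⟩ := hρ y
  have hle : (⊤ : Subgroup G) ≤ (centralizer ({ρ c} : Set SL(2, F))).comap ρ :=
    (sup_cj h hx).ge.trans (sup_le (fun s hs => mem_centralizer_singleton_iff.2
      (hcomm c hc s hs).symm.eq) fun s hs => by
        have h1 := hcomm (x⁻¹ * c * x) (by simpa using hN.conj_mem c hc x⁻¹) _ (mem_cj.1 hs)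
        have h2 := h1.map (MulAut.conj (ρ x)).toMonoidHom
        refine mem_centralizer_singleton_iff.2 ?_
        simpa [mul_assoc] using h2.symm.eq)
  exact mem_centralizer_singleton_iff.1 (hle (mem_top y))

/-- Coordinates in which `S` is upper and a conjugate is lower. -/
theorem exists_coord (hQ : Cfsg.pCore p G ≤ ρ.ker) {x : G} (hx : x ∉ M) : ∃ ρ₁ : G →* SL(2, F),
    Function.Surjective ρ₁ ∧ ρ₁.ker = ρ.ker ∧ (∃ m : SL(2, F), ∀ y, ρ₁ y = m * ρ y * m⁻¹) ∧
    (∀ s ∈ (S : Subgroup G), ∃ a : F, ρ₁ s = rootHomSL (Multiplicative.ofAdd a)) ∧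
    (∀ a : F, ∃ s ∈ (S : Subgroup G), ρ₁ s = rootHomSL (Multiplicative.ofAdd a)) ∧
    (∀ s ∈ cj x (S : Subgroup G), ∃ b : F, ρ₁ s = lowerSL b) ∧
    (∀ b : F, ∃ s ∈ cj x (S : Subgroup G), ρ₁ s = lowerSL b) := by
  obtain ⟨g, hg⟩ := sylow_sl2_conj p (S.mapSurjective hρ)
  set ρ₀ := (MulAut.conj g⁻¹).toMonoidHom.comp ρ with hρ₀
  have hS1 : ∀ s ∈ (S : Subgroup G), ∃ a : F, ρ₀ s = rootHomSL (Multiplicative.ofAdd a) := by
    intro s hs
    obtain ⟨_, ⟨a, rfl⟩, e⟩ := hg.le ⟨s, hs, rfl⟩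
    refine ⟨a.toAdd, ?_⟩
    have e' : ρ s = g * rootHomSL a * g⁻¹ := e.symm
    show g⁻¹ * ρ s * g⁻¹⁻¹ = _
    rw [e', ofAdd_toAdd]; group
  have hS2 : ∀ a : F, ∃ s ∈ (S : Subgroup G), ρ₀ s = rootHomSL (Multiplicative.ofAdd a) := by
    intro a
    obtain ⟨s, hs, e⟩ := hg.ge ⟨_, ⟨Multiplicative.ofAdd a, rfl⟩, rfl⟩
    refine ⟨s, hs, ?_⟩
    have e' : ρ s = g * rootHomSL (Multiplicative.ofAdd a) * g⁻¹ := e
    show g⁻¹ * ρ s * g⁻¹⁻¹ = _
    rw [e']; group
  have hne : (ρ₀ x).1 1 0 ≠ 0 := by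
    intro e0
    obtain ⟨s, hs, hsQ⟩ : ∃ s ∈ (S : Subgroup G), s ∉ Cfsg.pCore p G := by
      by_contra hcon
      push Not at hcon
      refine h.notNormal ?_
      rw [sup_eq_right.2 (show (S : Subgroup G) ≤ K from fun s hs =>
        (h.pCore_eq.le (hcon s hs)).2)]
      exact h.hK
    obtain ⟨a, ha⟩ := hS1 s hs
    obtain ⟨t, ht, hta⟩ := hS2 (a * (ρ₀ x).1 0 0 ^ 2)
    have h1 : ρ₀ (x * s * x⁻¹) = ρ₀ t := by
      rw [map_mul, map_mul, map_inv, ha, conj_rootHomSL_mem_of_upper e0, toAdd_ofAdd, hta]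
    have h2 : t⁻¹ * (x * s * x⁻¹) ∈ ρ.ker := by
      rw [MonoidHom.mem_ker]
      refine (MulAut.conj g⁻¹).injective ?_
      show ρ₀ (t⁻¹ * (x * s * x⁻¹)) = _
      rw [map_mul, map_inv, h1, inv_mul_cancel, map_one]
    have h3 := mul_mem (h.hSM ht) (ker_le h hρ h2)
    rw [mul_inv_cancel_left] at h3
    exact h.conj_notMem hs hsQ hx h3
  obtain ⟨c, hc⟩ := exists_move hne
  set u := rootHomSL (Multiplicative.ofAdd c) with hu
  refine ⟨(MulAut.conj u).toMonoidHom.comp ρ₀, ?_, ?_, ⟨u * g⁻¹, fun y => ?_⟩, ?_, ?_, ?_, ?_⟩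
  · exact (MulAut.conj u).surjective.comp ((MulAut.conj g⁻¹).surjective.comp hρ)
  · ext y
    rw [MonoidHom.mem_ker, MonoidHom.mem_ker]
    show MulAut.conj u (MulAut.conj g⁻¹ (ρ y)) = 1 ↔ _
    rw [map_eq_one_iff _ (MulAut.conj u).injective, map_eq_one_iff _ (MulAut.conj g⁻¹).injective]
  · show u * (g⁻¹ * ρ y * g⁻¹⁻¹) * u⁻¹ = _
    group
  · intro s hs
    obtain ⟨a, ha⟩ := hS1 s hs
    refine ⟨a, ?_⟩
    show u * ρ₀ s * u⁻¹ = _
    rw [ha, hu, ← map_mul, mul_comm, map_mul, mul_inv_cancel_right]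
  · intro a
    obtain ⟨s, hs, ha⟩ := hS2 a
    refine ⟨s, hs, ?_⟩
    show u * ρ₀ s * u⁻¹ = _
    rw [ha, hu, ← map_mul, mul_comm, map_mul, mul_inv_cancel_right]
  · intro y hy
    obtain ⟨a, ha⟩ := hS1 _ (mem_cj.1 hy)
    obtain ⟨b, hb⟩ := hc a
    refine ⟨b, ?_⟩
    rw [← hb, ← ha, ← map_inv, ← map_mul, ← map_mul]
    show u * ρ₀ y * u⁻¹ = _
    rw [show x * (x⁻¹ * y * x) * x⁻¹ = y by group]
  · -- surjectivity
    intro b
    set k := weylSL⁻¹ * (u * ρ₀ x) with hk
    obtain ⟨a0, hb0⟩ : ∃ a0, ∀ a, u * (ρ₀ x * rootHomSL (Multiplicative.ofAdd a) * (ρ₀ x)⁻¹) * u⁻¹ =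
        lowerSL (-(a * a0)) ∧ a0 ≠ 0 := by
      have hk10 : k.1 1 0 = 0 := by
        obtain ⟨b1, hb1⟩ := hc 1
        have e : k * rootHomSL (Multiplicative.ofAdd (1 : F)) * k⁻¹ = weylSL⁻¹ * lowerSL b1 * weylSL := by
          rw [hk, ← hb1]; group
        rw [show weylSL⁻¹ * lowerSL b1 * (weylSL : SL(2, F)) = rootHomSL (Multiplicative.ofAdd (-b1)) by
          rw [show lowerSL b1 = weylSL * rootHomSL (Multiplicative.ofAdd (-b1)) * weylSL⁻¹ by
            rw [weyl_conj, neg_neg]]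
          group] at e
        have h10 := congrArg (fun z : SL(2, F) => (z : Matrix (Fin 2) (Fin 2) F) 1 0) e
        simp only [conj_rootHomSL, root_val] at h10
        simpa using h10
      refine ⟨k.1 0 0 ^ 2, fun a => ⟨?_, pow_ne_zero _ fun e0 => ?_⟩⟩
      · rw [← weyl_conj]
        have h1 := conj_rootHomSL_mem_of_upper hk10 (Multiplicative.ofAdd a)
        rw [toAdd_ofAdd] at h1
        rw [← h1, hk]
        group
      · have := k.2
        rw [Matrix.det_fin_two, hk10, e0] at this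
        simp at this
    obtain ⟨s, hs, ha⟩ := hS2 (-b / a0)
    refine ⟨x * s * x⁻¹, mem_cj.2 (by simpa [mul_assoc] using hs), ?_⟩
    show u * ρ₀ (x * s * x⁻¹) * u⁻¹ = _
    rw [map_mul, map_mul, map_inv, ha, (hb0 _).1, div_mul_cancel₀ _ (hb0 0).2, neg_neg]

variable {ρ' : G →* SL(2, F)} (hρ' : Function.Surjective ρ')

include hρ'

/-- The graph argument for odd `p`. -/
theorem ker_le_ker_odd (h2 : (2 : F) ≠ 0) (hQ : Cfsg.pCore p G ≤ ρ.ker)
    (hQ' : Cfsg.pCore p G ≤ ρ'.ker) : ρ.ker ≤ ρ'.ker := by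
  classical
  obtain ⟨x, hx⟩ := exists_notMem' h
  obtain ⟨r, hr, hrk, -, hrS, hrS', hrX, hrX'⟩ := exists_coord h hρ hQ hx
  obtain ⟨r', hr', hrk', -, hrS₂, -, hrX₂, -⟩ := exists_coord h hρ' hQ' hx
  rw [← hrk, ← hrk']
  rw [← hrk] at hQ
  rw [← hrk'] at hQ'
  -- `r'` respects equality on `p`-elements
  have hN : ∀ z, r z ∈ center SL(2, F) → r' z ∈ center SL(2, F) := fun z hz => by
    haveI : ((center SL(2, F)).comap r).Normal := inferInstance
    exact central_of_le h hr' hQ' (le_of_central h hr fun c hc => hc) (show z ∈ (center _).comap r from hz)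
  have hkey : ∀ {y z : G}, r y = r z → r' y ^ p = 1 → r' z ^ p = 1 → r' y = r' z := by
    intro y z e h1 h2'
    have hz : r' (z⁻¹ * y) ∈ center SL(2, F) :=
      hN _ (by rw [map_mul, map_inv, e, inv_mul_cancel]; exact one_mem _)
    have hc : Commute (r' z) (r' (z⁻¹ * y)) := (mem_center_iff.1 hz (r' z))
    have h3 : (r' (z⁻¹ * y)) ^ p = 1 := by
      have := hc.mul_pow p
      rw [← map_mul, mul_inv_cancel_left, h1, h2', one_mul] at this
      exact this.symm
    have h4 := eq_one_of_center_pow p hz h3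
    rw [map_mul, map_inv] at h4
    exact (inv_mul_eq_one.1 h4).symm
  have hpS : ∀ s ∈ (S : Subgroup G), r' s ^ p = 1 := fun s hs => (map_sylow_comm h hr' hs hs).2
  have hpX : ∀ s ∈ cj x (S : Subgroup G), r' s ^ p = 1 := fun s hs => by
    have := hpS _ (mem_cj.1 hs)
    rw [map_mul, map_mul, map_inv] at this
    have h2' := congrArg (fun t => r' x * t * (r' x)⁻¹) this
    simp only [← conj_pow] at h2'
    rw [show r' x * ((r' x)⁻¹ * r' s * r' x) * (r' x)⁻¹ = r' s by group] at h2'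
    simpa using h2'
  -- the two maps on root groups
  choose us hus hus' using hrS'
  choose xs hxs hxs' using hrX'
  let f : F → F := fun a => (r' (us a)).1 0 1
  let g : F → F := fun b => (r' (xs b)).1 1 0
  have hf : ∀ a, r' (us a) = rootHomSL (Multiplicative.ofAdd (f a)) := fun a => by
    obtain ⟨c, hc⟩ := hrS₂ _ (hus a)
    simp [f, hc, root_val]
  have hg : ∀ b, r' (xs b) = lowerSL (g b) := fun b => by
    obtain ⟨c, hc⟩ := hrX₂ _ (hxs b)
    simp [g, hc, lowerSL_val]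
  have hfS : ∀ s ∈ (S : Subgroup G), ∀ a, r s = rootHomSL (Multiplicative.ofAdd a) →
      r' s = rootHomSL (Multiplicative.ofAdd (f a)) := fun s hs a e => by
    rw [← hf]; exact hkey (e.trans (hus' a).symm) (hpS s hs) (hpS _ (hus a))
  have hroot : ∀ a b : F, rootHomSL (Multiplicative.ofAdd a) = rootHomSL (Multiplicative.ofAdd b) →
      a = b := fun a b e => Multiplicative.ofAdd.injective (Cfsg.Agent.Classical.rootHomSL_injective e)
  have hadd : ∀ a b, f (a + b) = f a + f b := fun a b => by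
    refine hroot _ _ ?_
    rw [← hfS _ (mul_mem (hus a) (hus b)) (a + b) (by rw [map_mul, hus', hus', ← map_mul]; rfl),
      map_mul, hf, hf, ← map_mul]
    rfl
  have hf0 : f 0 = 0 := by have := hadd 0 0; rw [add_zero] at this; exact left_eq_add.mp this
  have hinj : ∀ a, f a = 0 → a = 0 := fun a ha => by
    have h1 : us a ∈ r'.ker := by rw [MonoidHom.mem_ker, hf, ha]; exact map_one _
    have h3 := MonoidHom.mem_ker.1 (hQ (inf_ker_le h hr' ⟨hus a, h1⟩))
    rw [hus'] at h3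
    exact hroot a 0 (h3.trans (map_one _).symm)
  -- the Weyl elements
  set m : F → G := fun t => us t * xs (-t⁻¹) * us t with hm
  have hrm : ∀ t, t ≠ 0 → (r (m t)).1 = !![0, t; -t⁻¹, 0] := by
    intro t ht
    rw [hm, map_mul, map_mul, hus', hxs', Matrix.SpecialLinearGroup.coe_mul,
      Matrix.SpecialLinearGroup.coe_mul, root_val, lowerSL_val]
    ext i j
    fin_cases i <;> fin_cases j <;> simp [Matrix.mul_apply, Fin.sum_univ_two] <;> field_simp <;> ring_nf <;> simp [ht]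
  have hr'm : ∀ t, (r' (m t)).1 = !![1 + f t * g (-t⁻¹), f t * (2 + f t * g (-t⁻¹));
      g (-t⁻¹), 1 + f t * g (-t⁻¹)] := by
    intro t
    rw [hm, map_mul, map_mul, hf, hg, Matrix.SpecialLinearGroup.coe_mul,
      Matrix.SpecialLinearGroup.coe_mul, root_val, lowerSL_val]
    ext i j
    fin_cases i <;> fin_cases j <;> simp [Matrix.mul_apply, Fin.sum_univ_two] <;> ring
  have hfg : ∀ t, t ≠ 0 → f t * g (-t⁻¹) = -1 := by
    intro t ht
    obtain ⟨b, hb⟩ : ∃ b, r (m t * us 1 * (m t)⁻¹) = lowerSL b := ⟨-(1 * t⁻¹ ^ 2), Subtype.ext (by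
      rw [map_mul, map_mul, map_inv, hus', conj_rootHomSL, hrm t ht, lowerSL_val]
      simp)⟩
    have hp1 : r' (m t * us 1 * (m t)⁻¹) ^ p = 1 := by
      rw [map_mul, map_mul, map_inv, conj_pow, hpS _ (hus 1), mul_one, mul_inv_cancel]
    have e := hkey (hb.trans (hxs' b).symm) hp1 (hpX _ (hxs b))
    have e01 := congrArg (fun z : SL(2, F) => z.1 0 1) e
    simp only [map_mul, map_inv, hf, conj_rootHomSL, hg, lowerSL_val, hr'm, toAdd_ofAdd] at e01
    simp at e01
    rcases e01 with e1 | e1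
    · exact absurd (hinj 1 e1) one_ne_zero
    · exact (eq_neg_of_add_eq_zero_right e1)
  have hsq : ∀ t a, t ≠ 0 → f (t ^ 2 * a) * f 1 ^ 2 = f t ^ 2 * f a := by
    intro t a ht
    set k := m t * m 1 with hk
    have hrk1 : (r k).1 = !![-t, 0; 0, -t⁻¹] := by
      rw [hk, map_mul, Matrix.SpecialLinearGroup.coe_mul, hrm t ht, hrm 1 one_ne_zero]
      ext i j
      fin_cases i <;> fin_cases j <;> simp [Matrix.mul_apply, Fin.sum_univ_two]
    have h1 : r (k * us a * k⁻¹) = r (us (t ^ 2 * a)) := by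
      rw [map_mul, map_mul, map_inv, hus', hus', conj_rootHomSL_mem_of_upper (by rw [hrk1]; simp),
        hrk1, toAdd_ofAdd]
      congr 2
      simp; ring
    have hp1 : r' (k * us a * k⁻¹) ^ p = 1 := by
      rw [map_mul, map_mul, map_inv, conj_pow, hpS _ (hus a), mul_one, mul_inv_cancel]
    have e := hkey h1 hp1 (hpS _ (hus _))
    have hr'k : (r' k).1 = !![f t * g (-1⁻¹), 0; 0, g (-t⁻¹) * f 1] := by
      rw [hk, map_mul, Matrix.SpecialLinearGroup.coe_mul, hr'm, hr'm, hfg t ht, hfg 1 one_ne_zero]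
      ext i j
      fin_cases i <;> fin_cases j <;> simp [Matrix.mul_apply, Fin.sum_univ_two] <;> ring_nf <;> simp
    rw [map_mul, map_mul, map_inv, hf, hf, conj_rootHomSL_mem_of_upper (by rw [hr'k]; simp), hr'k,
      toAdd_ofAdd] at e
    have e2 := hroot _ _ e
    simp at e2
    have hg1 := hfg 1 one_ne_zero
    simp at hg1
    rw [← e2]
    linear_combination (f a * f t ^ 2 * (f 1 * g (-1) - 1)) * hg1
  have ha0 : f 1 ≠ 0 := fun e => one_ne_zero (hinj 1 e)
  let σf : F → F := fun a => f a / f 1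
  have hσsq : ∀ t, σf (t ^ 2) = σf t ^ 2 := by
    intro t
    by_cases ht : t = 0
    · simp [σf, ht, hf0]
    · have := hsq t 1 ht
      rw [mul_one] at this
      simp only [σf]
      field_simp
      refine mul_left_cancel₀ ha0 ?_
      linear_combination this
  have hσadd : ∀ a b, σf (a + b) = σf a + σf b := fun a b => by simp [σf, hadd, add_div]
  have hσmul : ∀ a b, σf (a * b) = σf a * σf b := by
    intro a b
    have e1 := hσsq (a + b)
    rw [show (a + b) ^ 2 = a ^ 2 + (a * b + a * b) + b ^ 2 by ring, hσadd, hσadd, hσadd, hσadd,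
      hσsq, hσsq] at e1
    refine mul_left_cancel₀ h2 ?_
    linear_combination e1
  let σ : F →+* F :=
    { toFun := σf
      map_one' := by simp [σf, ha0]
      map_mul' := hσmul
      map_zero' := by simp [σf, hf0]
      map_add' := hσadd }
  let Θ : SL(2, F) →* SL(2, F) :=
    { toFun := scaleSL (f 1) ha0 σ
      map_one' := Subtype.ext (by
        rw [scaleSL_val]
        ext i j
        fin_cases i <;> fin_cases j <;> simp)
      map_mul' := fun y z => Subtype.ext (by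
        rw [scaleSL_val, Matrix.SpecialLinearGroup.coe_mul, Matrix.SpecialLinearGroup.coe_mul,
          scaleSL_val, scaleSL_val]
        ext i j
        fin_cases i <;> fin_cases j <;>
          simp [Matrix.mul_apply, Fin.sum_univ_two] <;> field_simp) }
  have hg' : ∀ b, g b = σ b / f 1 := by
    intro b
    by_cases hb : b = 0
    · subst hb
      have h1 : r' (xs 0) = 1 := by
        rw [← map_one r']
        exact hkey (by rw [hxs', map_one, lowerSL_zero]) (hpX _ (hxs 0)) (by rw [map_one, one_pow])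
      simp [g, h1]
    · have h1 := hfg (-b⁻¹) (by simpa using hb)
      rw [inv_neg, inv_inv, neg_neg] at h1
      have h2' : σ (-b⁻¹) * σ b = -1 := by
        rw [← map_mul, neg_mul, inv_mul_cancel₀ hb, map_neg, map_one]
      have h3 : f (-b⁻¹) = f 1 * σ (-b⁻¹) := by
        show _ = f 1 * (f (-b⁻¹) / f 1)
        field_simp
      rw [h3] at h1
      have hne : σ (-b⁻¹) ≠ 0 := fun e => by simp [e] at h2'
      field_simp
      refine mul_left_cancel₀ hne ?_
      linear_combination h1 - h2'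
  have heq : r' = Θ.comp r := by
    refine MonoidHom.eq_of_eqOn_top fun y _ => ?_
    refine (sup_le ?_ ?_ : (S : Subgroup G) ⊔ cj x (S : Subgroup G) ≤ r'.eqLocus (Θ.comp r))
      ((sup_cj h hx).ge (mem_top y))
    · intro s hs
      obtain ⟨a, ha⟩ := hrS s hs
      show r' s = Θ (r s)
      rw [hfS s hs a ha, ha]
      refine Subtype.ext ?_
      show _ = ((scaleSL (f 1) ha0 σ _ : SL(2, F)) : Matrix (Fin 2) (Fin 2) F)
      rw [scaleSL_val, root_val, root_val]
      ext i j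
      fin_cases i <;> fin_cases j <;> simp
      show _ = f 1 * (f a / f 1)
      field_simp
    · intro s hs
      obtain ⟨b, hb⟩ := hrX s hs
      show r' s = Θ (r s)
      rw [hkey (hb.trans (hxs' b).symm) (hpX s hs) (hpX _ (hxs b)), hg, hb, hg']
      refine Subtype.ext ?_
      show _ = ((scaleSL (f 1) ha0 σ _ : SL(2, F)) : Matrix (Fin 2) (Fin 2) F)
      rw [scaleSL_val, lowerSL_val, lowerSL_val]
      ext i j
      fin_cases i <;> fin_cases j <;> simp
  intro z hz
  rw [MonoidHom.mem_ker, heq, MonoidHom.comp_apply, MonoidHom.mem_ker.1 hz, map_one]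

theorem ker_eq_ker (hQ : Cfsg.pCore p G ≤ ρ.ker) (hQ' : Cfsg.pCore p G ≤ ρ'.ker) :
    ρ.ker = ρ'.ker := by
  by_cases hp : p = 2
  · refine le_antisymm ?_ ?_ <;> intro z hz
    · rcases center_val p (central_of_le h hρ' hQ' (ker_le h hρ) hz) with h1 | h1
      · exact h1
      · exact absurd hp h1.2
    · rcases center_val p (central_of_le h hρ hQ (ker_le h hρ') hz) with h1 | h1
      · exact h1
      · exact absurd hp h1.2
  · have h2 : (2 : F) ≠ 0 := by
      intro e
      have hd : p ∣ 2 := (CharP.cast_eq_zero_iff F p 2).1 (by exact_mod_cast e)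
      exact hp ((Nat.prime_dvd_prime_iff_eq Fact.out Nat.prime_two).1 hd)
    exact le_antisymm (ker_le_ker_odd h hρ hρ' h2 hQ hQ') (ker_le_ker_odd h hρ' hρ h2 hQ' hQ)

end Cfsg.Agent.PushUp
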