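import Cfsg.Agent.PushUp.Cases
import Cfsg.Agent.PushUp.Recognise
import Cfsg.Agent.PushUp.SLPair

/-!
# Pushing up in rank one: the structure of the noncentral chief factors
-/

set_option autoImplicit false
set_option linter.unusedSectionVars false

namespace Cfsg.Agent.PushUp

open Subgroup Cfsg.Agent.PushRankOne
open Cfsg.Agent.Offender (cj mem_cj)
open scoped commutatorElement MatrixGroups

variable {G : Type*} [Group G] [Finite G] {p : ℕ} [Fact p.Prime] {S : Sylow p G}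
  {M K V : Subgroup G}

theorem card_sylow_psl {F : Type*} [Field F] [Fintype F] [CharP F p]
    (P : Sylow p (Matrix.ProjectiveSpecialLinearGroup (Fin 2) F)) :
    Nat.card (P : Subgroup (Matrix.ProjectiveSpecialLinearGroup (Fin 2) F)) = Fintype.card F := by
  obtain ⟨P₀, hP₀⟩ := exists_lift p P
  rw [← hP₀]
  let f : ↥(P₀ : Subgroup SL(2, F)) →* Matrix.ProjectiveSpecialLinearGroup (Fin 2) F :=
    proj.comp (P₀ : Subgroup SL(2, F)).subtype
  have hr : f.range = (P₀ : Subgroup SL(2, F)).map proj := by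
    rw [MonoidHom.range_eq_map, ← Subgroup.map_map, ← MonoidHom.range_eq_map, Subgroup.range_subtype]
  have hinj : Function.Injective f := by
    refine (injective_iff_map_eq_one f).2 fun y hy => ?_
    have hc : (y : SL(2, F)) ∈ center SL(2, F) := (QuotientGroup.eq_one_iff _).1 hy
    exact Subtype.ext (eq_one_of_center_pow p hc (sylow_sl_comm p P₀ y.2 y.2).2)
  rw [← hr, ← Nat.card_congr (MonoidHom.ofInjective hinj).toEquiv]
  obtain ⟨g, hg⟩ := Cfsg.Agent.Classical.sylow_sl2_conj p P₀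
  rw [hg, card_map_of_injective (f := (MulAut.conj g).toMonoidHom) (MulAut.conj g).injective,
    ← Nat.card_congr (MonoidHom.ofInjective
      (Cfsg.Agent.Classical.rootHomSL_injective (F := F))).toEquiv,
    Nat.card_congr Multiplicative.toAdd, Nat.card_eq_fintype_card]

theorem card_sylow [K.Normal] (h : Setup₀ p S M K) (F : Type*) [Field F] [Fintype F] [CharP F p]
    (e : Nonempty (G ⧸ K ≃* Matrix.ProjectiveSpecialLinearGroup (Fin 2) F)) :
    Nat.card (S : Subgroup G) = Fintype.card F * Nat.card (Cfsg.pCore p G) := by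
  obtain ⟨e⟩ := e
  let π : G →* Matrix.ProjectiveSpecialLinearGroup (Fin 2) F :=
    e.toMonoidHom.comp (QuotientGroup.mk' K)
  have hπ : Function.Surjective π := e.surjective.comp (QuotientGroup.mk'_surjective K)
  let f : ↥(S : Subgroup G) →* Matrix.ProjectiveSpecialLinearGroup (Fin 2) F :=
    π.comp (S : Subgroup G).subtype
  have hr : f.range = (S.mapSurjective hπ : Subgroup _) := by
    rw [MonoidHom.range_eq_map, ← Subgroup.map_map, ← MonoidHom.range_eq_map, Subgroup.range_subtype]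
    rfl
  have hk : f.ker = (Cfsg.pCore p G).subgroupOf (S : Subgroup G) := by
    ext y
    rw [MonoidHom.mem_ker]
    show e (QuotientGroup.mk (y : G)) = 1 ↔ (y : G) ∈ Cfsg.pCore p G
    rw [map_eq_one_iff e e.injective, QuotientGroup.eq_one_iff, h.pCore_eq, mem_inf]
    exact ⟨fun hy => ⟨y.2, hy⟩, fun hy => hy.2⟩
  have e1 := Subgroup.card_eq_card_quotient_mul_card_subgroup f.ker
  rwa [Nat.card_congr (QuotientGroup.quotientKerEquivRange f).toEquiv, hr, card_sylow_psl, hk,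
    Nat.card_congr (subgroupOfEquivOfLe (h.pCore_eq.le.trans inf_le_left)).toEquiv] at e1

namespace Ctx

variable (c : Ctx p S M K V) {F : Type*} [Field F] [Fintype F] {n : ℕ}

include c

/-- The representation on a noncentral chief factor in `O_p(G)`. -/
theorem chief_natural (hF : Fintype.card F = p ^ n)
    (hq : Nat.card (S : Subgroup G) = p ^ n * Nat.card (Cfsg.pCore p G))
    {U W : Subgroup G} [W.Normal] (hc : Cfsg.IsChiefFactor U W) (hUQ : U ≤ Cfsg.pCore p G)
    (hnc : ¬ ⁅U, (⊤ : Subgroup G)⁆ ≤ W) :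
    Cfsg.IsNaturalSL2Module F (U.map (QuotientGroup.mk' W)) (⊤ : Subgroup (G ⧸ W)) ∧
      (∃ ρ : G →* SL(2, F), Function.Surjective ρ ∧ Cfsg.pCore p G ≤ ρ.ker ∧
        ∀ g ∈ ρ.ker, ∀ u ∈ U, ⁅g, u⁆ ∈ W) ∧
      Nat.card (fix (S : Subgroup G) U W) = p ^ n * Nat.card W ∧
      Nat.card U = p ^ n * (p ^ n * Nat.card W) := by
  haveI := hc.2.1
  have hWQ : W ≤ Cfsg.pCore p G := hc.1.le.trans hUQ
  set π := QuotientGroup.mk' W with hπ
  have hs : Function.Surjective π := QuotientGroup.mk'_surjective W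
  have hk : π.ker = W := QuotientGroup.ker_mk' W
  have h0 := setup_quot c.st.toSetup₀ W hWQ
  set S' := S.mapSurjective (f := π) hs with hS'
  have hS'e : (S' : Subgroup (G ⧸ W)) = (S : Subgroup G).map π := rfl
  set Q := Cfsg.pCore p G with hQdef
  have hπ1 : ∀ g, π g = 1 ↔ g ∈ W := fun g => QuotientGroup.eq_one_iff g
  have hπc : ∀ g u : G, Commute (π g) (π u) ↔ ⁅g, u⁆ ∈ W := fun g u => by
    rw [← hπ1, map_commutatorElement, commutatorElement_eq_one_iff_mul_comm]
    rfl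
  have hQ' : Cfsg.pCore p (G ⧸ W) = Q.map π := by
    rw [h0.pCore_eq]
    refine le_antisymm ?_ (le_inf (map_mono c.QS) (map_mono (c.st.pCore_eq.le.trans inf_le_right)))
    rintro y ⟨hy, hyK⟩
    obtain ⟨s, hs', rfl⟩ := hy
    obtain ⟨k, hk', e⟩ := hyK
    have h1 : k⁻¹ * s ∈ W := QuotientGroup.eq.1 e
    have h2 := K.mul_mem hk' (hWQ.trans (c.st.pCore_eq.le.trans inf_le_right) h1)
    rw [mul_inv_cancel_left] at h2
    exact ⟨s, c.st.pCore_eq.ge ⟨hs', h2⟩, rfl⟩
  set U' := U.map π with hU'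
  have hU'n : U'.Normal := Subgroup.Normal.map inferInstance π hs
  have hmemU : ∀ {g : G}, π g ∈ U' → g ∈ U := fun {g} ⟨u, hu, e⟩ => by
    have := U.mul_mem hu (hc.1.le (QuotientGroup.eq.1 e))
    rwa [mul_inv_cancel_left] at this
  have hQc := c.chief_Q hc hUQ
  -- elementary abelian
  have hab : U' ≤ centralizer (U' : Set (G ⧸ W)) := by
    rintro _ ⟨a, ha, rfl⟩
    refine mem_centralizer_iff.2 ?_
    rintro _ ⟨b, hb, rfl⟩
    exact ((hπc b a).2 (hQc (hUQ hb) a ha)).eq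
  have hEA : Cfsg.IsElementaryAbelian p U' := by
    refine Thompson.ea_iff.2 ⟨hab, ?_⟩
    have hpow : ∀ {a b : G}, a ∈ U → b ∈ U → π (a * b) ^ p = π a ^ p * π b ^ p := fun {a b} ha hb => by
      rw [map_mul]
      exact ((hπc a b).2 (hQc (hUQ ha) b hb)).mul_pow p
    let N : Subgroup G :=
      { carrier := {u | u ∈ U ∧ π u ^ p = 1}
        one_mem' := ⟨one_mem _, by rw [map_one, one_pow]⟩
        mul_mem' := fun {a b} ha hb => ⟨mul_mem ha.1 hb.1, by
          rw [hpow ha.1 hb.1, ha.2, hb.2, one_mul]⟩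
        inv_mem' := fun {a} ha => ⟨inv_mem ha.1, by rw [map_inv, inv_pow, ha.2, inv_one]⟩ }
    haveI : N.Normal := ⟨fun u hu g => ⟨(inferInstance : U.Normal).conj_mem u hu.1 g, by
      rw [map_mul, map_mul, map_inv, conj_pow, hu.2, mul_one, mul_inv_cancel]⟩⟩
    have hWN : W ≤ N := fun w hw => ⟨hc.1.le hw, by rw [(hπ1 w).2 hw, one_pow]⟩
    rcases hc.2.2.2 N inferInstance hWN (fun u hu => hu.1) with e | e
    · exfalso
      obtain ⟨u, hu, huW⟩ := SetLike.exists_of_lt hc.1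
      obtain ⟨k, hk'⟩ : ∃ k : ℕ, π u ^ p ^ k = 1 := by
        obtain ⟨k, hk'⟩ := S.2 ⟨u, c.QS (hUQ hu)⟩
        have h1 : u ^ p ^ k = 1 := congrArg Subtype.val hk'
        exact ⟨k, by rw [← map_pow, h1, map_one]⟩
      induction k generalizing u with
      | zero => exact huW ((hπ1 u).1 (by simpa using hk'))
      | succ k ih =>
        by_cases hp : π u ^ p = 1
        · exact huW (e.le (show u ∈ N from ⟨hu, hp⟩))
        · refine ih (u ^ p) (pow_mem hu p) (fun hW => hp ?_) ?_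
          · rw [← map_pow]; exact (hπ1 _).2 hW
          · rw [map_pow, ← pow_mul, ← pow_succ']; exact hk'
    · rintro _ ⟨u, hu, rfl⟩
      exact (e.ge hu : u ∈ N).2
  -- centralizer
  haveI : (cent U W).Normal := inferInstance
  have hcentM : cent U W ≤ M := by
    by_contra hle
    exact hnc (c.chief_central hc hUQ (cent U W) (fun g hg => hg) (c.sup_eq_top hle))
  have hC' : ∀ g : G, π g ∈ centralizer (U' : Set (G ⧸ W)) ↔ g ∈ cent U W := by
    intro g
    rw [mem_centralizer_iff]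
    constructor
    · exact fun hh u hu => (hπc g u).1 (hh (π u) ⟨u, hu, rfl⟩).symm
    · rintro hh _ ⟨u, hu, rfl⟩
      exact ((hπc g u).2 (hh u hu)).symm.eq
  have hQint : (S' : Subgroup (G ⧸ W)) ⊓ centralizer (U' : Set (G ⧸ W)) = Cfsg.pCore p (G ⧸ W) := by
    rw [hQ']
    refine le_antisymm ?_ ?_
    · rintro _ ⟨⟨s, hs', rfl⟩, hsc⟩
      exact ⟨s, c.st.toSetup₀.normal_inf_le hcentM ⟨hs', (hC' s).1 hsc⟩, rfl⟩
    · rintro _ ⟨q, hq', rfl⟩
      exact ⟨⟨q, c.QS hq', rfl⟩, (hC' q).2 (hQc hq')⟩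
  have hcentral : ∀ u ∈ U, π u ∈ center (G ⧸ W) → u ∈ W := by
    intro u hu hu'
    by_contra huW
    haveI := fix_normal (Q := (⊤ : Subgroup G)) (U := U) (W := W)
    have hW : W ≤ fix ⊤ U W := fun w hw => ⟨hc.1.le hw, fun s _ => by
      rw [commutatorElement_def]
      exact mul_mem ((inferInstance : W.Normal).conj_mem w hw s) (inv_mem hw)⟩
    have hmem : u ∈ fix ⊤ U W := ⟨hu, fun g _ => (hπc g u).1 (mem_center_iff.1 hu' (π g))⟩
    rcases hc.2.2.2 _ inferInstance hW (fun x hx => hx.1) with e | e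
    · exact huW (e ▸ hmem)
    · exact hnc (commutator_le.2 fun w hw g _ => by
        rw [← commutatorElement_inv]
        exact inv_mem ((e.ge hw : w ∈ fix ⊤ U W).2 g (mem_top g)))
  have hirr : U' ⊓ center (G ⧸ W) = ⊥ := by
    rw [eq_bot_iff]
    rintro _ ⟨⟨u, hu, rfl⟩, hu'⟩
    exact mem_bot.2 ((hπ1 u).2 (hcentral u hu hu'))
  obtain ⟨z, hz, hzW⟩ := exists_fix_notMem S.2 hc.1 (hUQ.trans c.QS)
  have hg : Ground p S' U' (π z) :=
    { hVn := hU'n, hV := hEA, hQ := hQint, hzV := ⟨z, hz.1, rfl⟩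
      hzS := by
        refine mem_centralizer_iff.2 ?_
        rintro _ ⟨s, hs', rfl⟩
        exact ((hπc s z).2 (hz.2 s hs')).eq
      hzG := fun hh => hzW (hcentral z hz.1 hh) }
  have hfix : U' ⊓ centralizer ((S' : Subgroup (G ⧸ W)) : Set (G ⧸ W)) =
      (fix (S : Subgroup G) U W).map π := by
    refine le_antisymm ?_ ?_
    · rintro _ ⟨⟨u, hu, rfl⟩, huS⟩
      exact ⟨u, ⟨hu, fun s hs' => (hπc s u).1 (mem_centralizer_iff.1 huS (π s) ⟨s, hs', rfl⟩)⟩, rfl⟩
    · rintro _ ⟨u, hu, rfl⟩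
      refine ⟨⟨u, hu.1, rfl⟩, mem_centralizer_iff.2 ?_⟩
      rintro _ ⟨s, hs', rfl⟩
      exact ((hπc s u).2 (hu.2 s hs')).eq
  have hWfix : W ≤ fix (S : Subgroup G) U W := fun w hw => ⟨hc.1.le hw, fun s _ => by
    rw [commutatorElement_def]
    exact mul_mem ((inferInstance : W.Normal).conj_mem w hw s) (inv_mem hw)⟩
  have eU := card_map_mk (W := W) (X := U) hc.1.le
  have eQ := card_map_mk (W := W) (X := Q) hWQ
  have eS := card_map_mk (W := W) (X := (S : Subgroup G)) (hWQ.trans c.QS)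
  have ef := card_map_mk (W := W) (X := fix (S : Subgroup G) U W) hWfix
  have hb : Nat.card U' * Nat.card (Cfsg.pCore p (G ⧸ W)) ≤ Nat.card (S' : Subgroup (G ⧸ W)) *
      Nat.card (U' ⊓ centralizer ((S' : Subgroup (G ⧸ W)) : Set (G ⧸ W)) : Subgroup (G ⧸ W)) := by
    rw [hfix, hQ', hS'e]
    have hle := c.ff_bound hc hUQ hnc
    rw [← eU, ← eQ, ← eS, ← ef] at hle
    refine Nat.le_of_mul_le_mul_right ?_ (Nat.mul_pos (Nat.card_pos (α := W)) (Nat.card_pos (α := W)))
    calc _ = Nat.card (U.map π) * Nat.card W * (Nat.card (Q.map π) * Nat.card W) := by ring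
      _ ≤ _ := hle
      _ = _ := by ring
  have hq' : Nat.card (S' : Subgroup (G ⧸ W)) = p ^ n * Nat.card (Cfsg.pCore p (G ⧸ W)) := by
    rw [hQ', hS'e]
    refine Nat.eq_of_mul_eq_mul_right (Nat.card_pos (α := W)) ?_
    rw [mul_assoc, eS, eQ, hq]
  obtain ⟨ρ, ψ, hWc, hρs, hρk, hact⟩ := natural_of_ff h0 hg hirr hb F n hF hq'
  refine ⟨⟨?_, ρ.comp (⊤ : Subgroup (G ⧸ W)).subtype, ψ, fun m => ?_, ?_, fun l v => hact l v⟩,
    ⟨ρ.comp π, hρs.comp hs, ?_, ?_⟩, ?_, ?_⟩
  · rw [normalizer_eq_top_iff.2 hU'n]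
  · obtain ⟨g, hg'⟩ := hρs m
    exact ⟨⟨g, mem_top g⟩, hg'⟩
  · rw [← MonoidHom.comap_ker, hρk]
    rfl
  · intro q hq''
    rw [MonoidHom.mem_ker, MonoidHom.comp_apply, ← MonoidHom.mem_ker, hρk]
    exact (hC' q).2 (hQc hq'')
  · intro g hg' u hu
    rw [MonoidHom.mem_ker, MonoidHom.comp_apply, ← MonoidHom.mem_ker, hρk] at hg'
    exact (hC' g).1 hg' u hu
  · rw [← ef, ← hfix, hWc]
  · rw [← eU]
    have h1 : Nat.card U' = p ^ n * p ^ n := by
      rw [show Nat.card U' = Nat.card (Additive ↥U') from rfl, Nat.card_congr ψ.toEquiv, Nat.card_fun,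
        Nat.card_fin, Nat.card_eq_fintype_card, hF, sq]
    rw [h1, mul_assoc]

/-- An element of order prime to `p` that acts trivially on every noncentral chief factor
centralizes the normal subgroup. -/
theorem centralize_of_chief {x : G} {r : ℕ} (hr : r.Coprime p) (hx : x ^ r = 1)
    (hcf : ∀ U W : Subgroup G, U ≤ Cfsg.pCore p G → Cfsg.IsChiefFactor U W →
      ∀ u ∈ U, ⁅x, u⁆ ∈ W) :
    x ∈ centralizer (Cfsg.pCore p G : Set G) := by
  suffices key : ∀ (m : ℕ) (N : Subgroup G), N.Normal → N ≤ Cfsg.pCore p G → Nat.card N ≤ m →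
      x ∈ centralizer (N : Set G) from
    key _ _ inferInstance le_rfl le_rfl
  intro m
  induction m with
  | zero => exact fun N _ _ h => absurd h (by have := Nat.card_pos (α := N); omega)
  | succ m ih =>
    intro N hN hNQ hcard
    refine mem_centralizer_iff.2 fun u hu => ?_
    by_cases hu1 : N = ⊥
    · rw [hu1] at hu
      rw [mem_bot.1 hu, one_mul, mul_one]
    obtain ⟨W, ⟨hWn, hWN⟩, hmax⟩ := Set.exists_max_image {W : Subgroup G | W.Normal ∧ W < N}
      (fun W => Nat.card W) (Set.toFinite _) ⟨⊥, inferInstance, bot_lt_iff_ne_bot.2 hu1⟩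
    haveI := hWn
    have hc : Cfsg.IsChiefFactor N W := by
      refine ⟨hWN, hN, hWn, fun X hX hWX hXN => ?_⟩
      by_cases e : X = N
      · exact Or.inr e
      · exact Or.inl (eq_of_le_of_card_ge hWX (hmax X ⟨hX, lt_of_le_of_ne hXN e⟩)).symm
    have hlt : Nat.card W < Nat.card N :=
      lt_of_le_of_ne (card_le_of_le hWN.le) fun e => hWN.ne (eq_of_le_of_card_ge hWN.le e.ge)
    have hW := ih W hWn (hWN.le.trans hNQ) (by omega)
    have hw := hcf N W hNQ hc u hu
    set w := ⁅x, u⁆ with hwdef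
    have hxw : Commute x w := (mem_centralizer_iff.1 hW w hw).symm
    have hpow : ∀ k : ℕ, x ^ k * u * (x ^ k)⁻¹ = w ^ k * u := by
      intro k
      induction k with
      | zero => simp
      | succ k ihk =>
        calc x ^ (k + 1) * u * (x ^ (k + 1))⁻¹ = x * (x ^ k * u * (x ^ k)⁻¹) * x⁻¹ := by
              rw [pow_succ']; group
          _ = x * w ^ k * (u * x⁻¹) := by rw [ihk]; group
          _ = w ^ k * (x * u * x⁻¹) := by rw [(hxw.pow_right k).eq]; group
          _ = _ := by rw [show x * u * x⁻¹ = w * u by rw [hwdef, commutatorElement_def]; group,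
              ← mul_assoc, ← pow_succ]
    have h1 := hpow r
    rw [hx, one_mul, inv_one, mul_one, eq_comm, mul_eq_right] at h1
    obtain ⟨k, hk⟩ := S.2 ⟨w, c.QS (hNQ (hWN.le hw))⟩
    have h2 : w ^ p ^ k = 1 := congrArg Subtype.val hk
    have h3 := (pow_gcd_eq_one (a := w)).2 ⟨h1, h2⟩
    rw [Nat.Coprime.gcd_eq_one (hr.pow_right k), pow_one] at h3
    rw [hwdef, commutatorElement_eq_one_iff_mul_comm] at h3
    exact h3.symm

theorem kernel_eq (hF : Fintype.card F = p ^ n)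
    (hq : Nat.card (S : Subgroup G) = p ^ n * Nat.card (Cfsg.pCore p G))
    {ρ : G →* SL(2, F)} (hρ : Function.Surjective ρ) (hQρ : Cfsg.pCore p G ≤ ρ.ker) :
    ρ.ker = Cfsg.pCore p G := by
  haveI : CharP F p := charP_of_card_eq_prime_pow hF
  have hkey : ∀ N : Subgroup G, N.Normal → (∀ U W : Subgroup G, U ≤ Cfsg.pCore p G →
      Cfsg.IsChiefFactor U W → ∀ g ∈ N, ∀ u ∈ U, ⁅g, u⁆ ∈ W) → N ≤ Cfsg.pCore p G := by
    intro N hN hcf
    refine Core.le_pCore (IsPGroup.of_card (n := (Nat.card N).primeFactorsList.length)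
      (Nat.eq_prime_pow_of_unique_prime_dvd Nat.card_pos.ne' fun {r} hr hdvd => ?_))
    by_contra hne
    haveI := Fact.mk hr
    obtain ⟨x, hx⟩ := exists_prime_orderOf_dvd_card' (G := ↥N) r hdvd
    have hcop : r.Coprime p := (Nat.coprime_primes hr Fact.out).2 hne
    have hxr : (x : G) ^ r = 1 := by
      have := congrArg Subtype.val (hx ▸ pow_orderOf_eq_one x)
      simpa using this
    have hc := centralize_of_chief c hcop hxr fun U W hUQ hcW => hcf U W hUQ hcW x x.2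
    obtain ⟨k, hk⟩ := S.2 ⟨x, c.QS (c.st.hC hc)⟩
    have h3 := (pow_gcd_eq_one (a := (x : G))).2 ⟨hxr, congrArg Subtype.val hk⟩
    rw [Nat.Coprime.gcd_eq_one (hcop.pow_right k), pow_one] at h3
    rw [show x = 1 from Subtype.ext h3, orderOf_one] at hx
    exact hr.one_lt.ne hx
  refine le_antisymm (hkey ρ.ker inferInstance fun U' W' hUQ' hc' g hg u hu => ?_) hQρ
  haveI := hc'.2.2.1
  by_cases hnc' : ⁅U', (⊤ : Subgroup G)⁆ ≤ W'
  · rw [← commutatorElement_inv]
    exact inv_mem (commutator_le.1 hnc' u hu g (mem_top g))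
  · obtain ⟨-, ⟨ρ', hρ', hQρ', hact'⟩, -⟩ := c.chief_natural (F := F) hF hq hc' hUQ' hnc'
    rw [ker_eq_ker c.st.toSetup₀ hρ hρ' hQρ hQρ'] at hg
    exact hact' g hg u hu

theorem quotient_iso (hF : Fintype.card F = p ^ n)
    (hq : Nat.card (S : Subgroup G) = p ^ n * Nat.card (Cfsg.pCore p G)) :
    Nonempty (G ⧸ Cfsg.pCore p G ≃* SL(2, F)) := by
  haveI : CharP F p := charP_of_card_eq_prime_pow hF
  have hkey : ∀ N : Subgroup G, N.Normal → (∀ U W : Subgroup G, U ≤ Cfsg.pCore p G →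
      Cfsg.IsChiefFactor U W → ∀ g ∈ N, ∀ u ∈ U, ⁅g, u⁆ ∈ W) → N ≤ Cfsg.pCore p G := by
    intro N hN hcf
    refine Core.le_pCore (IsPGroup.of_card (n := (Nat.card N).primeFactorsList.length)
      (Nat.eq_prime_pow_of_unique_prime_dvd Nat.card_pos.ne' fun {r} hr hdvd => ?_))
    by_contra hne
    haveI := Fact.mk hr
    obtain ⟨x, hx⟩ := exists_prime_orderOf_dvd_card' (G := ↥N) r hdvd
    have hcop : r.Coprime p := (Nat.coprime_primes hr Fact.out).2 hne
    have hxr : (x : G) ^ r = 1 := by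
      have := congrArg Subtype.val (hx ▸ pow_orderOf_eq_one x)
      simpa using this
    have hc := centralize_of_chief c hcop hxr fun U W hUQ hcW => hcf U W hUQ hcW x x.2
    obtain ⟨k, hk⟩ := S.2 ⟨x, c.QS (c.st.hC hc)⟩
    have h3 := (pow_gcd_eq_one (a := (x : G))).2 ⟨hxr, congrArg Subtype.val hk⟩
    rw [Nat.Coprime.gcd_eq_one (hcop.pow_right k), pow_one] at h3
    rw [show x = 1 from Subtype.ext h3, orderOf_one] at hx
    exact hr.one_lt.ne hx
  -- some factor is not central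
  obtain ⟨U, W, hUQ, hc, hnc⟩ : ∃ U W : Subgroup G, U ≤ Cfsg.pCore p G ∧ Cfsg.IsChiefFactor U W ∧
      ¬ ⁅U, (⊤ : Subgroup G)⁆ ≤ W := by
    by_contra hcon
    push Not at hcon
    refine c.not_S_le_Q (le_trans le_top (hkey ⊤ inferInstance fun U W hUQ hc g _ u hu => ?_))
    rw [← commutatorElement_inv]
    exact inv_mem (commutator_le.1 (hcon U W hUQ hc) u hu g (mem_top g))
  haveI := hc.2.2.1
  obtain ⟨-, ⟨ρ, hρ, hQρ, hact⟩, -⟩ := c.chief_natural (F := F) hF hq hc hUQ hnc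
  have hker := c.kernel_eq hF hq hρ hQρ
  exact ⟨(QuotientGroup.quotientMulEquivOfEq hker.symm).trans
    (QuotientGroup.quotientKerEquivOfSurjective ρ hρ)⟩

end Ctx

end Cfsg.Agent.PushUp
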