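import Cfsg.Agent.PushUp.Crit

/-!
# Shifting critical paths: `b ≤ 2`
-/

set_option autoImplicit false
set_option linter.unusedSectionVars false

namespace Cfsg.Agent.PushUp

open Subgroup Cfsg.Agent.PushRankOne
open Cfsg.Agent.Offender (cj mem_cj)

variable {G : Type*} [Group G] [Finite G] {p : ℕ} [Fact p.Prime]
  {S : Sylow p G} {M K V : Subgroup G}

theorem comm_eq_of_right {y b' v : G} (hc : Commute (b'⁻¹ * y) v) :
    y * v * y⁻¹ * v⁻¹ = b' * v * b'⁻¹ * v⁻¹ := by
  calc y * v * y⁻¹ * v⁻¹ = b' * (b'⁻¹ * y * v) * y⁻¹ * v⁻¹ := by group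
    _ = b' * (v * (b'⁻¹ * y)) * y⁻¹ * v⁻¹ := by rw [hc.eq]
    _ = _ := by group

theorem comm_eq_of_left {t a v : G} (hc : Commute (a⁻¹ * t) v) :
    v * t * v⁻¹ * t⁻¹ = v * a * v⁻¹ * a⁻¹ := by
  calc v * t * v⁻¹ * t⁻¹ = v * a * ((a⁻¹ * t) * v⁻¹) * t⁻¹ := by group
    _ = v * a * (v⁻¹ * (a⁻¹ * t)) * t⁻¹ := by rw [hc.inv_right.eq]
    _ = _ := by group

namespace Ctx

variable (c : Ctx p S M K V)

include c

theorem tw_omega {β : MulAut ↥(S : Subgroup G)} {x : ↥(S : Subgroup G)}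
    (h : (x : G) ∈ V ⊓ centralizer ((S : Subgroup G) : Set G)) :
    ((β x : ↥(S : Subgroup G)) : G) ∈ V ⊓ centralizer ((S : Subgroup G) : Set G) := by
  refine ⟨c.hOm x h.1 h.2 β, mem_centralizer_iff.2 fun s hs => ?_⟩
  have h1 : β.symm ⟨s, hs⟩ * x = x * β.symm ⟨s, hs⟩ :=
    Subtype.ext (mem_centralizer_iff.1 h.2 _ (β.symm ⟨s, hs⟩).2)
  have h2 := congrArg β h1
  rw [map_mul, map_mul, β.apply_symm_apply] at h2
  exact congrArg Subtype.val h2

variable {b : ℕ} (hb : Short p (S : Subgroup G) V b)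

include hb

/-- The last step of a critical path does not give a normal pair. -/
theorem last_nonNrm {L0 : List (Step (S : Subgroup G))} {s1 s : Step (S : Subgroup G)}
    (hL : Crit p V b (L0 ++ [s1, s])) : ¬ Nrm V s.β.symm := by
  intro hN
  haveI : (V ⊔ tw V s.β.symm).Normal := hN
  obtain ⟨hlen, v, hv, y, hy, hQ⟩ := hL
  obtain ⟨w, hw, hne⟩ := c.crit_witness hb hlen hv hy hQ
  simp only [List.length_append, List.length_cons, List.length_nil] at hlen
  rw [show L0 ++ [s1, s] = (L0 ++ [s1]) ++ [s] by simp, link_append] at hy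
  obtain ⟨u, hu, hsu⟩ := hy
  rw [link_single] at hsu
  have huQ : u ∈ Cfsg.pCore p G := hb (L0 ++ [s1]) (by simp; omega) v hv u hu
  obtain ⟨m0, hm0, hs1⟩ := link_append.1 hu
  obtain ⟨t1, ht1, hu1⟩ := link_single.1 hs1
  set N := V ⊔ tw V s.β.symm with hNdef
  -- `u` centralizes `N`
  have hk : ∀ z ∈ tw V s.β.symm, Commute u (s1.h * z * s1.h⁻¹) := by
    intro z hz
    obtain ⟨tz, htz, rfl⟩ := mem_tw.1 hz
    have hlink : Link (L0 ++ [⟨s1.g, s1.β.trans s.β, 1⟩]) v
        ((s.β (s1.β t1) : ↥(S : Subgroup G)) : G) :=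
      link_append.2 ⟨m0, hm0, link_single.2 ⟨t1, ht1, by simp⟩⟩
    have hc := c.commute_short hb (L := L0 ++ [⟨s1.g, s1.β.trans s.β, 1⟩]) (by simp; omega) hv hlink htz
    have hc2 : Commute (s.β (s1.β t1)) tz := Subtype.ext hc.eq
    have hc3 := hc2.map s.β.symm.toMonoidHom
    rw [MulEquiv.coe_toMonoidHom, MulEquiv.symm_apply_apply] at hc3
    rw [hu1]
    exact (Commute.map (hc3.map (S : Subgroup G).subtype) (MulAut.conj s1.h).toMonoidHom :)
  have hNc : N ≤ centralizer ({u} : Set G) := by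
    have hle : N ≤ (centralizer ({u} : Set G)).comap (MulAut.conj s1.h).toMonoidHom := by
      refine sup_le (fun z hz => ?_) (fun z hz => ?_)
      · exact mem_centralizer_singleton_iff.2 (c.Q_comm huQ (c.hVn.conj_mem z hz s1.h)).eq.symm
      · exact mem_centralizer_singleton_iff.2 (hk z hz).eq.symm
    intro z hz
    have h1 := hle (Normal.conj_mem (H := N) inferInstance z hz s1.h⁻¹)
    rw [Subgroup.mem_comap] at h1
    simpa [mul_assoc] using h1
  obtain ⟨u', hu'⟩ := c.link_exists hb (L := revPath [s]) (by simp [revPath]; omega) hw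
  have hsu' : s.Rel u' w := link_single.1 hu'.of_rev
  have hu'N : u' ∈ N := by
    obtain ⟨t', rfl, hw'⟩ := hsu'
    refine Normal.conj_mem (H := N) inferInstance _ (mem_sup_right (mem_tw.2 ⟨s.β t', ?_, by simp⟩)) s.g
    have := c.hVn.conj_mem w hw s.h⁻¹
    rw [hw'] at this
    simpa [mul_assoc] using this
  exact hne ((link_single.2 hsu).commute (link_single.2 hsu')
    (mem_centralizer_singleton_iff.1 (hNc hu'N)).symm)

/-- Shifting a critical path backwards. -/
theorem shift {s sl s' : Step (S : Subgroup G)} {L2 : List (Step (S : Subgroup G))}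
    (hL : Crit p V b (s :: (L2 ++ [sl]))) (hns : ¬ Nrm V s'.β)
    (hgen : cj s'.h (S : Subgroup G) ⊔ cj s.g (S : Subgroup G) = ⊤) :
    Crit p V b (s' :: s :: L2) := by
  have hlen : L2.length + 2 = b := by simpa using hL.1
  refine ⟨by simpa using hlen, ?_⟩
  by_contra hcon
  push Not at hcon
  haveI := c.hVn
  have hQn : (Cfsg.pCore p G).Normal := inferInstance
  set Y := cj s'.h (tw V s'.β) with hY
  set N := V ⊔ Y with hN
  -- the images of `Y`
  have hYlink : ∀ η ∈ Y, ∃ y', Link (s :: (L2 ++ [sl])) η y' := by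
    intro η hη
    obtain ⟨t, ht, he⟩ := mem_tw.1 (mem_cj.1 hη)
    have hv : s'.g * t * s'.g⁻¹ ∈ V := c.hVn.conj_mem _ ht _
    obtain ⟨u, hu⟩ := c.link_exists hb (L := s' :: s :: L2) (by simp; omega) hv
    obtain ⟨y', hy'⟩ := sl.exists_rel (x := u) (mem_cj.2 (c.QS (by
      simpa using hQn.conj_mem u (hcon _ hv u hu) sl.g⁻¹)))
    obtain ⟨η', ⟨t2, ht2, hη'⟩, hrest⟩ := hu
    obtain rfl : t = t2 := Subtype.ext (mul_left_cancel (mul_right_cancel ht2))
    have he' : η' = η := by rw [hη', he]; group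
    subst he'
    exact ⟨y', by rw [show s :: (L2 ++ [sl]) = (s :: L2) ++ [sl] from rfl, link_append]
                  exact ⟨u, hrest, link_single.2 hy'⟩⟩
  have hlast : Crit p V b ((s :: L2) ++ [sl]) := hL
  have hsS : cj s.g (S : Subgroup G) ≤ normalizer (N : Set G) := by
    have key : ∀ x ∈ img V (revPath (s :: (L2 ++ [sl]))), x ∈ normalizer (N : Set G) := by
      have hgo : ∀ x ∈ img V (revPath (s :: (L2 ++ [sl]))), ∀ z ∈ N, x * z * x⁻¹ ∈ N := by
        intro x hx
        obtain ⟨v', hv', hx'⟩ := mem_img.1 hx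
        have hxl := hx'.of_rev
        intro z hz
        suffices h : N ≤ N.comap (MulAut.conj x).toMonoidHom from h hz
        refine sup_le (fun z hz => mem_sup_left (c.hVn.conj_mem z hz x)) fun η hη => ?_
        obtain ⟨y', hy'⟩ := hYlink η hη
        obtain ⟨t, ht, he⟩ : ∃ t ∈ (S : Subgroup G), sl.h * t * sl.h⁻¹ = y' :=
          ⟨_, mem_cj.1 (link_mem_last (L := s :: L2) hy'), by group⟩
        obtain ⟨b', hb', hq⟩ := c.cover hb hlast ht
        rw [he] at hq
        obtain ⟨z0, hz0, hzb⟩ := mem_img.1 hb'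
        have h1 := hy'.comm hxl
        rw [comm_eq_of_right (c.Q_comm hq hv')] at h1
        have h2 : Link (s :: (L2 ++ [sl])) (z0 * x * z0⁻¹ * x⁻¹) (b' * v' * b'⁻¹ * v'⁻¹) :=
          Link.comm hzb hxl
        have h3 : η * x * η⁻¹ * x⁻¹ ∈ V := by
          rw [h1.left_unique h2, show z0 * x * z0⁻¹ * x⁻¹ = z0 * (x * z0⁻¹ * x⁻¹) by group]
          exact V.mul_mem hz0 (c.hVn.conj_mem _ (inv_mem hz0) x)
        show x * η * x⁻¹ ∈ N
        rw [show x * η * x⁻¹ = (η * x * η⁻¹ * x⁻¹)⁻¹ * η by group]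
        exact N.mul_mem (mem_sup_left (inv_mem h3)) (mem_sup_right hη)
      intro x hx
      refine mem_normalizer_iff.2 fun z => ⟨hgo x hx z, fun h => ?_⟩
      have := hgo x⁻¹ (inv_mem hx) _ h
      simpa [mul_assoc] using this
    have hrc : Crit p V b (revPath (L2 ++ [sl]) ++ [s.rev]) := by
      rw [← revPath_cons]; exact c.crit_rev hb hL
    intro x hx
    obtain ⟨y, hy, hq⟩ := c.cover hb hrc (mem_cj.1 hx)
    rw [← revPath_cons] at hy
    have hqN : Cfsg.pCore p G ≤ normalizer (N : Set G) := by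
      refine Subgroup.le_normalizer_iff.mpr fun q hq z hz => ?_
      suffices h : N ≤ N.comap (MulAut.conj q).toMonoidHom from h hz
      refine sup_le (fun z hz => mem_sup_left (c.hVn.conj_mem z hz q)) fun η hη => mem_sup_right ?_
      refine mem_cj.2 ?_
      show s'.h⁻¹ * (q * η * q⁻¹) * s'.h ∈ _
      have hs : s'.h⁻¹ * q * s'.h ∈ (S : Subgroup G) := c.QS (by simpa using hQn.conj_mem q hq s'.h⁻¹)
      rw [show s'.h⁻¹ * (q * η * q⁻¹) * s'.h =
        (s'.h⁻¹ * q * s'.h) * (s'.h⁻¹ * η * s'.h) * (s'.h⁻¹ * q * s'.h)⁻¹ by group]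
      exact tw_conj (mem_cj.1 hη) hs
    have hxe : s.rev.h * (s.g⁻¹ * x * s.g) * s.rev.h⁻¹ = x := by
      show s.g * (s.g⁻¹ * x * s.g) * s.g⁻¹ = x
      group
    rw [hxe] at hq
    simpa using mul_mem (key y hy) (hqN hq)
  have hkS : cj s'.h (S : Subgroup G) ≤ normalizer (N : Set G) := by
    refine Subgroup.le_normalizer_iff.mpr fun x hx z hz => ?_
    suffices h : N ≤ N.comap (MulAut.conj x).toMonoidHom from h hz
    refine sup_le (fun z hz => mem_sup_left (c.hVn.conj_mem z hz x)) fun η hη => mem_sup_right ?_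
    refine mem_cj.2 ?_
    show s'.h⁻¹ * (x * η * x⁻¹) * s'.h ∈ _
    rw [show s'.h⁻¹ * (x * η * x⁻¹) * s'.h =
      (s'.h⁻¹ * x * s'.h) * (s'.h⁻¹ * η * s'.h) * (s'.h⁻¹ * x * s'.h)⁻¹ by group]
    exact tw_conj (mem_cj.1 hη) (mem_cj.1 hx)
  haveI hNn : N.Normal := normalizer_eq_top_iff.mp (top_le_iff.mp (hgen ▸ sup_le hkS hsS))
  refine hns ⟨fun z hz g => ?_⟩
  have hle : V ⊔ tw V s'.β ≤ N.comap (MulAut.conj s'.h).toMonoidHom := by
    refine sup_le (fun z hz => mem_sup_left (c.hVn.conj_mem z hz _)) fun z hz => mem_sup_right ?_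
    exact mem_cj.2 (show s'.h⁻¹ * (s'.h * z * s'.h⁻¹) * s'.h ∈ _ by simpa [mul_assoc] using hz)
  have hge : N ≤ (V ⊔ tw V s'.β).comap (MulAut.conj s'.h⁻¹).toMonoidHom := by
    refine sup_le (fun z hz => mem_sup_left (c.hVn.conj_mem z hz _)) fun z hz => mem_sup_right ?_
    simpa using mem_cj.1 hz
  have h1 := hge (hNn.conj_mem _ (hle hz) (s'.h * g * s'.h⁻¹))
  simpa [mul_assoc] using h1

/-- All steps of a critical path give non-normal pairs in both directions. -/
theorem step_nonNrm (h2 : 2 ≤ b) {L : List (Step (S : Subgroup G))} (hL : Crit p V b L)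
    {s : Step (S : Subgroup G)} (hs : s ∈ L) : ¬ Nrm V s.β.symm := by
  suffices key : ∀ (m : ℕ) (L1 L2 : List (Step (S : Subgroup G))),
      Crit p V b (L1 ++ s :: L2) → L2.length = m → ¬ Nrm V s.β.symm by
    obtain ⟨L1, L2, rfl⟩ := List.append_of_mem hs
    exact key _ L1 L2 hL rfl
  clear hs hL L
  intro m
  induction m with
  | zero =>
    intro L1 L2 hL h0
    obtain rfl := List.length_eq_zero_iff.1 h0
    rcases List.eq_nil_or_concat L1 with rfl | ⟨L0, s1, rfl⟩
    · have := hL.1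
      simp at this
      omega
    · exact c.last_nonNrm hb (L0 := L0) (s1 := s1) (by simpa using hL)
  | succ m ih =>
    intro L1 L2 hL hm
    rcases List.eq_nil_or_concat L2 with rfl | ⟨L2', sl, rfl⟩
    · simp at hm
    simp at hm
    -- the last step supplies the type of the new first step
    have hsl : ¬ Nrm V sl.β.symm := by
      rcases List.eq_nil_or_concat (L1 ++ s :: L2') with h | ⟨L0, s1, h⟩
      · simp at h
      · refine c.last_nonNrm hb (L0 := L0) (s1 := s1) ?_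
        have : L1 ++ s :: (L2' ++ [sl]) = L0 ++ [s1, sl] := by
          rw [show L1 ++ s :: (L2' ++ [sl]) = (L1 ++ s :: L2') ++ [sl] by simp, h]
          simp
        simpa [this] using hL
    obtain ⟨f, Lr, hf⟩ : ∃ f Lr, L1 ++ s :: L2' = f :: Lr := by
      cases L1 with
      | nil => exact ⟨_, _, rfl⟩
      | cons a l => exact ⟨_, _, rfl⟩
    obtain ⟨k, hk⟩ := c.exists_gen f.g
    have hnew := c.shift hb (s := f) (sl := sl) (L2 := Lr) (s' := ⟨1, sl.β.symm, k⟩)
      (by
        have : L1 ++ s :: (L2' ++ [sl]) = f :: (Lr ++ [sl]) := by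
          rw [show L1 ++ s :: (L2' ++ [sl]) = (L1 ++ s :: L2') ++ [sl] by simp, hf]
          rfl
        simpa [this] using hL) hsl hk
    rw [← hf] at hnew
    exact ih (_ :: L1) L2' hnew (by omega)

theorem step_nonNrm' (h2 : 2 ≤ b) {L : List (Step (S : Subgroup G))} (hL : Crit p V b L)
    {s : Step (S : Subgroup G)} (hs : s ∈ L) : ¬ Nrm V s.β := by
  have h := c.step_nonNrm hb h2 (c.crit_rev hb hL) (s := s.rev) (by
    simp only [revPath, List.mem_reverse, List.mem_map]
    exact ⟨s, hs, rfl⟩)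
  simpa [Step.rev] using h

/-- There is no critical path of length at least `3`. -/
theorem le_two {L : List (Step (S : Subgroup G))} (hL : Crit p V b L) : b ≤ 2 := by
  by_contra h3
  push Not at h3
  obtain ⟨s1, Lr, rfl⟩ : ∃ s1 Lr, L = s1 :: Lr := by
    cases L with
    | nil => have := hL.1; simp at this; omega
    | cons a l => exact ⟨a, l, rfl⟩
  obtain ⟨L', sb, rfl⟩ : ∃ L' sb, Lr = L' ++ [sb] := by
    rcases List.eq_nil_or_concat Lr with rfl | ⟨L', sb, rfl⟩
    · have := hL.1; simp at this; omega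
    · exact ⟨L', sb, by simp⟩
  obtain ⟨L2, sa, rfl⟩ : ∃ L2 sa, L' = L2 ++ [sa] := by
    rcases List.eq_nil_or_concat L' with rfl | ⟨L2, sa, rfl⟩
    · have := hL.1; simp at this; omega
    · exact ⟨L2, sa, by simp⟩
  have hlen : L2.length + 3 = b := by simpa using hL.1
  haveI := c.hVn
  have hQn : (Cfsg.pCore p G).Normal := inferInstance
  obtain ⟨k, hk⟩ := c.exists_gen s1.g
  obtain ⟨k2, hk2⟩ := c.exists_gen (1 : G)
  set β := s1.β with hβ
  set s' : Step (S : Subgroup G) := ⟨1, β.symm, k⟩ with hs'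
  set s'' : Step (S : Subgroup G) := ⟨1, β, k2⟩ with hs''
  have hA : Crit p V b (s' :: s1 :: (L2 ++ [sa])) :=
    c.shift hb (sl := sb) hL (c.step_nonNrm hb (by omega) hL (s := s1) (List.mem_cons_self ..)) hk
  have hB : Crit p V b (s'' :: s' :: s1 :: L2) :=
    c.shift hb (s := s') (sl := sa) (L2 := s1 :: L2) (by simpa using hA)
      (c.step_nonNrm' hb (by omega) hL (s := s1) (List.mem_cons_self ..)) hk2
  -- every commutator `[v, t]` is central
  have hcent : ∀ v ∈ V, ∀ t ∈ (S : Subgroup G), v * t * v⁻¹ * t⁻¹ ∈ center G := by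
    intro v hv t ht
    have hrevB : Crit p V b (revPath (s' :: s1 :: L2) ++ [s''.rev]) := by
      rw [← revPath_cons]; exact c.crit_rev hb hB
    obtain ⟨az, haz, hq⟩ := c.cover hb hrevB ht
    rw [← revPath_cons] at haz
    have hq' : az⁻¹ * t ∈ Cfsg.pCore p G := by simpa [hs'', Step.rev] using hq
    obtain ⟨v2, hv2, haz2⟩ := mem_img.1 haz
    obtain ⟨w, ⟨ta, hta, hwa⟩, hw⟩ := haz2.of_rev
    have hta' : (ta : G) = az := by simpa [hs''] using hta.symm
    have hω := c.quad hb hL hv ta.2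
    set ω : ↥(S : Subgroup G) := ⟨v, c.VS hv⟩ * ta * ⟨v, c.VS hv⟩⁻¹ * ta⁻¹ with hωdef
    have hωG : (ω : G) = v * ta * v⁻¹ * (ta : G)⁻¹ := rfl
    rw [← hωG] at hω
    have hωt : v * t * v⁻¹ * t⁻¹ = (ω : G) := by
      rw [hωG, hta']
      exact comm_eq_of_left (c.Q_comm hq' hv)
    rw [hωt]
    obtain ⟨y2, hy2⟩ := c.link_exists hb (L := s'' :: s' :: s1 :: L2) hB.1.le hv
    obtain ⟨u, ⟨tv, htv, hu⟩, hy2'⟩ := hy2
    have htv' : tv = ⟨v, c.VS hv⟩ := Subtype.ext (by simpa [hs''] using htv.symm)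
    obtain ⟨r, hr⟩ : ∃ r, r = u * w * u⁻¹ * w⁻¹ := ⟨_, rfl⟩
    have hrω : r = k2 * ((β ω : ↥(S : Subgroup G)) : G) * k2⁻¹ := by
      rw [hr, hu, hwa, htv', hωdef]
      simp [hs'', mul_assoc]
    have hβω := c.tw_omega (β := β) hω
    have hrV : r ∈ V := hrω ▸ c.hVn.conj_mem _ hβω.1 k2
    obtain ⟨r2, hr2eq⟩ : ∃ r2, r2 = y2 * v2 * y2⁻¹ * v2⁻¹ := ⟨_, rfl⟩
    have hr2 : Link (s' :: s1 :: L2) r r2 := by rw [hr, hr2eq]; exact Link.comm hy2' hw
    have hr2V : r2 ∈ V := by
      rw [hr2eq]; exact V.mul_mem (c.hVn.conj_mem _ hv2 y2) (inv_mem hv2)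
    -- `r` is centralized by `S`
    have hrS : ∀ x ∈ (S : Subgroup G), Commute x r := by
      have hrA : Crit p V b (revPath (s1 :: (L2 ++ [sa])) ++ [s'.rev]) := by
        rw [← revPath_cons]; exact c.crit_rev hb hA
      intro x hx
      obtain ⟨a, ha, hqa⟩ := c.cover hb hrA hx
      rw [← revPath_cons] at ha
      have hqa' : a⁻¹ * x ∈ Cfsg.pCore p G := by simpa [hs', Step.rev] using hqa
      obtain ⟨v3, hv3, ha3⟩ := mem_img.1 ha
      obtain ⟨r3, hr3⟩ := c.link_exists hb (L := [sa]) (by simp; omega) hr2V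
      have hc3 : Commute r3 v3 := c.commute_short hb (L := [sa]) (by simp; omega) hr2V hr3 hv3
      have hl : Link (s' :: s1 :: (L2 ++ [sa])) r r3 := by
        rw [show s' :: s1 :: (L2 ++ [sa]) = (s' :: s1 :: L2) ++ [sa] from rfl, link_append]
        exact ⟨r2, hr2, hr3⟩
      have hac : Commute r a := hl.commute_left ha3.of_rev hc3
      have := hac.symm.mul_left (c.Q_comm hqa' hrV)
      rwa [mul_inv_cancel_left] at this
    have hrc : r ∈ center G := by
      refine c.center_of_fixed hk2 ?_ ?_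
      · intro x hx
        have h1 : Commute (k2⁻¹ * x * k2) ((β ω : ↥(S : Subgroup G)) : G) :=
          mem_centralizer_iff.1 hβω.2 _ (mem_cj.1 hx)
        have h2 := h1.map (MulAut.conj k2).toMonoidHom
        rw [hrω]
        simpa [mul_assoc] using h2
      · intro x hx
        rw [Offender.cj_one] at hx
        exact hrS x hx
    have hrβ : r = ((β ω : ↥(S : Subgroup G)) : G) := by
      have h1 := mem_center_iff.1 hrc k2⁻¹
      calc r = k2⁻¹ * r * k2 := by rw [h1]; group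
        _ = _ := by rw [hrω]; group
    -- transport to the next vertex
    obtain ⟨r', ⟨tr, htr, hr'⟩, hr2'⟩ := hr2
    have htr' : tr = β ω := Subtype.ext (by simpa [hs', hrβ] using htr.symm)
    have hr'ω : r' = k * (ω : G) * k⁻¹ := by rw [hr', htr']; simp [hs']
    have hr'V : r' ∈ V := hr'ω ▸ c.hVn.conj_mem _ hω.1 k
    have hr'c : r' ∈ center G := by
      refine c.center_of_fixed hk ?_ ?_
      · intro x hx
        have h1 : Commute (k⁻¹ * x * k) (ω : G) := mem_centralizer_iff.1 hω.2 _ (mem_cj.1 hx)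
        have h2 := h1.map (MulAut.conj k).toMonoidHom
        rw [hr'ω]
        simpa [mul_assoc] using h2
      · intro x hx
        have hrL : Crit p V b (revPath ((L2 ++ [sa]) ++ [sb]) ++ [s1.rev]) := by
          rw [← revPath_cons]; exact c.crit_rev hb hL
        obtain ⟨a, ha, hqa⟩ := c.cover hb hrL (mem_cj.1 hx)
        rw [← revPath_cons] at ha
        have hxe : s1.rev.h * (s1.g⁻¹ * x * s1.g) * s1.rev.h⁻¹ = x := by
          show s1.g * (s1.g⁻¹ * x * s1.g) * s1.g⁻¹ = x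
          group
        rw [hxe] at hqa
        obtain ⟨v4, hv4, ha4⟩ := mem_img.1 ha
        obtain ⟨r4, hr4⟩ := c.link_exists hb (L := [sa, sb]) (by simp; omega) hr2V
        have hc4 : Commute r4 v4 := c.commute_short hb (L := [sa, sb]) (by simp; omega) hr2V hr4 hv4
        have hl : Link (s1 :: (L2 ++ [sa] ++ [sb])) r' r4 := by
          rw [show s1 :: (L2 ++ [sa] ++ [sb]) = (s1 :: L2) ++ [sa, sb] by simp, link_append]
          exact ⟨r2, hr2', hr4⟩
        have hac : Commute r' a := hl.commute_left ha4.of_rev hc4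
        have := hac.symm.mul_left (c.Q_comm hqa hr'V)
        rwa [mul_inv_cancel_left] at this
    have h1 := mem_center_iff.1 hr'c k⁻¹
    have : r' = (ω : G) :=
      calc r' = k⁻¹ * r' * k := by rw [h1]; group
        _ = _ := by rw [hr'ω]; group
    exact this ▸ hr'c
  -- so `S` acts trivially
  obtain ⟨x, hx⟩ : ∃ x : G, x ∉ M := by
    by_contra hcon
    push Not at hcon
    exact c.st.hM.1 (eq_top_iff.2 fun g _ => hcon g)
  obtain ⟨L', s, hLe⟩ := c.crit_split hb hL
  have hdec := (c.offender_full hb hL (k := s.h) (fun y hy => by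
    obtain ⟨v, -, hy⟩ := mem_img.1 hy
    exact link_mem_last (hLe ▸ hy)) (c.offender_bound hb hL)).2.2.2.1 x hx
  have hall : (⊤ : Subgroup G) ≤ {g : G | ∀ v ∈ V, v * g * v⁻¹ * g⁻¹ ∈ center G} := by
    let C : Subgroup G :=
      { carrier := {g | ∀ v ∈ V, v * g * v⁻¹ * g⁻¹ ∈ center G}
        one_mem' := fun v _ => by simp
        mul_mem' := fun {a d} ha hd v hv => by
          have h1 := mem_center_iff.1 (hd v hv) a⁻¹
          have e : v * (a * d) * v⁻¹ * (a * d)⁻¹ =
              (v * a * v⁻¹ * a⁻¹) * (a * ((v * d * v⁻¹ * d⁻¹) * a⁻¹)) := by group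
          rw [e, ← h1, ← mul_assoc a, mul_inv_cancel, one_mul]
          exact mul_mem (ha v hv) (hd v hv)
        inv_mem' := fun {a} ha v hv => by
          have h1 := mem_center_iff.1 (inv_mem (ha v hv)) a⁻¹
          have e : v * a⁻¹ * v⁻¹ * a⁻¹⁻¹ = a⁻¹ * (v * a * v⁻¹ * a⁻¹)⁻¹ * a := by group
          rw [e, h1, mul_assoc, inv_mul_cancel, mul_one]
          exact inv_mem (ha v hv) }
    haveI : C.Normal := ⟨fun g hg h v hv => by
      have h1 := hg (h⁻¹ * v * h) (by simpa using c.hVn.conj_mem v hv h⁻¹)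
      have := (inferInstance : (center G).Normal).conj_mem _ h1 h
      simpa [mul_assoc] using this⟩
    intro g _
    exact ((c.eq_top_of_normal (N := C) fun s hs v hv => hcent v hv s hs).ge (mem_top g) :)
  obtain ⟨-, v0, hv0, y0, hy0, hQ0⟩ := hL
  obtain ⟨w0, hw0, hne⟩ : ∃ w ∈ V, ¬ Commute y0 w := by
    by_contra hcon
    push Not at hcon
    exact hQ0 (c.conjS_inf (link_mem_last (hLe ▸ hy0)) hcon)
  -- now `V` is centralized by every Sylow subgroup
  have hVS : ∀ v ∈ V, v ∈ centralizer ((S : Subgroup G) : Set G) := by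
    intro v hv
    obtain ⟨w, hw, w', hw', rfl⟩ := hdec v hv
    have h1 := hall (mem_top x) w' hw'.1
    have e : x * w' * x⁻¹ = (w' * x * w'⁻¹ * x⁻¹)⁻¹ * w' := by group
    rw [e]
    exact mul_mem hw.2 (mul_mem (inv_mem (center_le_centralizer _ h1)) hw'.2)
  refine hne ?_
  have h1 := mem_cj.1 (link_mem_last (hLe ▸ hy0))
  have h2 : Commute (s.h⁻¹ * y0 * s.h) (s.h⁻¹ * w0 * s.h) := by
    have := c.hVn.conj_mem w0 hw0 s.h⁻¹
    rw [inv_inv] at this
    exact mem_centralizer_iff.1 (hVS _ this) _ h1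
  simpa [mul_assoc] using h2.map (MulAut.conj s.h).toMonoidHom

end Ctx

end Cfsg.Agent.PushUp
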