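import Cfsg.Agent.PushUp.Main
import Cfsg.Agent.Fusion.Residual

/-!
# Actions of `O^p(G)` on series in `O_p(G)`
-/

set_option autoImplicit false
set_option linter.unusedSectionVars false

namespace Cfsg.Agent.PushUp

open Subgroup
open scoped commutatorElement

variable {G : Type*} [Group G] [Finite G] {p : ℕ} [Fact p.Prime]

/-- A coprime step: `[x, u]` lies in a `p`-group and commutes with `x` modulo `M`. -/
theorem coprime_step {M : Subgroup G} [M.Normal] {x u : G} (hx : Nat.Coprime (orderOf x) p)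
    (hw : ⁅x, ⁅x, u⁆⁆ ∈ M) (hwp : ∃ k : ℕ, ⁅x, u⁆ ^ p ^ k = 1) : ⁅x, u⁆ ∈ M := by
  rw [← QuotientGroup.eq_one_iff] at hw ⊢
  obtain ⟨k, hk⟩ := hwp
  set π := QuotientGroup.mk' M
  change π _ = 1 at hw
  show π _ = 1
  have hk' : π ⁅x, u⁆ ^ p ^ k = 1 := by rw [← map_pow, hk, map_one]
  set w := π ⁅x, u⁆
  have hcomm : Commute (π x) w := by
    rw [map_commutatorElement] at hw
    exact commutatorElement_eq_one_iff_mul_comm.1 hw
  have hw0 : π x * π u * (π x)⁻¹ = w * π u := by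
    simp only [w, map_commutatorElement, commutatorElement_def]; group
  have hpow : ∀ j : ℕ, π x ^ j * π u * (π x ^ j)⁻¹ = w ^ j * π u := by
    intro j
    induction j with
    | zero => simp
    | succ j ih =>
      calc π x ^ (j + 1) * π u * (π x ^ (j + 1))⁻¹ = π x * (π x ^ j * π u * (π x ^ j)⁻¹) * (π x)⁻¹ := by
            rw [pow_succ']; group
        _ = π x * w ^ j * (π u * (π x)⁻¹) := by rw [ih]; group
        _ = w ^ j * (π x * π u * (π x)⁻¹) := by rw [(hcomm.pow_right j).eq]; group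
        _ = _ := by rw [hw0, ← mul_assoc, ← pow_succ]
  have h1 := hpow (orderOf x)
  rw [show π x ^ orderOf x = 1 by rw [← map_pow, pow_orderOf_eq_one, map_one], one_mul, inv_one,
    mul_one, eq_comm, mul_eq_right] at h1
  have h3 := (pow_gcd_eq_one (a := w)).2 ⟨h1, hk'⟩
  rwa [Nat.Coprime.gcd_eq_one (hx.pow_right k), pow_one] at h3

theorem res_le {N M : Subgroup G} [hM : M.Normal] [hN : N.Normal]
    (h : ∀ x : G, Nat.Coprime (orderOf x) p → ∀ u ∈ N, ⁅x, u⁆ ∈ M) :
    ⁅Cfsg.pResidual p G, N⁆ ≤ M := by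
  let C : Subgroup G :=
    { carrier := {g | ∀ u ∈ N, ⁅g, u⁆ ∈ M}
      one_mem' := fun u _ => by simp
      mul_mem' := fun {a b} ha hb u hu => by
        have e : ⁅a * b, u⁆ = a * ⁅b, u⁆ * a⁻¹ * ⁅a, u⁆ := by simp only [commutatorElement_def]; group
        rw [e]
        exact mul_mem (hM.conj_mem _ (hb u hu) a) (ha u hu)
      inv_mem' := fun {a} ha u hu => by
        have e : ⁅a⁻¹, u⁆ = a⁻¹ * ⁅a, u⁆⁻¹ * a⁻¹⁻¹ := by simp only [commutatorElement_def]; group
        rw [e]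
        exact hM.conj_mem _ (inv_mem (ha u hu)) a⁻¹ }
  have hle : Cfsg.pResidual p G ≤ C := (closure_le _).2 fun x hx => h x hx
  exact commutator_le.2 fun g hg u hu => hle hg u hu

theorem res_trans {A B C : Subgroup G} [hA : A.Normal] [C.Normal] (hAp : IsPGroup p A)
    (h1 : ⁅Cfsg.pResidual p G, A⁆ ≤ B) (h2 : ⁅Cfsg.pResidual p G, B⁆ ≤ C) :
    ⁅Cfsg.pResidual p G, A⁆ ≤ C := by
  refine res_le fun x hx u hu => ?_
  have hxR := Fusion.mem_pResidual_of_coprime hx
  have hw : ⁅x, u⁆ ∈ A := by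
    rw [commutatorElement_def]
    exact mul_mem (hA.conj_mem u hu x) (inv_mem hu)
  obtain ⟨k, hk⟩ := hAp ⟨_, hw⟩
  exact coprime_step hx (h2 (commutator_mem_commutator hxR (h1 (commutator_mem_commutator hxR hu))))
    ⟨k, congrArg Subtype.val hk⟩

theorem res_of_chief {M N : Subgroup G} [hM : M.Normal] [hN : N.Normal] (hMN : M ≤ N)
    (hNp : IsPGroup p N)
    (h : ∀ U W : Subgroup G, M ≤ W → U ≤ N → Cfsg.IsChiefFactor U W → ⁅U, (⊤ : Subgroup G)⁆ ≤ W) :
    ⁅Cfsg.pResidual p G, N⁆ ≤ M := by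
  suffices key : ∀ (m : ℕ) (X : Subgroup G), X.Normal → M ≤ X → X ≤ N → Nat.card X ≤ m →
      ⁅Cfsg.pResidual p G, X⁆ ≤ M from key _ N hN hMN le_rfl le_rfl
  intro m
  induction m with
  | zero => exact fun X _ _ _ h0 => absurd h0 (by have := Nat.card_pos (α := X); omega)
  | succ m ih =>
    intro X hX hMX hXN hcard
    by_cases e : X = M
    · subst e
      exact commutator_le_right _ _
    obtain ⟨W, ⟨hWn, hMW, hWX⟩, hmax⟩ := Set.exists_max_image
      {W : Subgroup G | W.Normal ∧ M ≤ W ∧ W < X} (fun W => Nat.card W) (Set.toFinite _)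
      ⟨M, hM, le_rfl, lt_of_le_of_ne hMX (Ne.symm e)⟩
    haveI := hWn
    have hc : Cfsg.IsChiefFactor X W := by
      refine ⟨hWX, hX, hWn, fun Y hY hWY hYX => ?_⟩
      by_cases e' : Y = X
      · exact Or.inr e'
      · exact Or.inl (eq_of_le_of_card_ge hWY (hmax Y ⟨hY, hMW.trans hWY, lt_of_le_of_ne hYX e'⟩)).symm
    have hlt : Nat.card W < Nat.card X :=
      lt_of_le_of_ne (card_le_of_le hWX.le) fun e => hWX.ne (eq_of_le_of_card_ge hWX.le e.ge)
    refine res_trans (hNp.to_le hXN) ?_ (ih W hWn hMW (hWX.le.trans hXN) (by omega))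
    refine (commutator_mono le_top le_rfl).trans ?_
    rw [commutator_comm]
    exact h X W hMW hXN hc

variable {S : Sylow p G}

/-- Normal factors centralized by `O^p(G)` are hypercentral. -/
theorem iter_le {N M : Subgroup G} [hN : N.Normal] [hM : M.Normal] (hNS : N ≤ (S : Subgroup G))
    (h : ⁅Cfsg.pResidual p G, N⁆ ≤ M) : ∃ k : ℕ, Cfsg.iterCommutator N ⊤ k ≤ M := by
  haveI : Group.IsNilpotent ↥(S : Subgroup G) := S.2.isNilpotent
  obtain ⟨n, hn⟩ := (Subgroup.isNilpotent_iff_lowerCentralSeries (S : Subgroup G)).1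
    (inferInstance : Group.IsNilpotent ↥(S : Subgroup G))
  have key : ∀ k, Cfsg.iterCommutator N ⊤ k ≤ N ∧
      Cfsg.iterCommutator N ⊤ k ≤ (S : Subgroup G).lowerCentralSeries k ⊔ M := by
    intro k
    induction k with
    | zero =>
      exact ⟨le_rfl, by
        show N ≤ (S : Subgroup G) ⊔ M
        exact le_trans hNS le_sup_left⟩
    | succ k ih =>
      refine ⟨(commutator_mono ih.1 le_rfl).trans (commutator_le_left _ _), ?_⟩
      show ⁅Cfsg.iterCommutator N ⊤ k, (⊤ : Subgroup G)⁆ ≤ _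
      refine commutator_le.2 fun a ha g _ => ?_
      obtain ⟨s, hs, r, hr, rfl⟩ := Subgroup.mem_sup_of_normal_right.1
        ((Fusion.sylow_sup_pResidual S).ge (mem_top g))
      have hr' : ⁅a, r⁆ ∈ M := by
        rw [← commutatorElement_inv]
        exact inv_mem (h (commutator_mem_commutator hr (ih.1 ha)))
      have e : ⁅a, s * r⁆ = ⁅a, s⁆ * (s * ⁅a, r⁆ * s⁻¹) := by
        simp only [commutatorElement_def]; group
      rw [e]
      refine mul_mem ?_ (mem_sup_right (hM.conj_mem _ hr' s))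
      obtain ⟨l, hl, m, hm, rfl⟩ := Subgroup.mem_sup_of_normal_right.1 (ih.2 ha)
      have e2 : ⁅l * m, s⁆ = (l * ⁅m, s⁆ * l⁻¹) * ⁅l, s⁆ := by
        simp only [commutatorElement_def]; group
      rw [e2]
      refine mul_mem (mem_sup_right (hM.conj_mem _ ?_ l))
        (mem_sup_left (commutator_mem_commutator hl hs))
      rw [commutatorElement_def, show m * s * m⁻¹ * s⁻¹ = m * (s * m⁻¹ * s⁻¹) by group]
      exact mul_mem hm (hM.conj_mem _ (inv_mem hm) s)
  refine ⟨n, (key n).2.trans ?_⟩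
  rw [hn, bot_sup_eq]

/-- A subgroup of `S` invariant under `Aut S` and normalized by `O^p(G)` is trivial. -/
theorem kill (hd : ∀ T : Subgroup ↥(S : Subgroup G), T ≠ ⊥ → T.Characteristic →
      ¬ (T.map (S : Subgroup G).subtype).Normal) {T : Subgroup G} (hT : T ≤ (S : Subgroup G))
    (hinv : ∀ (β : MulAut ↥(S : Subgroup G)) (x : ↥(S : Subgroup G)), (x : G) ∈ T →
      ((β x : ↥(S : Subgroup G)) : G) ∈ T)
    (hR : ∀ r ∈ Cfsg.pResidual p G, ∀ t ∈ T, r * t * r⁻¹ ∈ T) : T = ⊥ := by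
  by_contra hne
  refine hd (T.subgroupOf (S : Subgroup G)) (fun e => hne ?_) ?_ ?_
  · rw [← inf_eq_left.2 hT, ← subgroupOf_map_subtype, e, Subgroup.map_bot]
  · refine characteristic_iff_map_le.2 fun β => ?_
    rintro _ ⟨x, hx, rfl⟩
    exact hinv β x hx
  · rw [subgroupOf_map_subtype, inf_eq_left.2 hT]
    refine ⟨fun t ht g => ?_⟩
    obtain ⟨s, hs, r, hr, rfl⟩ := Subgroup.mem_sup_of_normal_right.1
      ((Fusion.sylow_sup_pResidual S).ge (mem_top g))
    have h1 := hR r hr t ht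
    have h2 := hinv (MulAut.conj ⟨s, hs⟩) ⟨_, hT h1⟩ h1
    have e : s * r * t * (s * r)⁻¹ = s * (r * t * r⁻¹) * s⁻¹ := by group
    rw [e]
    exact h2

theorem lcs_inv (S' : Subgroup G) (β : MulAut ↥S') (k : ℕ) :
    ∀ x : ↥S', (x : G) ∈ S'.lowerCentralSeries k → ((β x : ↥S') : G) ∈ S'.lowerCentralSeries k := by
  intro x hx
  rw [← Subgroup.top_subtype_lowerCentralSeries] at hx ⊢
  obtain ⟨y, hy, e⟩ := hx
  obtain rfl : y = x := Subtype.ext e
  refine ⟨β y, ?_, rfl⟩
  have := Subgroup.map_lowerCentralSeries (S := (⊤ : Subgroup ↥S')) β.toMonoidHom k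
  rw [Subgroup.map_top_of_surjective β.toMonoidHom β.surjective] at this
  exact this ▸ ⟨y, hy, rfl⟩

end Cfsg.Agent.PushUp
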