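import Mathlib

/-!
# Triple commutators in groups of class at most three
-/

set_option autoImplicit false

namespace Cfsg.Agent.PushUp

open scoped commutatorElement

variable {G : Type*} [Group G] {S : Subgroup G}

theorem lcs_comm (h3 : S.lowerCentralSeries 3 = ⊥) {w : G}
    (hw : w ∈ S.lowerCentralSeries 2) : ∀ ⦃s : G⦄, s ∈ S → Commute w s := by
  intro s hs
  have : ⁅w, s⁆ ∈ S.lowerCentralSeries 3 := Subgroup.commutator_mem_commutator hw hs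
  rw [h3, Subgroup.mem_bot] at this
  exact commutatorElement_eq_one_iff_mul_comm.1 this

theorem lcs1_mem {a b : G} (ha : a ∈ S) (hb : b ∈ S) : ⁅a, b⁆ ∈ S.lowerCentralSeries 1 :=
  Subgroup.commutator_mem_commutator ha hb

theorem lcs2_mem {y c : G} (hy : y ∈ S.lowerCentralSeries 1) (hc : c ∈ S) :
    ⁅y, c⁆ ∈ S.lowerCentralSeries 2 :=
  Subgroup.commutator_mem_commutator hy hc

theorem lcs1_le_self : S.lowerCentralSeries 1 ≤ S :=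
  Subgroup.commutator_le_self S

/-- A commutator in which a central factor is absorbed. -/
theorem comm_central_mul {w u c : G} (h1 : Commute w c) (h2 : Commute w ⁅u, c⁆) :
    ⁅w * u, c⁆ = ⁅u, c⁆ := by
  have e : ⁅w * u, c⁆ = w * ⁅u, c⁆ * w⁻¹ * ⁅w, c⁆ := by
    simp only [commutatorElement_def]; group
  rw [e, h2.eq, mul_inv_cancel_right, commutatorElement_eq_one_iff_mul_comm.2 h1.eq, mul_one]

theorem comm_mul_lcs (h3 : S.lowerCentralSeries 3 = ⊥) {y y' c : G}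
    (hy : y ∈ S.lowerCentralSeries 1) (hy' : y' ∈ S.lowerCentralSeries 1) (hc : c ∈ S) :
    ⁅y * y', c⁆ = ⁅y, c⁆ * ⁅y', c⁆ := by
  have e : ⁅y * y', c⁆ = y * ⁅y', c⁆ * y⁻¹ * ⁅y, c⁆ := by
    simp only [commutatorElement_def]; group
  have h1 := lcs_comm h3 (lcs2_mem hy' hc)
  rw [e, ← (h1 (lcs1_le_self hy)).eq, mul_inv_cancel_right]
  exact (h1 (lcs1_le_self (Subgroup.lowerCentralSeries_antitone (S := S) (by norm_num : 1 ≤ 2)
    (lcs2_mem hy hc)))).eq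

theorem triple_left (h3 : S.lowerCentralSeries 3 = ⊥) {a a' b c : G} (ha : a ∈ S) (ha' : a' ∈ S)
    (hb : b ∈ S) (hc : c ∈ S) :
    ⁅⁅a * a', b⁆, c⁆ = ⁅⁅a, b⁆, c⁆ * ⁅⁅a', b⁆, c⁆ := by
  have hy := lcs1_mem ha hb
  have hy' := lcs1_mem ha' hb
  have e : ⁅a * a', b⁆ = ⁅⁅a', b⁆, a⁆⁻¹ * (⁅a', b⁆ * ⁅a, b⁆) := by
    simp only [commutatorElement_def]; group
  have hw := lcs_comm h3 (inv_mem (lcs2_mem hy' ha))
  have hm := mul_mem hy' hy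
  rw [e, comm_central_mul (hw hc) (hw (lcs1_le_self (lcs1_mem (lcs1_le_self hm) hc))),
    comm_mul_lcs h3 hy' hy hc]
  exact (lcs_comm h3 (lcs2_mem hy' hc) (lcs1_le_self (lcs1_mem (lcs1_le_self hy) hc))).eq

theorem triple_mid (h3 : S.lowerCentralSeries 3 = ⊥) {a b b' c : G} (ha : a ∈ S) (hb : b ∈ S)
    (hb' : b' ∈ S) (hc : c ∈ S) :
    ⁅⁅a, b * b'⁆, c⁆ = ⁅⁅a, b⁆, c⁆ * ⁅⁅a, b'⁆, c⁆ := by
  have hy := lcs1_mem ha hb
  have hy' := lcs1_mem ha hb'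
  have hw := lcs_comm h3 (inv_mem (lcs2_mem hy' hb))
  have e : ⁅a, b * b'⁆ = ⁅⁅a, b'⁆, b⁆⁻¹ * (⁅a, b⁆ * ⁅a, b'⁆) := by
    calc ⁅a, b * b'⁆ = ⁅a, b⁆ * (⁅⁅a, b'⁆, b⁆⁻¹ * ⁅a, b'⁆) := by
          simp only [commutatorElement_def]; group
      _ = _ := by rw [← mul_assoc, ← (hw (lcs1_le_self hy)).eq, mul_assoc]
  have hm := mul_mem hy hy'
  rw [e, comm_central_mul (hw hc) (hw (lcs1_le_self (lcs1_mem (lcs1_le_self hm) hc))),
    comm_mul_lcs h3 hy hy' hc]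

theorem triple_right (h3 : S.lowerCentralSeries 3 = ⊥) {a b c c' : G} (ha : a ∈ S) (hb : b ∈ S)
    (hc : c ∈ S) (hc' : c' ∈ S) :
    ⁅⁅a, b⁆, c * c'⁆ = ⁅⁅a, b⁆, c⁆ * ⁅⁅a, b⁆, c'⁆ := by
  have e : ⁅⁅a, b⁆, c * c'⁆ = ⁅⁅a, b⁆, c⁆ * (c * ⁅⁅a, b⁆, c'⁆ * c⁻¹) := by
    simp only [commutatorElement_def]; group
  rw [e, ← (lcs_comm h3 (lcs2_mem (lcs1_mem ha hb) hc') hc).eq, mul_inv_cancel_right]

theorem triple_pow (h3 : S.lowerCentralSeries 3 = ⊥) {a b c : G} (ha : a ∈ S) (hb : b ∈ S)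
    (hc : c ∈ S) (i j : ℕ) : ⁅⁅a, b ^ i⁆, c ^ j⁆ = ⁅⁅a, b⁆, c⁆ ^ (i * j) := by
  have h1 : ∀ j : ℕ, ⁅⁅a, b⁆, c ^ j⁆ = ⁅⁅a, b⁆, c⁆ ^ j := by
    intro j
    induction j with
    | zero => simp
    | succ j ih => rw [pow_succ, triple_right h3 ha hb (pow_mem hc j) hc, ih, pow_succ]
  induction i with
  | zero => simp
  | succ i ih =>
    rw [pow_succ, triple_mid h3 ha (pow_mem hb i) hb (pow_mem hc j), ih, h1, Nat.succ_mul,
      pow_add]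

end Cfsg.Agent.PushUp
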