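import Cfsg.Agent.PushUp.Pair
import Cfsg.Agent.Core.Solvable

/-!
# Every noncentral chief factor in `O_p(G)` is a failure-of-factorization module
-/

set_option autoImplicit false
set_option linter.unusedSectionVars false

namespace Cfsg.Agent.PushUp

open Subgroup
open Cfsg.Agent.Offender (cj mem_cj)
open scoped commutatorElement

variable {G : Type*} [Group G] [Finite G] {p : ℕ} [Fact p.Prime]

/-- A `p`-group containing the section has a fixed point in it. -/
theorem exists_fix_notMem {P U W : Subgroup G} [U.Normal] [W.Normal] (hP : IsPGroup p P)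
    (hWU : W < U) (hUP : U ≤ P) : ∃ u ∈ fix P U W, u ∉ W := by
  haveI : Group.IsNilpotent ↥P := hP.isNilpotent
  let π := QuotientGroup.mk' (W.subgroupOf P)
  haveI hQn : Group.IsNilpotent (↥P ⧸ W.subgroupOf P) :=
    Group.nilpotent_of_surjective π (QuotientGroup.mk'_surjective _)
  haveI : ((U.subgroupOf P).map π).Normal :=
    Subgroup.Normal.map inferInstance π (QuotientGroup.mk'_surjective _)
  have hne : (U.subgroupOf P).map π ≠ ⊥ := by
    intro e
    rw [Subgroup.map_eq_bot_iff, QuotientGroup.ker_mk'] at e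
    exact hWU.not_ge fun u hu => e (show (⟨u, hUP hu⟩ : ↥P) ∈ U.subgroupOf P from hu)
  obtain ⟨⟨y, hy⟩, hy1⟩ := Subgroup.ne_bot_iff_exists_ne_one.1 (Core.inf_center_ne_bot hne)
  obtain ⟨u, hu, rfl⟩ := hy.1
  refine ⟨u, ⟨hu, fun s hs => ?_⟩, fun hW => hy1 (Subtype.ext ((QuotientGroup.eq_one_iff u).2 hW))⟩
  have h1 : π ⁅(⟨s, hs⟩ : ↥P), u⁆ = 1 := by
    rw [map_commutatorElement, commutatorElement_eq_one_iff_mul_comm]
    exact mem_center_iff.1 hy.2 _
  have h2 := (QuotientGroup.eq_one_iff (N := W.subgroupOf P) _).1 h1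
  exact h2

theorem fix_normal {Q U W : Subgroup G} [hQ : Q.Normal] [hU : U.Normal] [hW : W.Normal] :
    (fix Q U W).Normal :=
  ⟨fun u hu g => ⟨hU.conj_mem u hu.1 g, fun q hq => by
    have h1 := hW.conj_mem _ (hu.2 (g⁻¹ * q * g) (by simpa using hQ.conj_mem q hq g⁻¹)) g
    have e : g * ⁅g⁻¹ * q * g, u⁆ * g⁻¹ = ⁅q, g * u * g⁻¹⁆ := by
      simp only [commutatorElement_def]; group
    rwa [e] at h1⟩⟩

variable {S : Sylow p G} {M K V : Subgroup G}

namespace Ctx

variable (c : Ctx p S M K V) {U W : Subgroup G}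

include c

theorem chief_Q (hc : Cfsg.IsChiefFactor U W) (hUQ : U ≤ Cfsg.pCore p G) :
    haveI := hc.2.1
    haveI := hc.2.2.1
    Cfsg.pCore p G ≤ cent U W := by
  haveI := hc.2.1
  haveI := hc.2.2.1
  have hQp : IsPGroup p (Cfsg.pCore p G) := S.2.to_le c.QS
  obtain ⟨u, hu, huW⟩ := exists_fix_notMem hQp hc.1 hUQ
  haveI := fix_normal (Q := Cfsg.pCore p G) (U := U) (W := W)
  have hW : W ≤ fix (Cfsg.pCore p G) U W := fun w hw => ⟨hc.1.le hw, fun s _ => by
    rw [commutatorElement_def]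
    exact mul_mem ((inferInstance : W.Normal).conj_mem w hw s) (inv_mem hw)⟩
  rcases hc.2.2.2 _ inferInstance hW (fun x hx => hx.1) with e | e
  · exact absurd (e ▸ hu) huW
  · intro q hq w hw
    exact (e.ge hw : w ∈ fix (Cfsg.pCore p G) U W).2 q hq

/-- If the centralizer of a chief factor in `O_p(G)` supplements `S`, the factor is central. -/
theorem chief_central (hc : Cfsg.IsChiefFactor U W) (hUQ : U ≤ Cfsg.pCore p G) (C : Subgroup G)
    (hC : ∀ g ∈ C, ∀ u ∈ U, ⁅g, u⁆ ∈ W) (hCS : (S : Subgroup G) ⊔ C = ⊤) :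
    ⁅U, (⊤ : Subgroup G)⁆ ≤ W := by
  haveI := hc.2.1
  haveI hWn := hc.2.2.1
  obtain ⟨u, hu, huW⟩ := exists_fix_notMem S.2 hc.1 (hUQ.trans c.QS)
  have hall : ∀ g : G, ⁅g, u⁆ ∈ W := by
    let H : Subgroup G :=
      { carrier := {g | ⁅g, u⁆ ∈ W}
        one_mem' := by simp
        mul_mem' := fun {a b} ha hb => by
          have e : ⁅a * b, u⁆ = a * ⁅b, u⁆ * a⁻¹ * ⁅a, u⁆ := by
            simp only [commutatorElement_def]; group
          show ⁅a * b, u⁆ ∈ W
          rw [e]
          exact mul_mem (hWn.conj_mem _ hb a) ha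
        inv_mem' := fun {a} ha => by
          have e : ⁅a⁻¹, u⁆ = a⁻¹ * ⁅a, u⁆⁻¹ * a⁻¹⁻¹ := by
            simp only [commutatorElement_def]; group
          show ⁅a⁻¹, u⁆ ∈ W
          rw [e]
          exact hWn.conj_mem _ (inv_mem ha) a⁻¹ }
    intro g
    exact (sup_le (fun s hs => hu.2 s hs) (fun x hx => hC x hx u hu.1) : (S : Subgroup G) ⊔ C ≤ H)
      (hCS.ge (mem_top g))
  haveI := fix_normal (Q := (⊤ : Subgroup G)) (U := U) (W := W)
  have hW : W ≤ fix ⊤ U W := fun w hw => ⟨hc.1.le hw, fun s _ => by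
    rw [commutatorElement_def]
    exact mul_mem (hWn.conj_mem w hw s) (inv_mem hw)⟩
  rcases hc.2.2.2 _ inferInstance hW (fun x hx => hx.1) with e | e
  · exact absurd (e ▸ (⟨hu.1, fun g _ => hall g⟩ : u ∈ fix ⊤ U W)) huW
  · refine commutator_le.2 fun w hw g _ => ?_
    rw [← commutatorElement_inv]
    exact inv_mem ((e.ge hw : w ∈ fix ⊤ U W).2 g (mem_top g))

theorem chief_trivial (hc : Cfsg.IsChiefFactor U W) (hUQ : U ≤ Cfsg.pCore p G)
    (hS : ∀ s ∈ (S : Subgroup G), ∀ u ∈ U, ⁅s, u⁆ ∈ W) : ⁅U, (⊤ : Subgroup G)⁆ ≤ W := by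
  haveI := hc.2.1
  haveI := hc.2.2.1
  exact commutator_le_of_cent (c.eq_top_of_normal (N := cent U W) hS)

/-- The bound for a factor met by `V`. -/
theorem bound_V {b : ℕ} (hb : Short p (S : Subgroup G) V b) {L : List (Step (S : Subgroup G))}
    (hL : Crit p V b L) (hc : Cfsg.IsChiefFactor U W) (hUV : (U ⊓ V) ⊔ W = U) :
    haveI := hc.2.2.1
    Nat.card U * Nat.card (Cfsg.pCore p G) ≤
      Nat.card (S : Subgroup G) * Nat.card (fix (S : Subgroup G) U W) := by
  haveI := hc.2.1
  haveI := hc.2.2.1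
  haveI := c.hVn
  obtain ⟨L', s, rfl⟩ := c.crit_split hb hL
  have hcard := (c.offender_full hb hL (k := s.h) (fun y hy => by
    obtain ⟨v, -, hy⟩ := mem_img.1 hy
    exact link_mem_last hy) (c.offender_bound hb hL)).2.2.2.2
  refine fix_bound (N := V) (F₀ := V ⊓ centralizer ((S : Subgroup G) : Set G)) hUV inf_le_left ?_
    (le_of_eq hcard)
  rintro u ⟨hu, -, huS⟩
  refine ⟨hu, fun s hs => ?_⟩
  rw [commutatorElement_eq_one_iff_mul_comm.2 (mem_centralizer_iff.1 huS s hs)]
  exact one_mem W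

theorem ff_bound (hc : Cfsg.IsChiefFactor U W) (hUQ : U ≤ Cfsg.pCore p G)
    (hnc : ¬ ⁅U, (⊤ : Subgroup G)⁆ ≤ W) :
    haveI := hc.2.2.1
    Nat.card U * Nat.card (Cfsg.pCore p G) ≤
      Nat.card (S : Subgroup G) * Nat.card (fix (S : Subgroup G) U W) := by
  haveI := hc.2.1
  haveI hWn := hc.2.2.1
  haveI := c.hVn
  obtain ⟨b, hb, L, hL⟩ := c.exists_crit
  rcases chief_cases hc V with hV | hV
  swap
  · exact c.bound_V hb hL hc hV
  have hQc := c.chief_Q hc hUQ
  have hb2 := c.le_two hb hL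
  have hq := c.quad_comm hb hL
  have hb0 : b ≠ 0 := fun h0 => by
    obtain ⟨L', s, hLe⟩ := c.crit_split hb hL
    have := hL.1
    rw [hLe, List.length_append, List.length_singleton] at this
    omega
  rcases (show b = 1 ∨ b = 2 by omega) with rfl | rfl
  · -- `S = V^β O_p(G)`
    exfalso
    apply hnc
    obtain ⟨⟨g, β, h⟩, rfl⟩ : ∃ s, L = [s] := List.length_eq_one_iff.1 hL.1
    have hL1 : Crit p V 1 (([] : List (Step (S : Subgroup G))) ++ [⟨g, β, 1⟩]) :=
      c.crit_retarget hb (L := []) (h := h) hL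
    refine c.chief_trivial hc hUQ fun t ht u hu => ?_
    obtain ⟨y, hy, hq'⟩ := c.cover hb hL1 ht
    obtain ⟨v, hv, hy'⟩ := mem_img.1 hy
    obtain ⟨tv, htv, hyv⟩ := link_single.1 hy'
    have hyη : y = ((β tv : ↥(S : Subgroup G)) : G) := by simpa using hyv
    have hη : y ∈ tw V β := hyη ▸ mem_tw_of_mem (by
      have := c.hVn.conj_mem v hv g⁻¹
      rw [htv] at this
      simpa [mul_assoc] using this)
    have hyu : ⁅y, u⁆ ∈ W := hV ⟨by
        rw [commutatorElement_def]
        exact U.mul_mem ((inferInstance : U.Normal).conj_mem u hu y) (U.inv_mem hu),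
      (c.S_conj_omega hq hη (c.QS (hUQ hu))).1⟩
    have hq'' : y⁻¹ * t ∈ Cfsg.pCore p G := by simpa using hq'
    have := mul_mem (show y ∈ cent U W from fun w hw => hV ⟨by
        rw [commutatorElement_def]
        exact U.mul_mem ((inferInstance : U.Normal).conj_mem w hw y) (U.inv_mem hw),
      (c.S_conj_omega hq hη (c.QS (hUQ hw))).1⟩) (hQc hq'')
    rw [mul_inv_cancel_left] at this
    exact this u hu
  · obtain ⟨β, γ, x, P⟩ := c.exists_pair hb hL
    set Q := Cfsg.pCore p G with hQ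
    set L3 := ⁅⁅Q, Q⁆, Q⁆ with hL3
    have hcov : ∀ C : Subgroup G, Q ≤ C → tw Q β ≤ C → (S : Subgroup G) ≤ C := by
      intro C h1 h2 t ht
      obtain ⟨ζ, hζ, h⟩ := P.cov₂ t ht
      have := mul_mem (h1 ((inferInstance : Q.Normal).conj_mem _ (P.inQ₂ hζ) x)) (h2 h)
      rwa [mul_inv_cancel_left] at this
    rcases chief_cases hc (⁅Q, Q⁆ ⊔ V) with hN | hN
    · -- the top
      have hUQ' : (U ⊓ Q) ⊔ W = U := by
        rw [inf_eq_left.2 hUQ]; exact sup_eq_left.2 hc.1.le
      refine fix_bound (N := Q) (F₀ := Q ⊓ tw Q β) hUQ' inf_le_left ?_ ?_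
      · rintro u ⟨hu, huQ, huβ⟩
        refine ⟨hu, fun t ht => ?_⟩
        let H : Subgroup G :=
          { carrier := {g | ⁅g, u⁆ ∈ W}
            one_mem' := by simp
            mul_mem' := fun {a b} ha hb => by
              have e : ⁅a * b, u⁆ = a * ⁅b, u⁆ * a⁻¹ * ⁅a, u⁆ := by
                simp only [commutatorElement_def]; group
              show ⁅a * b, u⁆ ∈ W
              rw [e]
              exact mul_mem (hWn.conj_mem _ hb a) ha
            inv_mem' := fun {a} ha => by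
              have e : ⁅a⁻¹, u⁆ = a⁻¹ * ⁅a, u⁆⁻¹ * a⁻¹⁻¹ := by
                simp only [commutatorElement_def]; group
              show ⁅a⁻¹, u⁆ ∈ W
              rw [e]
              exact hWn.conj_mem _ (inv_mem ha) a⁻¹ }
        refine hcov H (fun q hq => hQc hq u hu) (fun q hq => hN ⟨?_, ?_⟩) ht
        · rw [commutatorElement_def]
          exact U.mul_mem ((inferInstance : U.Normal).conj_mem u hu q) (U.inv_mem hu)
        · exact c.pair_D_le P (tw_commutator c.QS c.QS β (commutator_mem_commutator hq huβ))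
      · have hle : tw Q β ⊔ Q ≤ (S : Subgroup G) := sup_le tw_le c.QS
        calc Nat.card Q * Nat.card Q = Nat.card (tw Q β) * Nat.card Q := by rw [card_tw c.QS]
          _ = Nat.card (tw Q β ⊔ Q : Subgroup G) * Nat.card (tw Q β ⊓ Q : Subgroup G) :=
            (Core.card_sup_mul_card_inf _ _).symm
          _ ≤ _ := by rw [inf_comm]; exact Nat.mul_le_mul_right _ (card_le_of_le hle)
    · exfalso
      apply hnc
      rcases chief_cases hc (L3 ⊔ V) with hM | hM
      · -- the middle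
        refine c.chief_trivial hc hUQ fun t ht u hu => ?_
        set N2 := ⁅Q, Q⁆ ⊔ V with hN2
        have hfix : ∀ g : G, (∀ w ∈ U ⊓ N2, ⁅g, w⁆ ∈ W) → g ∈ cent U W := by
          intro g hg w hw
          rw [← hN] at hw
          obtain ⟨a, ha, w', hw', rfl⟩ := Subgroup.mem_sup_of_normal_right.1 hw
          have e : ⁅g, a * w'⁆ = ⁅g, a⁆ * (a * (g * w' * g⁻¹ * w'⁻¹) * a⁻¹) := by
            simp only [commutatorElement_def]; group
          rw [e]
          exact mul_mem (hg a ha) (hWn.conj_mem _ (mul_mem (hWn.conj_mem w' hw' g) (inv_mem hw')) a)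
        refine hcov (cent U W) hQc (fun q hq => hfix q fun w hw => hM ⟨?_, ?_⟩) ht u hu
        · rw [commutatorElement_def]
          exact U.mul_mem ((inferInstance : U.Normal).conj_mem w hw.1 q) (U.inv_mem hw.1)
        · -- `[βQ, D ⊔ V] ≤ L3 ⊔ V`
          obtain ⟨d, hd, v, hv, rfl⟩ := Subgroup.mem_sup_of_normal_right.1 hw.2
          have e : ⁅q, d * v⁆ = ⁅q, d⁆ * (d * (q * v * q⁻¹ * v⁻¹) * d⁻¹) := by
            simp only [commutatorElement_def]; group
          rw [e]
          refine mul_mem ?_ (mem_sup_right (c.hVn.conj_mem _ (mul_mem (c.hVn.conj_mem v hv q)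
            (inv_mem hv)) d))
          obtain ⟨d1, hd1, c0, hc0, rfl⟩ := Subgroup.mem_sup_of_normal_right.1 (c.pair_derived P hd)
          have h1 : d1 ∈ tw ⁅Q, Q⁆ β :=
            (commutator_mono inf_le_right inf_le_right).trans (tw_commutator c.QS c.QS β) hd1
          have h2 : ⁅d1, q⁆ ∈ L3 := by
            refine (c.pair_L3_inv P).le ?_
            exact tw_commutator ((commutator_le_self _).trans c.QS) c.QS β
              (commutator_mem_commutator h1 hq)
          have h3 := mem_center_iff.1 hc0.2 q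
          have e2 : ⁅q, d1 * c0⁆ = ⁅d1, q⁆⁻¹ := by
            calc ⁅q, d1 * c0⁆ = q * d1 * (c0 * q⁻¹) * c0⁻¹ * d1⁻¹ := by
                  simp only [commutatorElement_def]; group
              _ = q * d1 * (q⁻¹ * c0) * c0⁻¹ * d1⁻¹ := by rw [mem_center_iff.1 hc0.2 q⁻¹]
              _ = _ := by simp only [commutatorElement_def]; group
          rw [e2]
          exact mem_sup_left (inv_mem h2)
      · -- `L3`
        refine c.chief_central hc hUQ (centralizer (L3 : Set G)) ?_
          (c.sup_eq_top (N := centralizer (L3 : Set G)) (c.pair_not_cent_le P))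
        intro g hg u hu
        rw [← hM] at hu
        obtain ⟨a, ha, w', hw', rfl⟩ := Subgroup.mem_sup_of_normal_right.1 hu
        have e : ⁅g, a * w'⁆ = ⁅g, a⁆ * (a * (g * w' * g⁻¹ * w'⁻¹) * a⁻¹) := by
          simp only [commutatorElement_def]; group
        rw [e]
        refine mul_mem (hV ⟨?_, ?_⟩)
          (hWn.conj_mem _ (mul_mem (hWn.conj_mem w' hw' g) (inv_mem hw')) a)
        · rw [commutatorElement_def]
          exact U.mul_mem ((inferInstance : U.Normal).conj_mem a ha.1 g) (U.inv_mem ha.1)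
        · obtain ⟨l, hl, v, hv, rfl⟩ := Subgroup.mem_sup_of_normal_right.1 ha.2
          have e3 : ⁅g, l * v⁆ = ⁅g, l⁆ * (l * (g * v * g⁻¹ * v⁻¹) * l⁻¹) := by
            simp only [commutatorElement_def]; group
          rw [e3, commutatorElement_eq_one_iff_mul_comm.2 (mem_centralizer_iff.1 hg l hl).symm,
            one_mul]
          exact c.hVn.conj_mem _ (mul_mem (c.hVn.conj_mem v hv g) (inv_mem hv)) l

end Ctx

end Cfsg.Agent.PushUp
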