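import Cfsg.Agent.PushUp.ClassThree
import Cfsg.Agent.PushUp.Triple

/-!
# `b = 2`: the two chief factors, `p = 3` and exponent `9`
-/

set_option autoImplicit false
set_option linter.unusedSectionVars false

namespace Cfsg.Agent.PushUp

open Subgroup Cfsg.Agent.PushRankOne
open Cfsg.Agent.Offender (cj mem_cj)
open scoped commutatorElement MatrixGroups

variable {G : Type*} [Group G] [Finite G] {p : ℕ} [Fact p.Prime] {S : Sylow p G}
  {M K V : Subgroup G}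

namespace Ctx

variable (c : Ctx p S M K V) (hb : Short p (S : Subgroup G) V 2)
  {β γ : MulAut ↥(S : Subgroup G)} {x : G} (P : Pair p S V β γ x)

include c

theorem z_mem {ζ : G} (hζ : ζ ∈ tw V γ) (hP : Pair p S V β γ x) :
    x * ζ * x⁻¹ ∈ Cfsg.pCore p G :=
  (inferInstance : (Cfsg.pCore p G).Normal).conj_mem _ (hP.inQ₂ hζ) x

theorem pow_mem_Q {t : G} (ht : t ∈ (S : Subgroup G)) : t ^ p ∈ Cfsg.pCore p G :=
  c.st.pCore_eq.ge ⟨pow_mem ht p, c.st.pow t ht⟩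

include hb P

theorem res_not_le : ¬ ⁅Cfsg.pResidual p G, Cfsg.pCore p G⁆ ≤
    ⁅Cfsg.pCore p G, Cfsg.pCore p G⁆ ⊔ V := by
  intro hle
  haveI := c.hVn
  have hN : ⁅Cfsg.pResidual p G, ⁅Cfsg.pCore p G, Cfsg.pCore p G⁆ ⊔ V⁆ ≤ V := by
    refine commutator_le.2 fun r hr u hu => ?_
    obtain ⟨d, hd, v, hv, rfl⟩ := Subgroup.mem_sup_of_normal_right.1 hu
    have h1 : ⁅r, d⁆ = 1 := mem_bot.1
      (res_resC (commutator_mem_commutator hr (c.D_resC P hd)))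
    have e : ⁅r, d * v⁆ = ⁅r, d⁆ * (d * ⁅r, v⁆ * d⁻¹) := by
      simp only [commutatorElement_def]; group
    rw [e, h1, one_mul]
    exact c.hVn.conj_mem _ (commutator_le_right _ V (commutator_mem_commutator hr hv)) d
  have hQV := res_trans (S.2.to_le c.QS) hle hN
  obtain ⟨η, hη, ζ, hζ, hne⟩ := P.ncomm
  obtain ⟨r, hr, s, hs, rfl⟩ := Subgroup.mem_sup_of_normal_left.1
    ((sup_comm (S : Subgroup G) _ ▸ Fusion.sylow_sup_pResidual S :
      Cfsg.pResidual p G ⊔ (S : Subgroup G) = ⊤).ge (mem_top x))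
  have hζ' : s * ζ * s⁻¹ ∈ tw V γ := tw_conj hζ hs
  have hv := hQV (commutator_mem_commutator hr (P.inQ₂ hζ'))
  have e : r * s * ζ * (r * s)⁻¹ = ⁅r, s * ζ * s⁻¹⁆ * (s * ζ * s⁻¹) := by
    simp only [commutatorElement_def]; group
  refine hne ?_
  rw [e]
  refine (c.Q_comm (P.inQ₁ hη) hv).mul_right (c.tw_comm hζ' ?_)
  obtain ⟨u, hu, rfl⟩ := mem_tw.1 hη
  refine mem_tw.2 ⟨γ.symm (β u), c.tw_short hb (β.trans γ.symm) ?_, ?_⟩
  · exact mem_tw.2 ⟨u, hu, rfl⟩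
  · rw [MulEquiv.apply_symm_apply]

theorem chief_top {F : Type*} [Field F] [Fintype F] {n : ℕ} (hF : Fintype.card F = p ^ n)
    (hq : Nat.card (S : Subgroup G) = p ^ n * Nat.card (Cfsg.pCore p G)) :
    ∃ U W : Subgroup G, ∃ _ : W.Normal, Cfsg.IsChiefFactor U W ∧
      ¬ ⁅U, (⊤ : Subgroup G)⁆ ≤ W ∧ U ≤ Cfsg.pCore p G ∧ V ≤ W ∧
      W ≤ Cfsg.pCore p G ⊓ tw (Cfsg.pCore p G) β ∧
      ⁅Cfsg.pResidual p G, W⁆ ≤ V ∧ ⁅Cfsg.pResidual p G, Cfsg.pCore p G⁆ ≤ U ∧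
      fix (S : Subgroup G) U W ≤ Cfsg.pCore p G ⊓ tw (Cfsg.pCore p G) β ∧
      U ⊔ (Cfsg.pCore p G ⊓ tw (Cfsg.pCore p G) β) = Cfsg.pCore p G := by
  haveI := c.hVn
  set Q := Cfsg.pCore p G with hQ
  set Q1 := Q ⊓ tw Q β with hQ1
  set N1 := ⁅Q, Q⁆ ⊔ V with hN1def
  set U := ⁅Cfsg.pResidual p G, Q⁆ ⊔ N1 with hUdef
  haveI hUn : U.Normal := by rw [hUdef, hN1def]; infer_instance
  haveI hN1n : N1.Normal := by rw [hN1def]; infer_instance
  have hUQ : U ≤ Q :=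
    sup_le (commutator_le_right _ _) (sup_le (commutator_le_self Q) c.VQ)
  have hlt : N1 < U := lt_of_le_of_ne le_sup_right fun e =>
    c.res_not_le hb P (le_sup_left.trans e.ge)
  obtain ⟨W, ⟨hWn, hNW, hWU⟩, hmax⟩ := Set.exists_max_image
    {W : Subgroup G | W.Normal ∧ N1 ≤ W ∧ W < U} (fun W => Nat.card W) (Set.toFinite _)
    ⟨N1, hN1n, le_rfl, hlt⟩
  haveI := hWn
  have hc : Cfsg.IsChiefFactor U W := by
    refine ⟨hWU, hUn, hWn, fun Y hY hWY hYU => ?_⟩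
    by_cases e' : Y = U
    · exact Or.inr e'
    · exact Or.inl (eq_of_le_of_card_ge hWY
        (hmax Y ⟨hY, hNW.trans hWY, lt_of_le_of_ne hYU e'⟩)).symm
  have hnc : ¬ ⁅U, (⊤ : Subgroup G)⁆ ≤ W := by
    intro h
    refine hWU.not_ge (sup_le ?_ hNW)
    refine res_trans (S.2.to_le c.QS) (B := U) le_sup_left ?_
    exact (commutator_mono le_top le_rfl).trans (commutator_comm (⊤ : Subgroup G) U ▸ h)
  obtain ⟨-, -, hfix, hU⟩ := c.chief_natural (F := F) hF hq hc hUQ hnc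
  have hcomm : ∀ a ∈ Q1, ∀ s ∈ (S : Subgroup G), ⁅s, a⁆ ∈ N1 := by
    intro a ha s hs
    rw [← commutatorElement_inv]
    exact inv_mem ((sup_le_sup le_rfl inf_le_left : _ ⊔ (V ⊓ centralizer ((S : Subgroup G) : Set G)) ≤ N1) (c.Q1_comm P ha hs))
  have hsub : Q1 ⊓ U ≤ fix (S : Subgroup G) U W := fun a ha =>
    ⟨ha.2, fun s hs => hNW (hcomm a ha.1 s hs)⟩
  have h1 := Core.card_sup_mul_card_inf (tw Q β) Q
  rw [card_tw c.QS, inf_comm (tw Q β) Q, ← hQ1] at h1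
  have h2 := card_le_of_le (sup_le (tw_le (V := Q) (β := β)) c.QS)
  rw [hq] at h2
  have hQb : Nat.card Q ≤ p ^ n * Nat.card Q1 := by
    refine Nat.le_of_mul_le_mul_right ?_ (Nat.card_pos (α := Q))
    rw [← h1]
    calc Nat.card (tw Q β ⊔ Q : Subgroup G) * Nat.card Q1
        ≤ p ^ n * Nat.card Q * Nat.card Q1 := Nat.mul_le_mul_right _ h2
      _ = _ := by ring
  have h3 := Core.card_sup_mul_card_inf Q1 U
  have hsupQ : Q1 ⊔ U ≤ Q := sup_le inf_le_left hUQ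
  have i1 := card_le_of_le hsupQ
  have i2 := card_le_of_le hsub
  rw [hfix] at i2
  rw [hU] at h3
  have hpos : 0 < Nat.card (Q1 ⊓ U : Subgroup G) := Nat.card_pos
  have hpos' : 0 < Nat.card (Q1 ⊔ U : Subgroup G) := Nat.card_pos
  have hup : Nat.card (Q1 ⊔ U : Subgroup G) * Nat.card (Q1 ⊓ U : Subgroup G) ≤
      Nat.card (Q1 ⊔ U : Subgroup G) * (p ^ n * Nat.card W) := Nat.mul_le_mul_left _ i2
  have hQle : p ^ n * Nat.card Q1 * (p ^ n * Nat.card W) =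
      Nat.card Q1 * (p ^ n * (p ^ n * Nat.card W)) := by ring
  have hWp : 0 < p ^ n * Nat.card W :=
    Nat.mul_pos (pow_pos (Fact.out : p.Prime).pos n) Nat.card_pos
  have hQeq : Q1 ⊔ U = Q := by
    refine eq_of_le_of_card_ge hsupQ (hQb.trans (Nat.le_of_mul_le_mul_right ?_ hWp))
    rw [hQle, ← h3]
    exact hup
  have hinf : Q1 ⊓ U = fix (S : Subgroup G) U W := by
    refine eq_of_le_of_card_ge hsub ?_
    rw [hfix]
    refine Nat.le_of_mul_le_mul_left (?_ : Nat.card (Q1 ⊔ U : Subgroup G) * _ ≤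
      Nat.card (Q1 ⊔ U : Subgroup G) * _) hpos'
    rw [h3, ← hQle]
    exact Nat.mul_le_mul_right _ ((Nat.le_of_eq (by rw [hQeq])).trans hQb)
  have hfixle : fix (S : Subgroup G) U W ≤ Q1 := hinf ▸ inf_le_left
  have hWQ1 : W ≤ Q1 := fun w hw => hfixle ⟨hWU.le hw, fun s _ => by
    rw [commutatorElement_def]
    exact mul_mem (hWn.conj_mem w hw s) (inv_mem hw)⟩
  refine ⟨U, W, hWn, hc, hnc, hUQ, le_sup_right.trans hNW, hWQ1, ?_, le_sup_left, hfixle,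
    by rw [sup_comm]; exact hQeq⟩
  have hWQ : W ≤ Q := hWU.le.trans hUQ
  refine res_trans (S.2.to_le (hWQ.trans c.QS)) (B := N1) ?_ ?_
  · refine res_of_chief hNW (S.2.to_le (hWQ.trans c.QS)) fun Y Z hNZ hYW hc' => ?_
    haveI := hc'.2.1
    haveI := hc'.2.2.1
    exact c.chief_trivial hc' (hYW.trans hWQ) fun s hs u hu =>
      hNZ (hcomm u (hWQ1 (hYW hu)) s hs)
  · refine commutator_le.2 fun r hr u hu => ?_
    obtain ⟨d, hd, v, hv, rfl⟩ := Subgroup.mem_sup_of_normal_right.1 hu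
    have h1 : ⁅r, d⁆ = 1 := mem_bot.1
      (res_resC (commutator_mem_commutator hr (c.D_resC P hd)))
    have e : ⁅r, d * v⁆ = ⁅r, d⁆ * (d * ⁅r, v⁆ * d⁻¹) := by
      simp only [commutatorElement_def]; group
    rw [e, h1, one_mul]
    exact c.hVn.conj_mem _ (commutator_le_right _ V (commutator_mem_commutator hr hv)) d

theorem lcs2_not_le {F : Type*} [Field F] [Fintype F] {n : ℕ} (hF : Fintype.card F = p ^ n)
    (hq : Nat.card (S : Subgroup G) = p ^ n * Nat.card (Cfsg.pCore p G))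
    (hd : ∀ T : Subgroup ↥(S : Subgroup G), T ≠ ⊥ → T.Characteristic →
      ¬ (T.map (S : Subgroup G).subtype).Normal) :
    (S : Subgroup G).lowerCentralSeries 2 ≠ ⊥ ∧
      ¬ (S : Subgroup G).lowerCentralSeries 2 ≤ resC p G := by
  have hne : (S : Subgroup G).lowerCentralSeries 2 ≠ ⊥ := by
    intro e
    obtain ⟨U, W, hWn, hc, hnc, hUQ, -, hWQ1, -, -, -, hUQ1⟩ := c.chief_top hb P (F := F) hF hq
    haveI := hc.2.1
    have hZ : ⁅(S : Subgroup G).lowerCentralSeries 1, (S : Subgroup G)⁆ = ⊥ := e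
    rw [commutator_eq_bot_iff_le_centralizer] at hZ
    have hUC : (U ⊓ centralizer (Cfsg.pCore p G : Set G)) ⊔ W = U := by
      refine (chief_cases hc _).resolve_left fun hle => hnc ?_
      refine c.chief_trivial hc hUQ fun s hs u hu => hle ⟨?_, ?_⟩
      · show _ ∈ U
        rw [commutatorElement_def]
        exact mul_mem (hc.2.1.conj_mem u hu s) (inv_mem hu)
      · exact centralizer_le c.QS (hZ (commutator_mem_commutator hs (c.QS (hUQ hu))))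
    have hQle : Cfsg.pCore p G ≤ centralizer (Cfsg.pCore p G : Set G) ⊔
        (Cfsg.pCore p G ⊓ tw (Cfsg.pCore p G) β) := by
      conv_lhs => rw [← hUQ1, ← hUC]
      exact sup_le (sup_le (inf_le_right.trans le_sup_left) (hWQ1.trans le_sup_right))
        le_sup_right
    obtain ⟨η, hη, ζ, hζ, hne⟩ := P.ncomm
    obtain ⟨a, ha, q1, hq1, he⟩ := Subgroup.mem_sup_of_normal_left.1 (hQle (c.z_mem hζ P))
    refine hne ?_
    rw [← he]
    exact (show Commute η a from mem_centralizer_iff.1 ha η (P.inQ₁ hη)).mul_right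
      (c.tw_comm hη hq1.2).symm
  refine ⟨hne, fun hle => hne (kill hd
    (Subgroup.lowerCentralSeries_antitone (S := (S : Subgroup G)) (Nat.zero_le 2))
    (fun δ y hy => lcs_inv _ δ 2 y hy) fun r hr t ht => ?_)⟩
  rw [mem_centralizer_iff.1 (hle ht).2 r hr, mul_inv_cancel_right]
  exact ht

theorem Q1_triple {a t t' : G} (ha : a ∈ Cfsg.pCore p G ⊓ tw (Cfsg.pCore p G) β)
    (ht : t ∈ (S : Subgroup G)) (ht' : t' ∈ (S : Subgroup G)) : ⁅⁅a, t⁆, t'⁆ ∈ resC p G := by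
  obtain ⟨d, hd', w, hw, e⟩ := Subgroup.mem_sup_of_normal_left.1 (c.Q1_comm P ha ht)
  rw [← e]
  have hwt : Commute w t' := (mem_centralizer_iff.1 hw.2 t' ht').symm
  have e2 : ⁅d * w, t'⁆ = ⁅d, t'⁆ := by
    calc ⁅d * w, t'⁆ = d * (w * t') * w⁻¹ * d⁻¹ * t'⁻¹ := by
          simp only [commutatorElement_def]; group
      _ = d * (t' * w) * w⁻¹ * d⁻¹ * t'⁻¹ := by rw [hwt.eq]
      _ = _ := by simp only [commutatorElement_def]; group
  rw [e2, commutatorElement_def, show d * t' * d⁻¹ * t'⁻¹ = d * (t' * d⁻¹ * t'⁻¹) by group]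
  exact mul_mem (c.D_resC P hd') (resC_normal.conj_mem _ (inv_mem (c.D_resC P hd')) t')

variable {n : ℕ} (hq : Nat.card (S : Subgroup G) = p ^ n * Nat.card (Cfsg.pCore p G))
  {L : List (Step (S : Subgroup G))} (hL : Crit p V 2 L)

include hq hL

/-- Some triple commutator `[z, t, t]` is not centralized by `O^p(G)`. -/
theorem exists_triple (hd : ∀ T : Subgroup ↥(S : Subgroup G), T ≠ ⊥ → T.Characteristic →
      ¬ (T.map (S : Subgroup G).subtype).Normal)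
    (hne : ¬ (S : Subgroup G).lowerCentralSeries 2 ≤ resC p G) :
    ∃ ζ ∈ tw V γ, ∃ t ∈ (S : Subgroup G),
      ⁅⁅x * ζ * x⁻¹, t⁆, t⁆ ∉ resC p G ∧
        ∃ v ∈ V, ⁅⁅x * ζ * x⁻¹, t⁆, t⁆ * ⁅v, t⁆⁻¹ ∈ resC p G := by
  haveI := c.hVn
  set C3 := fix (S : Subgroup G) (S : Subgroup G) (resC p G) with hC3
  have hvt : ∀ ζ ∈ tw V γ, ∀ t ∈ (S : Subgroup G), ∃ v ∈ V, ∀ t' ∈ (S : Subgroup G),
      ⁅⁅x * ζ * x⁻¹, t⁆, t'⁆ * ⁅v, t'⁆⁻¹ ∈ resC p G := by
    intro ζ hζ t ht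
    obtain ⟨η, hη, v, hv, w, hw, e⟩ :=
      c.z_comm hb P hq (c.card_V_omega hb hL hq) hζ ht
    refine ⟨v, hv, fun t' ht' => ?_⟩
    have h1 : ⁅η, t'⁆ ∈ center G := c.pair_central' P.symm hη ht'
    have h2 : ⁅η, t'⁆ ∈ resC p G := c.center_le_resC ⟨(c.S_conj_omega P.quad hη ht').1, h1⟩
    have h3 : Commute ⁅v, t'⁆ η := (mem_centralizer_iff.1 (P.quad v hv t' ht').2 η (tw_le hη)).symm
    rw [e, c.comm_of_central h1 (mem_centralizer_iff.1 hw t' ht').symm, ← h3.eq,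
      mul_inv_cancel_right, mul_inv_cancel_right]
    exact h2
  by_contra hcon
  push Not at hcon
  have hzero : ∀ ζ ∈ tw V γ, ∀ t ∈ (S : Subgroup G), ∀ t' ∈ (S : Subgroup G),
      ⁅⁅x * ζ * x⁻¹, t⁆, t'⁆ ∈ resC p G := by
    intro ζ hζ t ht t' ht'
    by_cases htQ : t ∈ Cfsg.pCore p G
    · rw [commutatorElement_def ⁅x * ζ * x⁻¹, t⁆ t', mul_assoc, mul_assoc, ← mul_assoc t']
      have h1 := c.D_resC P (commutator_mem_commutator (c.z_mem hζ P) htQ)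
      exact mul_mem h1 (resC_normal.conj_mem _ (inv_mem h1) t')
    obtain ⟨v, hv, hv'⟩ := hvt ζ hζ t ht
    have h1 : ⁅⁅x * ζ * x⁻¹, t⁆, t⁆ ∈ resC p G :=
      by_contra fun h => hcon ζ hζ t ht h v hv (hv' t ht)
    have h2 : ⁅v, t⁆ ∈ resC p G := by
      have := mul_mem (inv_mem (hv' t ht)) h1
      rwa [mul_inv_rev, inv_inv, mul_assoc, inv_mul_cancel, mul_one] at this
    have h3 : ⁅t, v⁆ ∈ center G := by
      rw [← commutatorElement_inv]
      exact inv_mem (c.resC_center (P.quad v hv t ht).2 h2)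
    have h4 := c.regular hb hL ht htQ hv h3
    have h5 := hv' t' ht'
    rw [commutatorElement_eq_one_iff_mul_comm.2 (mem_centralizer_iff.1 h4.2 t' ht').symm,
      inv_one, mul_one] at h5
    exact h5
  have hRle : resC p G ≤ C3 := fun u hu => ⟨c.QS hu.1, fun s _ => by
    rw [commutatorElement_def]
    exact mul_mem (resC_normal.conj_mem u hu s) (inv_mem hu)⟩
  have hC3n : ∀ s ∈ (S : Subgroup G), ∀ u ∈ C3, s * u * s⁻¹ ∈ C3 := by
    intro s hs u hu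
    rw [show s * u * s⁻¹ = ⁅s, u⁆ * u by simp [commutatorElement_def]]
    exact mul_mem (hRle (hu.2 s hs)) hu
  have hz : ∀ ζ ∈ tw V γ, ∀ b ∈ (S : Subgroup G), ⁅x * ζ * x⁻¹, b⁆ ∈ C3 := by
    intro ζ hζ b hb'
    refine ⟨lcs1_le_self (lcs1_mem (c.QS (c.z_mem hζ P)) hb'), fun s hs => ?_⟩
    rw [← commutatorElement_inv]
    exact inv_mem (hzero ζ hζ b hb' s hs)
  let Kt : Subgroup G :=
    { carrier := {a | a ∈ (S : Subgroup G) ∧ ∀ b ∈ (S : Subgroup G), ⁅a, b⁆ ∈ C3}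
      one_mem' := ⟨one_mem _, fun b _ => by simp⟩
      mul_mem' := fun {a a'} ha ha' => ⟨mul_mem ha.1 ha'.1, fun b hb' => by
        rw [show ⁅a * a', b⁆ = a * ⁅a', b⁆ * a⁻¹ * ⁅a, b⁆ by
          simp only [commutatorElement_def]; group]
        exact mul_mem (hC3n a ha.1 _ (ha'.2 b hb')) (ha.2 b hb')⟩
      inv_mem' := fun {a} ha => ⟨inv_mem ha.1, fun b hb' => by
        rw [show ⁅a⁻¹, b⁆ = a⁻¹ * ⁅a, b⁆⁻¹ * a⁻¹⁻¹ by
          simp only [commutatorElement_def]; group]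
        exact hC3n _ (inv_mem ha.1) _ (inv_mem (ha.2 b hb'))⟩ }
  have hgen : ∀ C : Subgroup G, (∀ ζ ∈ tw V γ, x * ζ * x⁻¹ ∈ C) →
      tw (Cfsg.pCore p G) β ≤ C → (S : Subgroup G) ≤ C := by
    intro C h1 h2
    refine c.S_sup P C (fun q hq' => ?_) h2
    obtain ⟨ζ, hζ, q1, hq1, rfl⟩ := c.pair_split P hq'
    exact mul_mem (h1 ζ hζ) (h2 hq1.2)
  have hKt : (S : Subgroup G) ≤ Kt := by
    refine hgen Kt (fun ζ hζ => ⟨c.QS (c.z_mem hζ P), hz ζ hζ⟩) fun a ha => ⟨tw_le ha, ?_⟩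
    let Kb : Subgroup G :=
      { carrier := {b | b ∈ (S : Subgroup G) ∧ ⁅a, b⁆ ∈ C3}
        one_mem' := ⟨one_mem _, by simp⟩
        mul_mem' := fun {b b'} hb1 hb2 => ⟨mul_mem hb1.1 hb2.1, by
          rw [show ⁅a, b * b'⁆ = ⁅a, b⁆ * (b * ⁅a, b'⁆ * b⁻¹) by
            simp only [commutatorElement_def]; group]
          exact mul_mem hb1.2 (hC3n b hb1.1 _ hb2.2)⟩
        inv_mem' := fun {b} hb1 => ⟨inv_mem hb1.1, by
          rw [show ⁅a, b⁻¹⁆ = b⁻¹ * ⁅a, b⁆⁻¹ * b⁻¹⁻¹ by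
            simp only [commutatorElement_def]; group]
          exact hC3n _ (inv_mem hb1.1) _ (inv_mem hb1.2)⟩ }
    refine fun b hb' => (hgen Kb (fun ζ hζ => ⟨c.QS (c.z_mem hζ P), ?_⟩)
      (fun b hb1 => ⟨tw_le hb1, ?_⟩) hb').2
    · rw [← commutatorElement_inv]
      exact inv_mem (hz ζ hζ a (tw_le ha))
    · have hle : ⁅Cfsg.pCore p G, Cfsg.pCore p G⁆ ⊔
          (V ⊓ centralizer ((S : Subgroup G) : Set G)) ≤ C3 :=
        sup_le ((c.D_resC P).trans hRle) fun w hw => ⟨c.VS hw.1, fun s hs => by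
          rw [commutatorElement_eq_one_iff_mul_comm.2 (mem_centralizer_iff.1 hw.2 s hs)]
          exact one_mem _⟩
      exact hle (c.pair_D_le' P (tw_commutator c.QS c.QS β (commutator_mem_commutator ha hb1)))
  refine hne ?_
  show ⁅⁅(S : Subgroup G), (S : Subgroup G)⁆, (S : Subgroup G)⁆ ≤ _
  refine commutator_le.2 fun y hy s hs => ?_
  have hy' : y ∈ C3 :=
    (commutator_le.2 fun a ha b hb' => (hKt ha).2 b hb' :
      ⁅(S : Subgroup G), (S : Subgroup G)⁆ ≤ C3) hy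
  rw [← commutatorElement_inv]
  exact inv_mem (hy'.2 s hs)

/-- The conclusion in case `b = 2`. -/
theorem class_three_aux {F : Type*} [Field F] [Fintype F] (hF : Fintype.card F = p ^ n)
    (hd : ∀ T : Subgroup ↥(S : Subgroup G), T ≠ ⊥ → T.Characteristic →
      ¬ (T.map (S : Subgroup G).subtype).Normal) :
    p = 3 ∧ (S : Subgroup G).lowerCentralSeries 3 = ⊥ ∧
      (S : Subgroup G).lowerCentralSeries 2 ≠ ⊥ ∧ Monoid.exponent ↥(S : Subgroup G) = 9 ∧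
      (∃ U₁ W₁ U₂ W₂ : Subgroup G, W₁ ≤ U₁ ∧ U₁ ≤ W₂ ∧ W₂ ≤ U₂ ∧ U₂ ≤ (Cfsg.pCore p G) ∧
        Cfsg.IsChiefFactor U₁ W₁ ∧ Cfsg.IsChiefFactor U₂ W₂ ∧
        ¬ ⁅U₁, (⊤ : Subgroup G)⁆ ≤ W₁ ∧ ¬ ⁅U₂, (⊤ : Subgroup G)⁆ ≤ W₂ ∧
        (∃ k : ℕ, Cfsg.iterCommutator W₁ ⊤ k = ⊥) ∧
        (∃ k : ℕ, Cfsg.iterCommutator W₂ ⊤ k ≤ U₁) ∧
        (∃ k : ℕ, Cfsg.iterCommutator (Cfsg.pCore p G) ⊤ k ≤ U₂)) := by
  haveI := c.hVn
  obtain ⟨hl2, hl2'⟩ := c.lcs2_not_le hb P (F := F) hF hq hd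
  have h3 := c.lcs3_bot P hd
  obtain ⟨ζ, hζ, t, ht, hT, v, hv, hTv⟩ := c.exists_triple hb P hq hL hd hl2'
  set z := x * ζ * x⁻¹ with hzdef
  have hzQ : z ∈ Cfsg.pCore p G := c.z_mem hζ P
  have hQn : (Cfsg.pCore p G).Normal := inferInstance
  set π := QuotientGroup.mk' (resC p G) with hπ
  have hπ1 : ∀ g, π g = 1 ↔ g ∈ resC p G := fun g => QuotientGroup.eq_one_iff g
  have hab : ∀ a ∈ Cfsg.pCore p G, ∀ b ∈ Cfsg.pCore p G, Commute (π a) (π b) := fun a ha b hb' =>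
    commutatorElement_eq_one_iff_mul_comm.1 (by
      rw [← map_commutatorElement, hπ1]
      exact c.D_resC P (commutator_mem_commutator ha hb'))
  have hTQ : ∀ {a b : G}, a ∈ Cfsg.pCore p G → b ∈ (S : Subgroup G) → ⁅a, b⁆ ∈ Cfsg.pCore p G :=
    fun {a b} ha _ => by
      rw [commutatorElement_def, mul_assoc, mul_assoc, ← mul_assoc b]
      exact mul_mem ha (hQn.conj_mem _ (inv_mem ha) b)
  have hτp : π ⁅⁅z, t⁆, t⁆ ^ p = 1 := by
    rw [← map_pow, hπ1]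
    exact c.pow_resC P (hTQ (hTQ hzQ ht) ht)
  have hp2 : p ≠ 2 := by
    rintro rfl
    have ha2 : π ⁅z, t⁆ ^ 2 = 1 := by rw [← map_pow, hπ1]; exact c.pow_resC P (hTQ hzQ ht)
    have h1 : π ⁅z, t * t⁆ = 1 := (hπ1 _).2
      (c.D_resC P (commutator_mem_commutator hzQ (by simpa [pow_two] using c.pow_mem_Q ht)))
    rw [show ⁅z, t * t⁆ = ⁅z, t⁆ * (t * ⁅z, t⁆ * t⁻¹) by
      simp only [commutatorElement_def]; group, map_mul, map_mul, map_mul, map_inv] at h1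
    have h2 : π t * π ⁅z, t⁆ * (π t)⁻¹ = π ⁅z, t⁆ := by
      rw [← inv_eq_of_mul_eq_one_right h1]
      exact inv_eq_of_mul_eq_one_right (by rw [← pow_two, ha2])
    refine hT ((hπ1 _).1 ?_)
    rw [map_commutatorElement, commutatorElement_eq_one_iff_mul_comm]
    exact (mul_inv_eq_iff_eq_mul.1 h2).symm
  obtain ⟨U, W, hWn, hc, hnc, hUQ, hVW, hWQ1, hRW, hRQ, hfix, hUQ1⟩ :=
    c.chief_top hb P (F := F) hF hq
  haveI := hWn
  haveI := hc.2.1
  obtain ⟨hcV, hncV, hiV, -⟩ := c.chief_V (F := F) hF hq hb hL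
  have hp3 : p = 3 := by
    obtain ⟨h, hS, hfac⟩ := c.exists_torus (F := F) hF hq hp2
    haveI : (V ⊓ center G).Normal := inferInstance
    obtain ⟨hfV, -⟩ := hfac V (V ⊓ center G) hcV c.VQ hncV
    obtain ⟨-, hU2⟩ := hfac U W hc hUQ hnc
    obtain ⟨z', hz', q1, hq1, hzq⟩ := Subgroup.mem_sup_of_normal_left.1 (hUQ1.ge hzQ)
    set z1 := h * z' * h⁻¹ with hz1
    have hz'Q := hUQ hz'
    have hz1Q : z1 ∈ Cfsg.pCore p G := hQn.conj_mem _ hz'Q h
    have hτ' : π ⁅⁅z, t⁆, t⁆ = π ⁅⁅z', t⁆, t⁆ := by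
      rw [← hzq, triple_left h3 (c.QS hz'Q) (c.QS hq1.1) ht ht, map_mul,
        (hπ1 _).2 (c.Q1_triple hb P hq1 ht ht), mul_one]
    have hsq : π ⁅⁅z1, t⁆, t⁆ ^ 2 * π ⁅⁅z, t⁆, t⁆ = 1 := by
      have hz1S := c.QS hz1Q
      have h1 : z1 ^ 2 * z' ∈ Cfsg.pCore p G ⊓ tw (Cfsg.pCore p G) β := hfix (hU2 z' hz')
      have h2 := (hπ1 _).2 (c.Q1_triple hb P h1 ht ht)
      rw [pow_two, triple_left h3 (mul_mem hz1S hz1S) (c.QS hz'Q) ht ht,
        triple_left h3 hz1S hz1S ht ht, map_mul, map_mul, ← pow_two] at h2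
      rw [hτ']
      exact h2
    have hconj : π h * π ⁅⁅z, t⁆, t⁆ * (π h)⁻¹ = π ⁅⁅z1, t⁆, t⁆ ^ 16 := by
      set q := (t ^ 4)⁻¹ * (h * t * h⁻¹) with hqdef
      have hqQ : q ∈ Cfsg.pCore p G := hS t ht
      have e1 : h * t * h⁻¹ = t ^ 4 * q := by rw [hqdef, mul_inv_cancel_left]
      have hz1S := c.QS hz1Q
      have h4 : t ^ 4 ∈ (S : Subgroup G) := pow_mem ht 4
      have h4q : t ^ 4 * q ∈ (S : Subgroup G) := mul_mem h4 (c.QS hqQ)
      rw [hτ', ← map_inv, ← map_mul, ← map_mul,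
        show h * ⁅⁅z', t⁆, t⁆ * h⁻¹ = ⁅⁅z1, h * t * h⁻¹⁆, h * t * h⁻¹⁆ by
          rw [hz1]; simp only [commutatorElement_def]; group,
        e1, triple_mid h3 hz1S h4 (c.QS hqQ) h4q, map_mul,
        triple_right h3 hz1S h4 h4 (c.QS hqQ), map_mul]
      have i1 : π ⁅⁅z1, q⁆, t ^ 4 * q⁆ = 1 := by
        rw [map_commutatorElement, (hπ1 ⁅z1, q⁆).2
          (c.D_resC P (commutator_mem_commutator hz1Q hqQ))]
        simp
      have i2 : π ⁅⁅z1, t ^ 4⁆, q⁆ = 1 :=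
        (hπ1 _).2 (c.D_resC P (commutator_mem_commutator (hTQ hz1Q h4) hqQ))
      rw [i1, i2, mul_one, mul_one, triple_pow h3 hz1S ht ht, map_pow]
    have hω : π h * π ⁅⁅z, t⁆, t⁆ * (π h)⁻¹ * π ⁅⁅z, t⁆, t⁆ ^ 2 = 1 := by
      have h1 : π ⁅⁅z, t⁆, t⁆ = π ⁅v, t⁆ := by
        rw [← mul_inv_eq_one, ← map_inv, ← map_mul]
        exact (hπ1 _).2 hTv
      have hm := P.quad v hv t ht
      have h2 := hfV ⁅v, t⁆ ⟨hm.1, fun s hs => by
        rw [commutatorElement_eq_one_iff_mul_comm.2 (mem_centralizer_iff.1 hm.2 s hs)]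
        exact one_mem _⟩
      have h3' := (hπ1 _).2 (c.center_le_resC h2)
      rw [map_mul, map_mul, map_mul, map_inv, map_pow] at h3'
      rw [h1]
      exact h3'
    set τ := π ⁅⁅z, t⁆, t⁆ with hτ
    set τ₁ := π ⁅⁅z1, t⁆, t⁆
    have h6 : τ ^ 6 = 1 := by
      rw [hconj, show (16 : ℕ) = 2 * 8 from rfl, pow_mul, eq_inv_of_mul_eq_one_left hsq,
        inv_pow, inv_mul_eq_one] at hω
      calc τ ^ 6 = (τ ^ 2)⁻¹ * (τ ^ 8) := by
            rw [show (8 : ℕ) = 2 + 6 from rfl, pow_add]; group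
        _ = 1 := by rw [hω, inv_mul_cancel]
    by_contra hne
    refine hT ((hπ1 _).1 ?_)
    have hg := pow_gcd_eq_one.2 ⟨h6, hτp⟩
    rw [show Nat.gcd 6 p = 1 by
      refine (Nat.Coprime.mul_left ?_ ?_ : Nat.Coprime (2 * 3) p)
      · exact (Nat.coprime_primes Nat.prime_two Fact.out).2 (Ne.symm hp2)
      · exact (Nat.coprime_primes Nat.prime_three Fact.out).2 (Ne.symm hne), pow_one] at hg
    exact hg
  subst hp3
  refine ⟨rfl, h3, hl2, ?_, V, V ⊓ center G, U, W, inf_le_left, hVW, hc.1.le, hUQ, hcV, hc,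
    hncV, hnc, hiV, iter_le (S := S) (hc.1.le.trans (hUQ.trans c.QS)) hRW,
    iter_le (S := S) c.QS hRQ⟩
  -- exponent
  have h9 : ∀ s ∈ (S : Subgroup G), s ^ 9 ∈ resC 3 G := fun s hs => by
    rw [show (9 : ℕ) = 3 * 3 from rfl, pow_mul]
    exact c.pow_resC P (c.pow_mem_Q hs)
  have hdvd : Monoid.exponent ↥(S : Subgroup G) ∣ 9 := by
    refine Monoid.exponent_dvd_iff_forall_pow_eq_one.2 fun s => ?_
    set T : Subgroup G := closure {y | ∃ s ∈ (S : Subgroup G), s ^ 9 = y} with hTdef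
    have hTR : T ≤ resC 3 G := (closure_le _).2 fun y ⟨s, hs, hy⟩ => hy ▸ h9 s hs
    have hTS : T ≤ (S : Subgroup G) := (closure_le _).2 fun y ⟨s, hs, hy⟩ => hy ▸ pow_mem hs 9
    have hTbot : T = ⊥ := by
      refine kill hd hTS (fun δ y hy => ?_) fun r hr u hu => ?_
      · have hle : T ≤ ((T.subgroupOf (S : Subgroup G)).comap δ.toMonoidHom).map
            (S : Subgroup G).subtype := by
          refine (closure_le _).2 ?_
          rintro _ ⟨w, hw, rfl⟩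
          refine ⟨⟨w, hw⟩ ^ 9, ?_, rfl⟩
          show ((δ (⟨w, hw⟩ ^ 9) : ↥(S : Subgroup G)) : G) ∈ T
          rw [map_pow, Subgroup.coe_pow]
          exact subset_closure ⟨_, (δ ⟨w, hw⟩).2, rfl⟩
        obtain ⟨w, hw, ew⟩ := hle hy
        exact (Subtype.ext ew : w = y) ▸ hw
      · rw [mem_centralizer_iff.1 (hTR hu).2 r hr, mul_inv_cancel_right]
        exact hu
    have hs9 : (s : G) ^ 9 ∈ T := subset_closure ⟨_, s.2, rfl⟩
    rw [hTbot, mem_bot] at hs9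
    exact Subtype.ext (by rw [Subgroup.coe_pow]; exact hs9)
  obtain ⟨j, hj, hj'⟩ := (Nat.dvd_prime_pow Nat.prime_three).1
    (show Monoid.exponent ↥(S : Subgroup G) ∣ 3 ^ 2 from hdvd)
  rcases Nat.lt_or_ge j 2 with hj2 | hj2
  swap
  · rw [hj', show j = 2 by omega]
    norm_num
  exfalso
  have hcube : ∀ s ∈ (S : Subgroup G), s ^ 3 = 1 := fun s hs => by
    have h1 : (⟨s, hs⟩ : ↥(S : Subgroup G)) ^ 3 = 1 := by
      refine orderOf_dvd_iff_pow_eq_one.1 ((Monoid.order_dvd_exponent _).trans ?_)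
      rw [hj']
      exact (pow_dvd_pow 3 (by omega : j ≤ 1)).trans (by norm_num)
    simpa using congrArg Subtype.val h1
  refine hT ((hπ1 _).1 ?_)
  set A := π z
  set B := π t
  have hB3 : B ^ 3 = 1 := by rw [← map_pow, hcube t ht, map_one]
  have hA3 : A ^ 3 = 1 := by rw [← map_pow, hcube z (c.QS hzQ), map_one]
  have hAB : (A * B) ^ 3 = 1 := by
    rw [← map_mul, ← map_pow, hcube _ (mul_mem (c.QS hzQ) ht), map_one]
  have htz : ⁅t, z⁆ ∈ Cfsg.pCore 3 G := by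
    rw [← commutatorElement_inv]; exact inv_mem (hTQ hzQ ht)
  have ht2 : ⁅t, ⁅t, z⁆⁆ ∈ Cfsg.pCore 3 G := by
    rw [← commutatorElement_inv]; exact inv_mem (hTQ htz ht)
  set a := ⁅B, A⁆ with hadef
  have ha : a = π ⁅t, z⁆ := (map_commutatorElement π t z).symm
  set w := ⁅B, a⁆ with hwdef
  have hw : w = π ⁅t, ⁅t, z⁆⁆ := by
    rw [hwdef, ha]; exact (map_commutatorElement π t _).symm
  have cAa : Commute A a := ha ▸ hab z hzQ _ htz
  have cAw : Commute A w := hw ▸ hab z hzQ _ ht2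
  have caw : Commute a w := by rw [ha, hw]; exact hab _ htz _ ht2
  have ha3 : a ^ 3 = 1 := by rw [ha, ← map_pow, hπ1]; exact c.pow_resC P htz
  have hw1 : w = 1 := by
    calc w = A ^ 3 * (a ^ 3 * w) := by rw [hA3, ha3, one_mul, one_mul]
      _ = A * a * A * (w * a * a * A) := by
          rw [show w * a * a * A = A * (w * a * a) from
            (((cAw.mul_right cAa).mul_right cAa)).eq.symm]
          rw [show A * a * A * (A * (w * a * a)) = A * (a * (A * A)) * (w * a * a) by group,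
            show a * (A * A) = (A * A) * a from (cAa.symm.mul_right cAa.symm).eq,
            show A * (A * A * a) * (w * a * a) = A ^ 3 * ((a * w) * (a * a)) by
              simp only [pow_succ, pow_zero, one_mul, mul_assoc],
            caw.eq,
            show (w * a) * (a * a) = w * a ^ 3 by
              simp only [pow_succ, pow_zero, one_mul, mul_assoc],
            ((caw.pow_left 3).symm).eq]
      _ = (A * B) ^ 3 * (B ^ 3)⁻¹ := by
          simp only [hwdef, hadef, commutatorElement_def, pow_succ, pow_zero, one_mul]; group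
      _ = 1 := by rw [hAB, hB3, inv_one, one_mul]
  rw [map_commutatorElement, map_commutatorElement]
  show ⁅⁅A, B⁆, B⁆ = 1
  have h1 : Commute B a := commutatorElement_eq_one_iff_mul_comm.1 hw1
  rw [← commutatorElement_inv B A, commutatorElement_eq_one_iff_mul_comm]
  exact h1.inv_right.eq.symm

end Ctx

theorem Ctx.class_three (c : Ctx p S M K V)
    (hd : ∀ T : Subgroup ↥(S : Subgroup G), T ≠ ⊥ → T.Characteristic →
      ¬ (T.map (S : Subgroup G).subtype).Normal)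
    {F : Type*} [Field F] [Fintype F] {n : ℕ} (hF : Fintype.card F = p ^ n)
    (hq : Nat.card (S : Subgroup G) = p ^ n * Nat.card (Cfsg.pCore p G))
    (hb : Short p (S : Subgroup G) V 2) {L : List (Step (S : Subgroup G))} (hL : Crit p V 2 L) :
    p = 3 ∧ (S : Subgroup G).lowerCentralSeries 3 = ⊥ ∧
      (S : Subgroup G).lowerCentralSeries 2 ≠ ⊥ ∧ Monoid.exponent ↥(S : Subgroup G) = 9 ∧
      (∃ U₁ W₁ U₂ W₂ : Subgroup G, W₁ ≤ U₁ ∧ U₁ ≤ W₂ ∧ W₂ ≤ U₂ ∧ U₂ ≤ (Cfsg.pCore p G) ∧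
        Cfsg.IsChiefFactor U₁ W₁ ∧ Cfsg.IsChiefFactor U₂ W₂ ∧
        ¬ ⁅U₁, (⊤ : Subgroup G)⁆ ≤ W₁ ∧ ¬ ⁅U₂, (⊤ : Subgroup G)⁆ ≤ W₂ ∧
        (∃ k : ℕ, Cfsg.iterCommutator W₁ ⊤ k = ⊥) ∧
        (∃ k : ℕ, Cfsg.iterCommutator W₂ ⊤ k ≤ U₁) ∧
        (∃ k : ℕ, Cfsg.iterCommutator (Cfsg.pCore p G) ⊤ k ≤ U₂)) := by
  obtain ⟨β, γ, x, P⟩ := c.exists_pair hb hL
  exact c.class_three_aux hb P hq hL hF hd

end Cfsg.Agent.PushUp
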