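import Cfsg.Agent.PushRankOne.FF

/-!
# Pushing up in the rank-one situation: the ground module

`V` is the normal closure of `Ω₁(Z(S))`; it lies in `Z(O_p(G))` and is not centralized by `S`.
-/

set_option autoImplicit false
set_option linter.unusedSectionVars false

namespace Cfsg.Agent.PushUp

open Subgroup Cfsg.Agent.PushRankOne
open Cfsg.Agent.Offender (cj mem_cj)

variable {G : Type*} [Group G] [Finite G] {p : ℕ} [Fact p.Prime]

/-- The situation with a chosen module `V`; no nontrivial normal subgroup containing `V` is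
invariant under the automorphisms of `S`. -/
structure Ctx (p : ℕ) (S : Sylow p G) (M K V : Subgroup G) : Prop where
  st : Setup p S M K
  hVn : V.Normal
  hV : Cfsg.IsElementaryAbelian p V
  hQ : (S : Subgroup G) ⊓ centralizer (V : Set G) = Cfsg.pCore p G
  hclos : ∀ T : Subgroup G, T.Normal → T ≤ Cfsg.pCore p G → V ≤ T →
    ¬ ∀ (β : MulAut ↥(S : Subgroup G)) (x : ↥(S : Subgroup G)), (x : G) ∈ T → ((β x : ↥(S : Subgroup G)) : G) ∈ T
  hOm : ∀ x : ↥(S : Subgroup G), (x : G) ∈ V → (x : G) ∈ centralizer ((S : Subgroup G) : Set G) →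
    ∀ β : MulAut ↥(S : Subgroup G), ((β x : ↥(S : Subgroup G)) : G) ∈ V
  hz : ∃ z ∈ V, z ∈ centralizer ((S : Subgroup G) : Set G) ∧ z ∉ center G

theorem ctx_of_hd {S : Sylow p G} {M K : Subgroup G} (h : Setup p S M K)
    (hd : ∀ T : Subgroup ↥(S : Subgroup G), T ≠ ⊥ → T.Characteristic →
      ¬ (T.map (S : Subgroup G).subtype).Normal) : ∃ V, Ctx p S M K V := by
  classical
  let Om : Subgroup G :=
    { carrier := {z | z ∈ (S : Subgroup G) ∧ z ∈ centralizer ((S : Subgroup G) : Set G) ∧ z ^ p = 1}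
      one_mem' := ⟨one_mem _, one_mem _, one_pow p⟩
      mul_mem' := fun {a b} ha hb => ⟨mul_mem ha.1 hb.1, mul_mem ha.2.1 hb.2.1, by
        rw [(show Commute a b from mem_centralizer_iff.1 hb.2.1 a ha.1).mul_pow, ha.2.2, hb.2.2, one_mul]⟩
      inv_mem' := fun {a} ha => ⟨inv_mem ha.1, inv_mem ha.2.1, by rw [inv_pow, ha.2.2, inv_one]⟩ }
  set Q := Cfsg.pCore p G with hQdef
  have hQS : Q ≤ (S : Subgroup G) := Core.pCore_le_sylow S
  have hOmC : Om ≤ centralizer (Q : Set G) := fun z hz => Subgroup.centralizer_le hQS hz.2.1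
  have hOmQ : Om ≤ Q := hOmC.trans h.hC
  let V : Subgroup G := normalClosure (Om : Set G)
  have hQn : Q.Normal := inferInstance
  have hVQ : V ≤ Q := normalClosure_le_normal hOmQ
  have hVC : V ≤ centralizer (Q : Set G) := normalClosure_le_normal hOmC
  have hOmV : Om ≤ V := le_normalClosure
  have hab : V ≤ centralizer (V : Set G) := hVC.trans (Subgroup.centralizer_le hVQ)
  have hV : Cfsg.IsElementaryAbelian p V := by
    refine Thompson.ea_iff.2 ⟨hab, ?_⟩
    let P : Subgroup G :=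
      { carrier := {v | v ∈ V ∧ v ^ p = 1}
        one_mem' := ⟨one_mem _, one_pow p⟩
        mul_mem' := fun {a b} ha hb => ⟨mul_mem ha.1 hb.1, by
          rw [(show Commute a b from mem_centralizer_iff.1 (hab hb.1) a ha.1).mul_pow, ha.2, hb.2, one_mul]⟩
        inv_mem' := fun {a} ha => ⟨inv_mem ha.1, by rw [inv_pow, ha.2, inv_one]⟩ }
    have hPn : P.Normal := ⟨fun v hv g => ⟨normalClosure_normal.conj_mem v hv.1 g, by
      rw [conj_pow, hv.2, mul_one, mul_inv_cancel]⟩⟩
    exact fun v hv => ((normalClosure_le_normal (N := P)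
      (fun z hz => ⟨hOmV hz, hz.2.2⟩)) hv).2
  have hSne : (S : Subgroup G) ≠ ⊥ := fun e => h.notNormal (by rw [e, bot_sup_eq]; exact h.hK)
  have hOmne : Om ≠ ⊥ := by
    haveI : Nontrivial ↥(S : Subgroup G) := (nontrivial_iff_ne_bot _).2 hSne
    haveI := S.2.center_nontrivial
    obtain ⟨z, hz⟩ := exists_prime_orderOf_dvd_card' (G := center ↥(S : Subgroup G)) p (by
      obtain ⟨n, hn⟩ := IsPGroup.iff_card.1 (S.2.to_subgroup (center ↥(S : Subgroup G)))
      have h1 : 1 < Nat.card (center ↥(S : Subgroup G)) := Finite.one_lt_card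
      rcases n with _ | n
      · rw [pow_zero] at hn; omega
      · exact hn ▸ dvd_pow_self p n.succ_ne_zero)
    intro e
    have hzS : (((z : ↥(S : Subgroup G)) : G)) ∈ Om := by
      refine ⟨(z : ↥(S : Subgroup G)).2, mem_centralizer_iff.2 fun s hs =>
        congrArg Subtype.val (mem_center_iff.1 z.2 ⟨s, hs⟩), ?_⟩
      have := congrArg (fun t : center ↥(S : Subgroup G) => (((t : ↥(S : Subgroup G))) : G))
        (hz ▸ pow_orderOf_eq_one z)
      simpa using this
    rw [e, mem_bot] at hzS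
    have : z = 1 := Subtype.ext (Subtype.ext hzS)
    rw [this, orderOf_one] at hz
    exact (Fact.out : p.Prime).one_lt.ne hz
  have hchar : ((Om.subgroupOf (S : Subgroup G))).Characteristic := by
    refine characteristic_iff_map_le.2 fun β => ?_
    rintro _ ⟨x, hx, rfl⟩
    obtain ⟨-, hc, hp⟩ := hx
    refine ⟨(β x).2, mem_centralizer_iff.2 fun s hs => ?_, ?_⟩
    · have h1 : (β.symm ⟨s, hs⟩) * x = x * (β.symm ⟨s, hs⟩) :=
        Subtype.ext (mem_centralizer_iff.1 hc _ (β.symm ⟨s, hs⟩).2)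
      have h2 := congrArg β h1
      rw [map_mul, map_mul, β.apply_symm_apply] at h2
      exact congrArg Subtype.val h2
    · have : x ^ p = 1 := Subtype.ext (by rw [Subgroup.coe_pow]; exact hp)
      exact congrArg Subtype.val (show (β x) ^ p = 1 by rw [← map_pow, this, map_one])
  have hOmS : Om ≤ (S : Subgroup G) := fun z hz => hz.1
  obtain ⟨z, hz, hzc⟩ : ∃ z ∈ Om, z ∉ center G := by
    by_contra hcon
    push Not at hcon
    refine hd (Om.subgroupOf (S : Subgroup G)) (fun e => hOmne ?_) hchar ?_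
    · rw [← inf_eq_left.2 hOmS, ← subgroupOf_map_subtype, e, Subgroup.map_bot]
    · rw [subgroupOf_map_subtype, inf_eq_left.2 hOmS]
      exact ⟨fun x hx g => by rwa [mem_center_iff.1 (hcon x hx) g, mul_inv_cancel_right]⟩
  have hCM : centralizer (V : Set G) ≤ M := by
    refine le_trans (Subgroup.centralizer_le (Set.singleton_subset_iff.2 (hOmV hz))) ?_
    by_contra hnot
    have := h.eq_top_of_not_le (H := centralizer ({z} : Set G)) (fun s hs =>
      mem_centralizer_singleton_iff.2 (mem_centralizer_iff.1 hz.2.1 s hs)) hnot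
    exact hzc (mem_center_iff.2 fun g => mem_centralizer_singleton_iff.1 (this.ge (mem_top g)))
  haveI hVn : V.Normal := normalClosure_normal
  refine ⟨V, h, hVn, hV,
    le_antisymm (h.normal_inf_le hCM) (le_inf hQS (le_centralizer_iff.1 hVC)), ?_, ?_,
    z, hOmV hz, hz.2.1, hzc⟩
  · intro T hTn hTQ hVT hinv
    refine hd (T.subgroupOf (S : Subgroup G)) (fun e => hzc ?_) ?_ ?_
    · have : (⟨z, hz.1⟩ : ↥(S : Subgroup G)) ∈ T.subgroupOf (S : Subgroup G) := hVT (hOmV hz)
      rw [e, mem_bot] at this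
      rw [show z = 1 from congrArg Subtype.val this]
      exact one_mem _
    · refine characteristic_iff_map_le.2 fun β => ?_
      rintro _ ⟨x, hx, rfl⟩
      exact hinv β x hx
    · rw [subgroupOf_map_subtype, inf_eq_left.2 (hTQ.trans hQS)]
      exact hTn
  · intro x hxV hxC β
    refine hOmV ?_
    exact (characteristic_iff_map_le.1 hchar β) ⟨x, ⟨x.2, hxC, (Thompson.ea_iff.1 hV).2 _ hxV⟩, rfl⟩

namespace Ctx

variable {S : Sylow p G} {M K V : Subgroup G} (c : Ctx p S M K V)

include c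

theorem QS : Cfsg.pCore p G ≤ (S : Subgroup G) := Core.pCore_le_sylow S

theorem QC : Cfsg.pCore p G ≤ centralizer (V : Set G) := c.hQ.ge.trans inf_le_right

theorem VS : V ≤ (S : Subgroup G) := by
  haveI := c.hVn
  exact (Core.le_pCore (Thompson.ea_isPGroup c.hV)).trans c.QS

theorem VQ : V ≤ Cfsg.pCore p G := fun v hv =>
  c.hQ.le ⟨c.VS hv, (Thompson.ea_iff.1 c.hV).1 hv⟩

theorem Q_comm {q v : G} (hq : q ∈ Cfsg.pCore p G) (hv : v ∈ V) : Commute q v :=
  (mem_centralizer_iff.1 (c.QC hq) v hv).symm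

theorem conjS_inf {k y : G} (hy : y ∈ cj k (S : Subgroup G)) (hc : ∀ v ∈ V, Commute y v) :
    y ∈ Cfsg.pCore p G := by
  have h1 : k⁻¹ * y * k ∈ (S : Subgroup G) ⊓ centralizer (V : Set G) := by
    refine ⟨mem_cj.1 hy, mem_centralizer_iff.2 fun v hv => ?_⟩
    have h2 := (hc (k * v * k⁻¹) (c.hVn.conj_mem v hv k)).eq
    calc v * (k⁻¹ * y * k) = k⁻¹ * (k * v * k⁻¹ * y) * k := by group
      _ = k⁻¹ * (y * (k * v * k⁻¹)) * k := by rw [h2]
      _ = k⁻¹ * y * k * v := by group
  rw [c.hQ] at h1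
  have h3 := (inferInstance : (Cfsg.pCore p G).Normal).conj_mem _ h1 k
  simpa [mul_assoc] using h3

theorem not_S_le_Q : ¬ (S : Subgroup G) ≤ Cfsg.pCore p G := by
  intro hle
  refine c.st.notNormal ?_
  rw [sup_eq_right.2 (hle.trans (c.st.pCore_eq.le.trans inf_le_right))]
  exact c.st.hK

theorem eq_top_of_normal {N : Subgroup G} [N.Normal] (hS : (S : Subgroup G) ≤ N) : N = ⊤ :=
  c.st.eq_top_of_not_le hS fun hle =>
    c.not_S_le_Q ((le_inf le_rfl hS).trans (c.st.normal_inf_le hle))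

theorem sup_eq_top {N : Subgroup G} [N.Normal] (hN : ¬ N ≤ M) : (S : Subgroup G) ⊔ N = ⊤ :=
  c.st.eq_top_of_not_le le_sup_left fun hle => hN (le_sup_right.trans hle)

/-- Every Sylow subgroup has a partner with which it generates `G`. -/
theorem exists_gen (g : G) : ∃ k : G, cj k (S : Subgroup G) ⊔ cj g (S : Subgroup G) = ⊤ := by
  obtain ⟨x, hx⟩ : ∃ x : G, x ∉ M := by
    by_contra hcon
    push Not at hcon
    exact c.st.hM.1 (eq_top_iff.2 fun g _ => hcon g)
  have h1 : (S : Subgroup G) ⊔ cj x (S : Subgroup G) = ⊤ := by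
    refine c.st.eq_top_of_not_le le_sup_left fun hle => ?_
    obtain ⟨s, hs, hsQ⟩ := SetLike.not_le_iff_exists.1 c.not_S_le_Q
    refine c.st.conj_notMem hs hsQ hx (hle (mem_sup_right (mem_cj.2 ?_)))
    simpa [mul_assoc] using hs
  refine ⟨g * x, ?_⟩
  have h2 := congrArg (Subgroup.map (MulAut.conj g).toMonoidHom) h1
  rw [Subgroup.map_sup, Subgroup.map_top_of_surjective (MulAut.conj g).toMonoidHom
    (MulAut.conj g).surjective] at h2
  rw [sup_comm, ← h2]
  congr 1
  ext y
  rw [mem_cj, Subgroup.mem_map]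
  constructor
  · intro hy
    refine ⟨g⁻¹ * y * g, mem_cj.2 ?_, ?_⟩
    · simpa [mul_assoc] using hy
    · show g * (g⁻¹ * y * g) * g⁻¹ = y
      group
  · rintro ⟨w, hw, rfl⟩
    show (g * x)⁻¹ * (g * w * g⁻¹) * (g * x) ∈ _
    simpa [mul_assoc] using mem_cj.1 hw

theorem center_of_fixed {k g r : G} (hgen : cj k (S : Subgroup G) ⊔ cj g (S : Subgroup G) = ⊤)
    (hk : ∀ s ∈ cj k (S : Subgroup G), Commute s r) (hg : ∀ s ∈ cj g (S : Subgroup G), Commute s r) :
    r ∈ center G := by
  have hle : (⊤ : Subgroup G) ≤ centralizer ({r} : Set G) := hgen ▸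
    sup_le (fun s hs => mem_centralizer_singleton_iff.2 (hk s hs).eq)
      (fun s hs => mem_centralizer_singleton_iff.2 (hg s hs).eq)
  exact mem_center_iff.2 fun x => mem_centralizer_singleton_iff.1 (hle (mem_top x))

end Ctx

end Cfsg.Agent.PushUp
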