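import Cfsg.Agent.PushUp.Main

/-!
# An element inducing `diag(-2, -1/2)` on every natural factor
-/

set_option autoImplicit false
set_option linter.unusedSectionVars false

namespace Cfsg.Agent.PushUp

open Subgroup Matrix Cfsg.Agent.PushRankOne
open Cfsg.Agent.Classical (rootHomSL conj_rootHomSL rootHomSL_injective)
open Cfsg.Agent.Offender (cj mem_cj)
open scoped commutatorElement MatrixGroups

variable {G : Type*} [Group G] [Finite G] {p : ℕ} [Fact p.Prime] {S : Sylow p G}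
  {M K V : Subgroup G} {F : Type*} [Field F] [Fintype F]

theorem word_val {a b : F} (h : a * b = -1) :
    ((rootHomSL (Multiplicative.ofAdd a) * lowerSL b * rootHomSL (Multiplicative.ofAdd a) : SL(2, F)) :
      Matrix (Fin 2) (Fin 2) F) = !![0, a; b, 0] := by
  rw [Matrix.SpecialLinearGroup.coe_mul, Matrix.SpecialLinearGroup.coe_mul, root_val, lowerSL_val]
  ext i j
  fin_cases i <;> fin_cases j <;> simp [Matrix.mul_apply, Fin.sum_univ_two, h]
  linear_combination h

theorem root_pow (a : F) (k : ℕ) :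
    rootHomSL (Multiplicative.ofAdd a) ^ k = rootHomSL (Multiplicative.ofAdd ((k : F) * a)) := by
  rw [← map_pow, ← ofAdd_nsmul, nsmul_eq_mul]

theorem lower_pow (b : F) (k : ℕ) : lowerSL b ^ k = lowerSL ((k : F) * b) := by
  have h1 : ∀ z : F, lowerSL z = weylSL * rootHomSL (Multiplicative.ofAdd (-z)) * weylSL⁻¹ := fun z => by
    rw [weyl_conj, neg_neg]
  rw [h1 b, conj_pow, root_pow, h1 ((k : F) * b), mul_neg]

namespace Ctx

variable (c : Ctx p S M K V)

include c

/-- The diagonal element in adapted coordinates. -/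
theorem torus_rep [CharP F p] {n : ℕ} (hF : Fintype.card F = p ^ n)
    (hq : Nat.card (S : Subgroup G) = p ^ n * Nat.card (Cfsg.pCore p G)) {x : G} (hx : x ∉ M)
    {k : ℕ} (hk : (2 : F) * (k : F) = 1) {s q : G} (hs : s ∈ (S : Subgroup G))
    (hsQ : s ∉ Cfsg.pCore p G) (hq' : q ∈ cj x (S : Subgroup G))
    (hP : ∃ y ∈ cj x (S : Subgroup G), y⁻¹ * ((s * q * s) * s * (s * q * s)⁻¹) ∈ Cfsg.pCore p G)
    {ρ : G →* SL(2, F)} (hρ : Function.Surjective ρ) (hQρ : Cfsg.pCore p G ≤ ρ.ker) :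
    ∃ m : SL(2, F),
      (∀ t ∈ (S : Subgroup G), ∃ a : F, m * ρ t * m⁻¹ = rootHomSL (Multiplicative.ofAdd a)) ∧
      (∀ a : F, ∃ t ∈ (S : Subgroup G), m * ρ t * m⁻¹ = rootHomSL (Multiplicative.ofAdd a)) ∧
      ((m * ρ ((s ^ 2 * q ^ k * s ^ 2) * (s * q * s)) * m⁻¹ : SL(2, F)) :
        Matrix (Fin 2) (Fin 2) F) = !![-2, 0; 0, -(k : F)] := by
  obtain ⟨r, -, hrk, ⟨m, hm⟩, hrS, hrS', hrX, -⟩ := exists_coord c.st.toSetup₀ hρ hQρ hx
  obtain ⟨a, ha⟩ := hrS s hs
  obtain ⟨b, hb⟩ := hrX q hq'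
  have ha0 : a ≠ 0 := by
    intro e
    refine hsQ ((c.kernel_eq hF hq hρ hQρ).le (hrk.le ?_))
    rw [MonoidHom.mem_ker, ha, e]
    exact map_one _
  have hab : a * b = -1 := by
    obtain ⟨y, hy, hyQ⟩ := hP
    obtain ⟨d, hd⟩ := hrX y hy
    have h1 : r ((s * q * s) * s * (s * q * s)⁻¹) = lowerSL d := by
      have := MonoidHom.mem_ker.1 (hrk.ge (hQρ hyQ))
      rw [map_mul, map_inv, inv_mul_eq_one] at this
      rw [← this, hd]
    rw [map_mul, map_mul, map_inv, map_mul, map_mul, ha, hb] at h1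
    have h2 := congrArg (fun z : SL(2, F) => z.1 0 1) h1
    simp only [conj_rootHomSL, lowerSL_val] at h2
    simp [Matrix.SpecialLinearGroup.coe_mul, root_val, lowerSL_val, Matrix.mul_apply,
      Fin.sum_univ_two, ha0] at h2
    linear_combination h2
  refine ⟨m, fun t ht => ?_, fun a' => ?_, ?_⟩
  · obtain ⟨a', ha'⟩ := hrS t ht
    exact ⟨a', by rw [← hm, ha']⟩
  · obtain ⟨t, ht, ha'⟩ := hrS' a'
    exact ⟨t, ht, by rw [← hm, ha']⟩
  · rw [← hm, map_mul, Matrix.SpecialLinearGroup.coe_mul, map_mul, map_mul, map_mul, map_mul, map_pow,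
      map_pow, ha, hb, root_pow, lower_pow, word_val hab,
      word_val (a := ((2 : ℕ) : F) * a) (b := (k : F) * b)
        (by push_cast; linear_combination (a * b) * hk + hab)]
    ext i j
    fin_cases i <;> fin_cases j <;> simp [Matrix.mul_apply, Fin.sum_univ_two]
    · linear_combination (2 : F) * hab
    · linear_combination (k : F) * hab

/-- An element normalizing `S` with prescribed scalars on all natural factors. -/
theorem exists_torus {n : ℕ} (hF : Fintype.card F = p ^ n)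
    (hq : Nat.card (S : Subgroup G) = p ^ n * Nat.card (Cfsg.pCore p G)) (hp2 : p ≠ 2) :
    ∃ h : G, (∀ t ∈ (S : Subgroup G), (t ^ 4)⁻¹ * (h * t * h⁻¹) ∈ Cfsg.pCore p G) ∧
      (∀ (U W : Subgroup G) [W.Normal], Cfsg.IsChiefFactor U W → U ≤ Cfsg.pCore p G →
        ¬ ⁅U, (⊤ : Subgroup G)⁆ ≤ W →
        (∀ u ∈ fix (S : Subgroup G) U W, (h * u * h⁻¹) * u ^ 2 ∈ W) ∧
          ∀ u ∈ U, (h * u * h⁻¹) ^ 2 * u ∈ fix (S : Subgroup G) U W) := by
  classical
  haveI : CharP F p := charP_of_card_eq_prime_pow hF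
  obtain ⟨x, hx⟩ := exists_notMem' c.st.toSetup₀
  set k := (p + 1) / 2 with hkdef
  have hk : (2 : F) * (k : F) = 1 := by
    have hodd : Odd p := (Fact.out : p.Prime).odd_of_ne_two hp2
    obtain ⟨j, hj⟩ := hodd
    have : 2 * k = p + 1 := by omega
    have h1 : ((2 * k : ℕ) : F) = ((p + 1 : ℕ) : F) := by rw [this]
    push_cast at h1
    rwa [CharP.cast_eq_zero F p, zero_add] at h1
  obtain ⟨e⟩ := c.quotient_iso hF hq
  let ρ₀ : G →* SL(2, F) := e.toMonoidHom.comp (QuotientGroup.mk' (Cfsg.pCore p G))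
  have hρ₀ : Function.Surjective ρ₀ := e.surjective.comp (QuotientGroup.mk'_surjective _)
  have hQ₀ : Cfsg.pCore p G ≤ ρ₀.ker := fun q hq' => by
    rw [MonoidHom.mem_ker]
    show e (QuotientGroup.mk q) = 1
    rw [(QuotientGroup.eq_one_iff q).2 hq', map_one]
  have hk₀ := c.kernel_eq hF hq hρ₀ hQ₀
  obtain ⟨r, -, hrk, -, hrS, hrS', hrX, hrX'⟩ := exists_coord c.st.toSetup₀ hρ₀ hQ₀ hx
  rw [hk₀] at hrk
  obtain ⟨s, hs, hrs⟩ := hrS' 1
  obtain ⟨q, hq'', hrq⟩ := hrX' (-1)
  have hsQ : s ∉ Cfsg.pCore p G := fun hsQ => by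
    rw [← hrk, MonoidHom.mem_ker, hrs] at hsQ
    have := congrArg (fun z : SL(2, F) => z.1 0 1) hsQ
    simp [root_val] at this
  have hP : ∃ y ∈ cj x (S : Subgroup G),
      y⁻¹ * ((s * q * s) * s * (s * q * s)⁻¹) ∈ Cfsg.pCore p G := by
    obtain ⟨y, hy, hry⟩ := hrX' (-1)
    refine ⟨y, hy, hrk.le ?_⟩
    rw [MonoidHom.mem_ker, map_mul, map_inv, inv_mul_eq_one, hry, map_mul, map_mul, map_inv,
      map_mul, map_mul, hrs, hrq]
    refine Subtype.ext ?_
    rw [conj_rootHomSL, lowerSL_val, word_val (by ring)]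
    simp
  set h := (s ^ 2 * q ^ k * s ^ 2) * (s * q * s) with hh
  refine ⟨h, fun t ht => ?_, fun U W _ hc hUQ hnc => ?_⟩
  · obtain ⟨m, hS, -, hmh⟩ := c.torus_rep hF hq hx hk hs hsQ hq'' hP hρ₀ hQ₀
    obtain ⟨a, ha⟩ := hS t ht
    refine hk₀.le ?_
    rw [MonoidHom.mem_ker, map_mul, map_inv, inv_mul_eq_one]
    refine mul_left_cancel (a := m) (mul_right_cancel (b := m⁻¹) ?_)
    have e2 : m * ρ₀ (h * t * h⁻¹) * m⁻¹ =
        (m * ρ₀ h * m⁻¹) * (m * ρ₀ t * m⁻¹) * (m * ρ₀ h * m⁻¹)⁻¹ := by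
      rw [map_mul, map_mul, map_inv]; group
    have e3 : m * ρ₀ (t ^ 4) * m⁻¹ = (m * ρ₀ t * m⁻¹) ^ 4 := by rw [map_pow, conj_pow]
    rw [e2, e3, ha, root_pow]
    refine Subtype.ext ?_
    rw [conj_rootHomSL, hmh, root_val]
    simp
    ring
  · haveI := hc.2.1
    obtain ⟨⟨-, ρ', ψ, hρs, hρk, hact⟩, -⟩ := c.chief_natural (F := F) hF hq hc hUQ hnc
    let π := QuotientGroup.mk' W
    let ι : G →* ↥(⊤ : Subgroup (G ⧸ W)) := (Subgroup.topEquiv.symm.toMonoidHom).comp π
    set ρ := ρ'.comp ι with hρdef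
    have hρsurj : Function.Surjective ρ := hρs.comp
      (Subgroup.topEquiv.symm.surjective.comp (QuotientGroup.mk'_surjective W))
    have hQρ : Cfsg.pCore p G ≤ ρ.ker := by
      intro q' hq'
      rw [MonoidHom.mem_ker, hρdef, MonoidHom.comp_apply, ← MonoidHom.mem_ker, hρk]
      show π q' ∈ centralizer (U.map π : Set (G ⧸ W))
      refine mem_centralizer_iff.2 ?_
      rintro _ ⟨u, hu, rfl⟩
      have h1 := c.chief_Q hc hUQ hq' u hu
      rw [← QuotientGroup.eq_one_iff] at h1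
      change π _ = 1 at h1
      rw [map_commutatorElement, commutatorElement_eq_one_iff_mul_comm] at h1
      exact h1.symm
    obtain ⟨m, hS, hS', hmh⟩ := c.torus_rep hF hq hx hk hs hsQ hq'' hP hρsurj hQρ
    rw [← hh] at hmh
    let ω : ↥U → Fin 2 → F := fun u => (m.1).mulVec (ψ (Additive.ofMul ⟨π u, u, u.2, rfl⟩))
    have hωact : ∀ (g : G) (u : ↥U) (hgu : g * u * g⁻¹ ∈ U),
        ω ⟨_, hgu⟩ = ((m * ρ g * m⁻¹ : SL(2, F)) : Matrix (Fin 2) (Fin 2) F).mulVec (ω u) := by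
      intro g u hgu
      obtain ⟨w, hw, hψ⟩ := hact (ι g) ⟨π u, u, u.2, rfl⟩
      have hwe : w = ⟨π (g * u * g⁻¹), _, hgu, rfl⟩ := Subtype.ext (by
        rw [hw]
        show π g * π u * (π g)⁻¹ = π (g * u * g⁻¹)
        rw [map_mul, map_mul, map_inv])
      rw [hwe] at hψ
      show (m.1).mulVec _ = _
      rw [hψ, Matrix.mulVec_mulVec, Matrix.mulVec_mulVec, ← Matrix.SpecialLinearGroup.coe_mul,
        ← Matrix.SpecialLinearGroup.coe_mul, inv_mul_cancel_right]
      rfl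
    have hωmul : ∀ (u v : ↥U), ω (u * v) = ω u + ω v := fun u v => by
      show (m.1).mulVec _ = _
      rw [← Matrix.mulVec_add, ← map_add]
      rfl
    have hω0 : ∀ u : ↥U, ω u = 0 → (u : G) ∈ W := by
      intro u hu
      have h1 : ψ (Additive.ofMul ⟨π u, u, u.2, rfl⟩) = 0 := by
        have := congrArg (((m⁻¹ : SL(2, F)) : Matrix (Fin 2) (Fin 2) F).mulVec) hu
        rwa [Matrix.mulVec_mulVec, ← Matrix.SpecialLinearGroup.coe_mul, inv_mul_cancel,
          Matrix.SpecialLinearGroup.coe_one, Matrix.one_mulVec, Matrix.mulVec_zero] at this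
      rw [AddEquiv.map_eq_zero_iff, ofMul_eq_zero] at h1
      exact (QuotientGroup.eq_one_iff _).1 (congrArg Subtype.val h1)
    -- fixed points are the vectors with second coordinate zero
    have hfix : ∀ u : ↥U, (u : G) ∈ fix (S : Subgroup G) U W ↔ ω u 1 = 0 := by
      intro u
      have hconj : ∀ t : G, t * u * t⁻¹ ∈ U := fun t => hc.2.1.conj_mem u u.2 t
      constructor
      · intro hu
        obtain ⟨t, ht, hta⟩ := hS' 1
        have h1 := hωact t u (hconj t)
        rw [hta, root_val] at h1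
        have h2 : ω ⟨_, hconj t⟩ = ω u := by
          have e4 : π (t * u * t⁻¹) = π u := by
            have := hu.2 t ht
            rw [← QuotientGroup.eq_one_iff] at this
            change π _ = 1 at this
            rw [commutatorElement_def, map_mul, map_inv] at this
            exact mul_inv_eq_one.1 this
          show (m.1).mulVec _ = (m.1).mulVec _
          congr 3
          exact Subtype.ext e4
        rw [h2] at h1
        have h3 := congrFun h1 0
        simp [Matrix.mulVec, dotProduct, Fin.sum_univ_two] at h3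
        linear_combination h3
      · intro h0
        refine ⟨u.2, fun t ht => ?_⟩
        obtain ⟨a, ha⟩ := hS t ht
        have h1 := hωact t u (hconj t)
        rw [ha, root_val] at h1
        have h2 : ω ⟨_, hconj t⟩ = ω u := by
          rw [h1]
          funext i
          fin_cases i <;> simp [Matrix.mulVec, dotProduct, Fin.sum_univ_two, h0]
        have h3 := hω0 (⟨_, hconj t⟩ * u⁻¹) (by
          have h4 := hωmul (⟨_, hconj t⟩ * u⁻¹) u
          rw [inv_mul_cancel_right, h2] at h4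
          exact add_eq_right.1 h4.symm)
        exact h3
    refine ⟨fun u hu => ?_, fun u hu => ?_⟩
    · have hh' : h * u * h⁻¹ ∈ U := hc.2.1.conj_mem u hu.1 h
      refine hω0 (⟨_, hh'⟩ * ⟨u, hu.1⟩ ^ 2) ?_
      rw [pow_two, hωmul, hωmul, hωact h ⟨u, hu.1⟩ hh', hmh]
      have h1 := (hfix ⟨u, hu.1⟩).1 hu
      funext i
      fin_cases i <;> simp [Matrix.mulVec, dotProduct, Fin.sum_univ_two, h1]
      ring
    · have hh' : h * u * h⁻¹ ∈ U := hc.2.1.conj_mem u hu h
      refine (hfix (⟨_, hh'⟩ ^ 2 * ⟨u, hu⟩)).2 ?_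
      rw [pow_two, hωmul, hωmul, hωact h ⟨u, hu⟩ hh', hmh]
      simp [Matrix.mulVec, dotProduct, Fin.sum_univ_two]
      linear_combination (-(ω ⟨u, hu⟩ 1)) * hk

end Ctx

end Cfsg.Agent.PushUp
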