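import Cfsg.Agent.PushUp.ClassTwo
import Cfsg.Agent.PushUp.Torus

/-!
# `b = 2`: the structure of `S`
-/

set_option autoImplicit false
set_option linter.unusedSectionVars false

namespace Cfsg.Agent.PushUp

open Subgroup Cfsg.Agent.PushRankOne
open Cfsg.Agent.Offender (cj mem_cj)
open scoped commutatorElement MatrixGroups

variable {G : Type*} [Group G] [Finite G] {p : ℕ} [Fact p.Prime] {S : Sylow p G}
  {M K V : Subgroup G}

/-- The part of `O_p(G)` centralized by `O^p(G)`. -/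
def resC (p : ℕ) (G : Type*) [Group G] : Subgroup G :=
  Cfsg.pCore p G ⊓ centralizer (Cfsg.pResidual p G : Set G)

instance resC_normal : (resC p G).Normal := by
  unfold resC; infer_instance

theorem mem_resC_of_bot {X : Subgroup G} (hX : X ≤ Cfsg.pCore p G)
    (h : ⁅Cfsg.pResidual p G, X⁆ ≤ ⊥) : X ≤ resC p G :=
  le_inf hX (le_centralizer_iff.1 (commutator_eq_bot_iff_le_centralizer.1 (le_bot_iff.1 h)))

theorem res_resC : ⁅Cfsg.pResidual p G, resC p G⁆ ≤ (⊥ : Subgroup G) :=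
  (commutator_eq_bot_iff_le_centralizer.2 (le_centralizer_iff.1 inf_le_right)).le

namespace Ctx

variable (c : Ctx p S M K V) (hb : Short p (S : Subgroup G) V 2)
  {β γ : MulAut ↥(S : Subgroup G)} {x : G} (P : Pair p S V β γ x)

include c

theorem center_le_resC : V ⊓ center G ≤ resC p G := fun u hu =>
  ⟨c.VQ hu.1, center_le_centralizer _ hu.2⟩

theorem resC_center {u : G} (hu : u ∈ centralizer ((S : Subgroup G) : Set G)) (hu' : u ∈ resC p G) :
    u ∈ center G := by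
  have h2 : (⊤ : Subgroup G) ≤ centralizer ({u} : Set G) :=
    (Fusion.sylow_sup_pResidual S).ge.trans (sup_le
      (fun s hs => mem_centralizer_singleton_iff.2 (mem_centralizer_iff.1 hu s hs))
      (fun r hr => mem_centralizer_singleton_iff.2 (mem_centralizer_iff.1 hu'.2 r hr)))
  exact mem_center_iff.2 fun g => mem_centralizer_singleton_iff.1 (h2 (mem_top g))

include hb in
theorem tw_short (δ : MulAut ↥(S : Subgroup G)) : tw V δ ≤ Cfsg.pCore p G := fun η hη => by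
  obtain ⟨t, ht, rfl⟩ := mem_tw.1 hη
  exact hb [⟨1, δ, 1⟩] (by simp) t ht _ (link_single.2 ⟨t, by simp, by simp⟩)

include P

theorem L3_resC : ⁅⁅Cfsg.pCore p G, Cfsg.pCore p G⁆, Cfsg.pCore p G⁆ ≤ resC p G := by
  set L3 := ⁅⁅Cfsg.pCore p G, Cfsg.pCore p G⁆, Cfsg.pCore p G⁆ with hL3
  refine le_inf ((commutator_mono (commutator_le_self _) le_rfl).trans (commutator_le_self _)) ?_
  refine le_centralizer_iff.1 (Fusion.pResidual_le_of_isPGroup_quotient _ ?_)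
  have htop : (S : Subgroup G).map (QuotientGroup.mk' (centralizer (L3 : Set G))) = ⊤ := by
    rw [eq_top_iff]
    intro y _
    obtain ⟨g, rfl⟩ := QuotientGroup.mk'_surjective _ y
    obtain ⟨s, hs, d, hd, rfl⟩ := Subgroup.mem_sup_of_normal_right.1
      ((c.sup_eq_top (N := centralizer (L3 : Set G)) (c.pair_not_cent_le P)).ge (mem_top g))
    refine ⟨s, hs, ?_⟩
    rw [map_mul, show QuotientGroup.mk' (centralizer (L3 : Set G)) d = 1 from
      (QuotientGroup.eq_one_iff d).2 hd, mul_one]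
  have h1 := S.2.map (QuotientGroup.mk' (centralizer (L3 : Set G)))
  rw [htop] at h1
  exact h1.of_equiv Subgroup.topEquiv

theorem S_sup : ∀ C : Subgroup G, Cfsg.pCore p G ≤ C → tw (Cfsg.pCore p G) β ≤ C →
    (S : Subgroup G) ≤ C := by
  intro C h1 h2 t ht
  obtain ⟨ζ, hζ, h⟩ := P.cov₂ t ht
  have := mul_mem (h1 ((inferInstance : (Cfsg.pCore p G).Normal).conj_mem _ (P.inQ₂ hζ) x)) (h2 h)
  rwa [mul_inv_cancel_left] at this

theorem D_resC : ⁅Cfsg.pCore p G, Cfsg.pCore p G⁆ ≤ resC p G := by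
  set Q := Cfsg.pCore p G with hQ
  set D := ⁅Q, Q⁆ with hD
  refine mem_resC_of_bot (commutator_le_self _) ?_
  have hDS : D ≤ (S : Subgroup G) := (commutator_le_self Q).trans c.QS
  have hL3 := c.L3_resC P
  refine res_trans (S.2.to_le hDS) (B := ⁅D, Q⁆) ?_ ((commutator_mono le_rfl hL3).trans res_resC)
  refine res_of_chief (commutator_le_left _ _) (S.2.to_le hDS) fun U W hLW hUD hc => ?_
  haveI := hc.2.1
  haveI := hc.2.2.1
  have hUQ : U ≤ Q := hUD.trans (commutator_le_self Q)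
  refine c.chief_trivial hc hUQ fun t ht u hu => ?_
  refine c.S_sup P (cent U W) (c.chief_Q hc hUQ) (fun q hq w hw => hLW ?_) ht u hu
  obtain ⟨d1, hd1, c0, hc0, rfl⟩ := (haveI := c.hVn
    Subgroup.mem_sup_of_normal_right.1 (c.pair_derived P (hUD hw)))
  have h1 : d1 ∈ tw D β :=
    (commutator_mono inf_le_right inf_le_right).trans (tw_commutator c.QS c.QS β) hd1
  have h2 : ⁅d1, q⁆ ∈ ⁅D, Q⁆ := (c.pair_L3_inv P).le
    (tw_commutator hDS c.QS β (commutator_mem_commutator h1 hq))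
  have e2 : ⁅q, d1 * c0⁆ = ⁅d1, q⁆⁻¹ := by
    calc ⁅q, d1 * c0⁆ = q * d1 * (c0 * q⁻¹) * c0⁻¹ * d1⁻¹ := by
          simp only [commutatorElement_def]; group
      _ = q * d1 * (q⁻¹ * c0) * c0⁻¹ * d1⁻¹ := by rw [mem_center_iff.1 hc0.2 q⁻¹]
      _ = _ := by simp only [commutatorElement_def]; group
  rw [e2]
  exact inv_mem h2

theorem pair_DOm_conj {u s : G}
    (hu : u ∈ ⁅Cfsg.pCore p G, Cfsg.pCore p G⁆ ⊔ (V ⊓ centralizer ((S : Subgroup G) : Set G)))
    (hs : s ∈ (S : Subgroup G)) :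
    s * u * s⁻¹ ∈ ⁅Cfsg.pCore p G, Cfsg.pCore p G⁆ ⊔ (V ⊓ centralizer ((S : Subgroup G) : Set G)) := by
  obtain ⟨d, hd, w, hw, rfl⟩ := Subgroup.mem_sup_of_normal_left.1 hu
  have e : s * (d * w) * s⁻¹ = (s * d * s⁻¹) * (s * w * s⁻¹) := by group
  rw [e, mem_centralizer_iff.1 hw.2 s hs, mul_inv_cancel_right]
  exact mul_mem (mem_sup_left ((inferInstance : (⁅Cfsg.pCore p G, Cfsg.pCore p G⁆).Normal).conj_mem d hd s))
    (mem_sup_right hw)

/-- `[Q₁, S] ≤ Q' Ω`. -/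
theorem Q1_comm {a t : G} (ha : a ∈ Cfsg.pCore p G ⊓ tw (Cfsg.pCore p G) β)
    (ht : t ∈ (S : Subgroup G)) :
    ⁅a, t⁆ ∈ ⁅Cfsg.pCore p G, Cfsg.pCore p G⁆ ⊔ (V ⊓ centralizer ((S : Subgroup G) : Set G)) := by
  obtain ⟨ζ, hζ, h⟩ := P.cov₂ t ht
  have hz : x * ζ * x⁻¹ ∈ Cfsg.pCore p G :=
    (inferInstance : (Cfsg.pCore p G).Normal).conj_mem _ (P.inQ₂ hζ) x
  have e : ⁅a, t⁆ = ⁅a, x * ζ * x⁻¹⁆ * ((x * ζ * x⁻¹) * ⁅a, (x * ζ * x⁻¹)⁻¹ * t⁆ * (x * ζ * x⁻¹)⁻¹) := by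
    simp only [commutatorElement_def]; group
  rw [e]
  exact mul_mem (mem_sup_left (commutator_mem_commutator ha.1 hz))
    (c.pair_DOm_conj P (c.pair_D_le' P (tw_commutator c.QS c.QS β (commutator_mem_commutator ha.2 h)))
      (c.QS hz))

theorem lcs1_le : (S : Subgroup G).lowerCentralSeries 1 ≤
    Cfsg.pCore p G ⊓ tw (Cfsg.pCore p G) β := by
  show ⁅(S : Subgroup G), (S : Subgroup G)⁆ ≤ _
  have hQ' : ∀ s ∈ (S : Subgroup G), ∀ t ∈ (S : Subgroup G), ⁅s, t⁆ ∈ Cfsg.pCore p G := by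
    intro s hs t ht
    refine c.st.pCore_eq.ge ⟨commutator_le_self (S : Subgroup G) (commutator_mem_commutator hs ht), ?_⟩
    have h1 := c.st.comm s hs t ht
    rwa [mul_inv_rev, ← mul_assoc, ← commutatorElement_def] at h1
  refine commutator_le.2 fun s hs t ht => ⟨hQ' s hs t ht, ?_⟩
  refine mem_tw.2 ⟨⁅β.symm ⟨s, hs⟩, β.symm ⟨t, ht⟩⁆,
    hQ' _ (β.symm ⟨s, hs⟩).2 _ (β.symm ⟨t, ht⟩).2, ?_⟩
  rw [map_commutatorElement, MulEquiv.apply_symm_apply, MulEquiv.apply_symm_apply]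
  exact map_commutatorElement (S : Subgroup G).subtype ⟨s, hs⟩ ⟨t, ht⟩

theorem lcs2_le : (S : Subgroup G).lowerCentralSeries 2 ≤
    ⁅Cfsg.pCore p G, Cfsg.pCore p G⁆ ⊔ (V ⊓ centralizer ((S : Subgroup G) : Set G)) := by
  show ⁅(S : Subgroup G).lowerCentralSeries 1, (S : Subgroup G)⁆ ≤ _
  exact commutator_le.2 fun a ha t ht => c.Q1_comm P (c.lcs1_le P ha) ht

theorem lcs3_bot (hd : ∀ T : Subgroup ↥(S : Subgroup G), T ≠ ⊥ → T.Characteristic →
      ¬ (T.map (S : Subgroup G).subtype).Normal) :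
    (S : Subgroup G).lowerCentralSeries 3 = ⊥ := by
  set Q := Cfsg.pCore p G with hQ
  set L3 := ⁅⁅Q, Q⁆, Q⁆ with hL3
  haveI := c.hVn
  have hle : (S : Subgroup G).lowerCentralSeries 3 ≤ L3 := by
    show ⁅(S : Subgroup G).lowerCentralSeries 2, (S : Subgroup G)⁆ ≤ _
    refine commutator_le.2 fun a ha t ht => ?_
    obtain ⟨d, hd', w, hw, rfl⟩ := Subgroup.mem_sup_of_normal_left.1 (c.lcs2_le P ha)
    obtain ⟨ζ, hζ, h⟩ := P.cov₂ t ht
    have hwt : Commute w t := (mem_centralizer_iff.1 hw.2 t ht).symm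
    have e : ⁅d * w, t⁆ = ⁅d, t⁆ := by
      calc ⁅d * w, t⁆ = d * (w * t) * w⁻¹ * d⁻¹ * t⁻¹ := by
            simp only [commutatorElement_def]; group
        _ = d * (t * w) * w⁻¹ * d⁻¹ * t⁻¹ := by rw [hwt.eq]
        _ = _ := by simp only [commutatorElement_def]; group
    set z := x * ζ * x⁻¹
    have hzd : Commute z d := c.pair_z_derived P hζ hd'
    have e2 : ⁅d, t⁆ = ⁅d, z⁆ * (z * ⁅d, z⁻¹ * t⁆ * z⁻¹) := by
      simp only [commutatorElement_def]; group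
    rw [e, e2, commutatorElement_eq_one_iff_mul_comm.2 hzd.symm, one_mul]
    refine (inferInstance : L3.Normal).conj_mem _ ?_ z
    obtain ⟨d1, hd1, c0, hc0, rfl⟩ := Subgroup.mem_sup_of_normal_right.1 (c.pair_derived P hd')
    have h1 : d1 ∈ tw ⁅Q, Q⁆ β :=
      (commutator_mono inf_le_right inf_le_right).trans (tw_commutator c.QS c.QS β) hd1
    have h2 : ⁅d1, z⁻¹ * t⁆ ∈ L3 := (c.pair_L3_inv P).le
      (tw_commutator ((commutator_le_self _).trans c.QS) c.QS β (commutator_mem_commutator h1 h))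
    have e3 : ⁅d1 * c0, z⁻¹ * t⁆ = ⁅d1, z⁻¹ * t⁆ := by
      have h1 := mem_center_iff.1 hc0.2 (z⁻¹ * t)
      calc ⁅d1 * c0, z⁻¹ * t⁆ = d1 * (c0 * (z⁻¹ * t)) * c0⁻¹ * d1⁻¹ * (z⁻¹ * t)⁻¹ := by
            simp only [commutatorElement_def]; group
        _ = d1 * ((z⁻¹ * t) * c0) * c0⁻¹ * d1⁻¹ * (z⁻¹ * t)⁻¹ := by rw [h1]
        _ = _ := by simp only [commutatorElement_def]; group
    rw [e3]
    exact h2
  refine kill hd (Subgroup.lowerCentralSeries_antitone (S := (S : Subgroup G)) (Nat.zero_le 3))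
    (fun δ y hy => lcs_inv _ δ 3 y hy) fun r hr t ht => ?_
  have h1 := (c.L3_resC P (hle ht)).2
  rw [mem_centralizer_iff.1 h1 r hr, mul_inv_cancel_right]
  exact ht

/-- `q ^ p` is centralized by `O^p(G)` for `q ∈ O_p(G)`. -/
theorem pow_resC {q : G} (hq' : q ∈ Cfsg.pCore p G) : q ^ p ∈ resC p G := by
  set Q := Cfsg.pCore p G with hQ
  haveI := c.hVn
  have hQn : Q.Normal := inferInstance
  set π := QuotientGroup.mk' (resC p G) with hπ
  have hπ1 : ∀ g, π g = 1 ↔ g ∈ resC p G := fun g => QuotientGroup.eq_one_iff g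
  have hab : ∀ a ∈ Q, ∀ b ∈ Q, Commute (π a) (π b) := fun a ha b hb' => by
    refine commutatorElement_eq_one_iff_mul_comm.1 ?_
    rw [← map_commutatorElement, hπ1]
    exact c.D_resC P (commutator_mem_commutator ha hb')
  let P1 : Subgroup G :=
    { carrier := {u | u ∈ Q ∧ π u ^ p = 1}
      one_mem' := ⟨one_mem _, by rw [map_one, one_pow]⟩
      mul_mem' := fun {a d} ha hd => ⟨mul_mem ha.1 hd.1, by
        rw [map_mul, (hab a ha.1 d hd.1).mul_pow, ha.2, hd.2, one_mul]⟩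
      inv_mem' := fun {a} ha => ⟨inv_mem ha.1, by rw [map_inv, inv_pow, ha.2, inv_one]⟩ }
  haveI hP1n : P1.Normal := ⟨fun u hu g => ⟨hQn.conj_mem u hu.1 g, by
    rw [map_mul, map_mul, map_inv, conj_pow, hu.2, mul_one, mul_inv_cancel]⟩⟩
  have hDle : ⁅Q, Q⁆ ⊔ (V ⊓ centralizer ((S : Subgroup G) : Set G)) ≤ P1 := by
    refine sup_le (fun d hd => ⟨commutator_le_self Q hd, ?_⟩) fun v hv => ⟨c.VQ hv.1, ?_⟩
    · rw [(hπ1 d).2 (c.D_resC P hd), one_pow]
    · rw [← map_pow, (Thompson.ea_iff.1 c.hV).2 v hv.1, map_one]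
  have hz : ∀ ζ ∈ tw V γ, x * ζ * x⁻¹ ∈ P1 := by
    intro ζ hζ
    refine hP1n.conj_mem ζ ⟨P.inQ₂ hζ, ?_⟩ x
    obtain ⟨u, hu, rfl⟩ := mem_tw.1 hζ
    have : u ^ p = 1 := Subtype.ext (by
      rw [Subgroup.coe_pow]; exact (Thompson.ea_iff.1 c.hV).2 _ hu)
    rw [← map_pow, show ((γ u : ↥(S : Subgroup G)) : G) ^ p = 1 from
      congrArg Subtype.val (show γ u ^ p = 1 by rw [← map_pow, this, map_one]), map_one]
  have hRQ : ⁅Cfsg.pResidual p G, Q⁆ ≤ P1 := by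
    refine res_of_chief (fun u hu => hu.1) (S.2.to_le c.QS) fun U W hPW hUQ hc => ?_
    haveI := hc.2.1
    haveI := hc.2.2.1
    refine c.chief_trivial hc hUQ fun t ht u hu => ?_
    refine c.S_sup P (cent U W) (c.chief_Q hc hUQ) (fun q2 hq2 w hw => hPW ?_) ht u hu
    obtain ⟨ζ, hζ, q1, hq1, rfl⟩ := c.pair_split P (hUQ hw)
    have e : ⁅q2, x * ζ * x⁻¹ * q1⁆ =
        (q2 * (x * ζ * x⁻¹) * q2⁻¹) * (x * ζ * x⁻¹)⁻¹ * ((x * ζ * x⁻¹) * ⁅q2, q1⁆ * (x * ζ * x⁻¹)⁻¹) := by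
      simp only [commutatorElement_def]; group
    rw [e]
    exact P1.mul_mem (P1.mul_mem (hP1n.conj_mem _ (hz ζ hζ) q2) (P1.inv_mem (hz ζ hζ)))
      (hP1n.conj_mem _ (hDle (c.pair_D_le' P
        (tw_commutator c.QS c.QS β (commutator_mem_commutator hq2 hq1.2)))) _)
  haveI : (fix (Cfsg.pResidual p G) Q (resC p G)).Normal := fix_normal
  have hfix : fix (Cfsg.pResidual p G) Q (resC p G) ≤ resC p G := by
    refine mem_resC_of_bot (fun u hu => hu.1) (res_trans (S.2.to_le fun u hu => c.QS hu.1) ?_ res_resC)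
    exact commutator_le.2 fun r hr u hu => hu.2 r hr
  refine hfix ⟨pow_mem hq' p, fun r hr => (hπ1 _).1 ?_⟩
  have h1 := hRQ (commutator_mem_commutator hr hq')
  have h2 : π r * π q * (π r)⁻¹ = π ⁅r, q⁆ * π q := by
    rw [← map_inv, ← map_mul, ← map_mul, ← map_mul]
    congr 1
    rw [commutatorElement_def]; group
  rw [map_commutatorElement, map_pow, commutatorElement_def, ← conj_pow, h2,
    (hab _ h1.1 _ hq').mul_pow, h1.2, one_mul, mul_inv_cancel]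

include hb in
/-- The components of `[z, t]`. -/
theorem z_comm {n : ℕ} (hq : Nat.card (S : Subgroup G) = p ^ n * Nat.card (Cfsg.pCore p G))
    (hcard : Nat.card V =
      p ^ n * Nat.card (V ⊓ centralizer ((S : Subgroup G) : Set G) : Subgroup G))
    {ζ t : G} (hζ : ζ ∈ tw V γ) (ht : t ∈ (S : Subgroup G)) :
    ∃ η ∈ tw V β, ∃ v ∈ V, ∃ w ∈ centralizer ((S : Subgroup G) : Set G),
      ⁅x * ζ * x⁻¹, t⁆ = η * (v * w) := by
  set Q := Cfsg.pCore p G with hQ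
  have hQn : Q.Normal := inferInstance
  set z := x * ζ * x⁻¹ with hz
  have hzQ : z ∈ Q := hQn.conj_mem _ (P.inQ₂ hζ) x
  have ha := c.lcs1_le P (commutator_mem_commutator (c.QS hzQ) ht)
  set a := ⁅z, t⁆ with hadef
  have hsplit : ∀ u ∈ Q ⊓ tw Q β, ∃ η ∈ tw V β, ∃ d ∈ Q ⊓ tw Q β,
      u = η * d ∧ ∀ ζ' ∈ tw V γ, Commute (x * ζ' * x⁻¹) d := by
    intro u hu
    obtain ⟨η, hη, q, hq', e⟩ :=
      c.pair_split P.symm (q := x⁻¹ * u * x) (by simpa using hQn.conj_mem u hu.1 x⁻¹)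
    have e' : u = η * (x * q * x⁻¹) := by
      have : u = x * (x⁻¹ * u * x) * x⁻¹ := by group
      rw [this, ← e, inv_inv]
      group
    refine ⟨η, hη, _, ⟨hQn.conj_mem _ hq'.1 x, ?_⟩, e', fun ζ' hζ' => ?_⟩
    · rw [show x * q * x⁻¹ = η⁻¹ * u by rw [e']; group]
      exact (tw Q β).mul_mem ((tw Q β).inv_mem (tw_mono c.VQ β hη)) hu.2
    · have := (c.tw_comm hζ' hq'.2).symm.map (MulAut.conj x).toMonoidHom
      simpa [mul_assoc] using this
  obtain ⟨η, hη, d, hd', hae, hdz⟩ := hsplit a ha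
  have hηc : ∀ u ∈ Q ⊓ tw Q β, Commute u η := fun u hu => c.tw_comm hη hu.2
  have hdQ : d ∈ centralizer (Q : Set G) := by
    refine mem_centralizer_iff.2 fun u hu => ?_
    obtain ⟨ζ', hζ', u1, hu1, rfl⟩ := c.pair_split P hu
    obtain ⟨η', hη', d', hd'', e, hd'z⟩ := hsplit u1 hu1
    have h1 : Commute (x * ζ' * x⁻¹) d := hdz ζ' hζ'
    have h2 : Commute η' d := (c.tw_comm hη' hd'.2).symm
    have h3 : Commute d' d := by
      have hda : d = η⁻¹ * a := by rw [hae]; group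
      rw [hda]
      refine (hηc d' hd'').inv_right.mul_right ?_
      -- `a = z * (t z⁻¹ t⁻¹)`
      have hz1 : Commute d' z := (hd'z ζ hζ).symm
      have hz2 : Commute (t⁻¹ * d' * t) z := by
        have e3 : t⁻¹ * d' * t = d' * ⁅d'⁻¹, t⁻¹⁆ := by
          simp only [commutatorElement_def]; group
        rw [e3]
        refine hz1.mul_left ?_
        obtain ⟨dd, hdd, w, hw, e4⟩ := Subgroup.mem_sup_of_normal_left.1
          (c.Q1_comm P (inv_mem hd'') ((S : Subgroup G).inv_mem ht))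
        rw [← e4]
        exact (c.pair_z_derived P hζ hdd).symm.mul_left (c.Q_comm hzQ hw.1).symm
      have hz3 := hz2.inv_right.map (MulAut.conj t).toMonoidHom
      have hz4 : Commute d' (t * z⁻¹ * t⁻¹) := by simpa [mul_assoc] using hz3
      rw [hadef, commutatorElement_def, show z * t * z⁻¹ * t⁻¹ = z * (t * z⁻¹ * t⁻¹) by group]
      exact hz1.mul_right hz4
    rw [e]
    exact h1.mul_left (h2.mul_left h3)
  obtain ⟨v, hv, w, hw, e⟩ := c.center_Q_eq P hq (c.tw_short hb β.symm) hcard hd'.1 hdQ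
  exact ⟨η, hη, v, hv, w, hw, by rw [hae, e]⟩

omit P

theorem comm_of_central {η v w t : G} (hη : ⁅η, t⁆ ∈ center G) (hw : Commute w t) :
    ⁅η * (v * w), t⁆ = ⁅η, t⁆ * (η * ⁅v, t⁆ * η⁻¹) := by
  have h1 := mem_center_iff.1 hη (η * ⁅v, t⁆ * η⁻¹)
  rw [← h1]
  calc ⁅η * (v * w), t⁆ = η * v * (w * t) * w⁻¹ * v⁻¹ * η⁻¹ * t⁻¹ := by
        simp only [commutatorElement_def]; group
    _ = η * v * (t * w) * w⁻¹ * v⁻¹ * η⁻¹ * t⁻¹ := by rw [hw.eq]
    _ = _ := by simp only [commutatorElement_def]; group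

end Ctx

end Cfsg.Agent.PushUp
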