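import Cfsg.Agent.PushUp.Reg

/-!
# `b = 1`: class two
-/

set_option autoImplicit false
set_option linter.unusedSectionVars false

namespace Cfsg.Agent.PushUp

open Subgroup Cfsg.Agent.PushRankOne
open Cfsg.Agent.Offender (cj mem_cj)
open scoped commutatorElement MatrixGroups

variable {G : Type*} [Group G] [Finite G] {p : ℕ} [Fact p.Prime] {S : Sylow p G}
  {M K V : Subgroup G}

/-- Powers of a product whose commutator is central. -/
theorem mul_pow_central {A : Type*} [Group A] {a b z : A} (hz : z = ⁅b, a⁆) (ha : Commute z a)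
    (hb : Commute z b) (k : ℕ) : (a * b) ^ k = a ^ k * b ^ k * z ^ k.choose 2 := by
  have h1 : ∀ j : ℕ, b ^ j * a = a * b ^ j * z ^ j := by
    intro j
    induction j with
    | zero => simp
    | succ j ih =>
      have e : b * a = z * (a * b) := by rw [hz, commutatorElement_def]; group
      calc b ^ (j + 1) * a = b ^ j * (b * a) := by rw [pow_succ]; group
        _ = b ^ j * z * (a * b) := by rw [e]; group
        _ = z * (b ^ j * a) * b := by rw [← (hb.pow_right j).eq]; group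
        _ = z * (a * b ^ j * z ^ j) * b := by rw [ih]
        _ = (a * b ^ j) * (z * z ^ j) * b := by
            rw [← mul_assoc z, (ha.mul_right (hb.pow_right j)).eq]; group
        _ = a * b ^ j * (b * z ^ (j + 1)) := by
            rw [← pow_succ', mul_assoc, (hb.pow_left (j + 1)).eq]
        _ = _ := by rw [← mul_assoc, mul_assoc a, ← pow_succ]
  induction k with
  | zero => simp
  | succ k ih =>
    rw [pow_succ, ih, Nat.choose_succ_succ', Nat.choose_one_right]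
    calc a ^ k * b ^ k * z ^ k.choose 2 * (a * b)
        = a ^ k * b ^ k * ((a * b) * z ^ k.choose 2) := by
          rw [mul_assoc (a ^ k * b ^ k), ((ha.mul_right hb).pow_left _).eq]
      _ = a ^ k * (b ^ k * a) * (b * z ^ k.choose 2) := by group
      _ = a ^ k * (a * b ^ k * z ^ k) * (b * z ^ k.choose 2) := by rw [h1]
      _ = a ^ k * a * b ^ k * (z ^ k * b) * z ^ k.choose 2 := by group
      _ = a ^ k * a * b ^ k * (b * z ^ k) * z ^ k.choose 2 := by rw [(hb.pow_left k).eq]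
      _ = _ := by simp only [pow_one, pow_succ b, pow_succ a, pow_add, mul_assoc]

namespace Ctx

variable (c : Ctx p S M K V)

include c

/-- The lowest factor. -/
theorem chief_V {F : Type*} [Field F] [Fintype F] {n : ℕ} (hF : Fintype.card F = p ^ n)
    (hq : Nat.card (S : Subgroup G) = p ^ n * Nat.card (Cfsg.pCore p G)) {b : ℕ}
    (hb : Short p (S : Subgroup G) V b) {L : List (Step (S : Subgroup G))} (hL : Crit p V b L) :
    Cfsg.IsChiefFactor V (V ⊓ center G) ∧ ¬ ⁅V, (⊤ : Subgroup G)⁆ ≤ V ⊓ center G ∧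
      (∃ k : ℕ, Cfsg.iterCommutator (V ⊓ center G) ⊤ k = ⊥) ∧
      ¬ ⁅Cfsg.pResidual p G, V⁆ ≤ V ⊓ center G := by
  haveI := c.hVn
  have hnotR : ¬ ⁅Cfsg.pResidual p G, V⁆ ≤ V ⊓ center G := by
    intro hle
    have h0 : ⁅Cfsg.pResidual p G, V ⊓ center G⁆ ≤ (⊥ : Subgroup G) :=
      commutator_le.2 fun g _ u hu => by
        rw [mem_bot, commutatorElement_eq_one_iff_mul_comm]
        exact mem_center_iff.1 hu.2 g
    have h1 := res_trans (Thompson.ea_isPGroup c.hV) hle h0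
    obtain ⟨z, hz, hzS, hzc⟩ := c.hz
    have hC : Cfsg.pResidual p G ≤ centralizer (V : Set G) :=
      commutator_eq_bot_iff_le_centralizer.1 (le_bot_iff.1 h1)
    have h2 : (⊤ : Subgroup G) ≤ centralizer ({z} : Set G) :=
      (Fusion.sylow_sup_pResidual S).ge.trans (sup_le
        (fun s hs => mem_centralizer_singleton_iff.2 (mem_centralizer_iff.1 hzS s hs))
        (fun r hr => mem_centralizer_singleton_iff.2 (mem_centralizer_iff.1 (hC hr) z hz).symm))
    exact hzc (mem_center_iff.2 fun g => mem_centralizer_singleton_iff.1 (h2 (mem_top g)))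
  obtain ⟨U, W, hMW, hUV, hc, hnc⟩ : ∃ U W : Subgroup G, V ⊓ center G ≤ W ∧ U ≤ V ∧
      Cfsg.IsChiefFactor U W ∧ ¬ ⁅U, (⊤ : Subgroup G)⁆ ≤ W := by
    by_contra hcon
    push Not at hcon
    exact hnotR (res_of_chief inf_le_left (Thompson.ea_isPGroup c.hV) hcon)
  haveI := hc.2.2.1
  obtain ⟨-, -, -, hUc⟩ := c.chief_natural (F := F) hF hq hc (hUV.trans c.VQ) hnc
  have hVc := c.card_V_omega hb hL hq
  rw [c.card_omega_center hb hL hq] at hVc
  have i1 := card_le_of_le hMW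
  have i2 := card_le_of_le hUV
  have hpn : 0 < p ^ n := pow_pos (Fact.out : p.Prime).pos n
  have hW : W = V ⊓ center G := by
    refine (eq_of_le_of_card_ge hMW ?_).symm
    refine Nat.le_of_mul_le_mul_left (Nat.le_of_mul_le_mul_left ?_ hpn) hpn
    rw [← hVc, ← hUc]; exact i2
  have hU : U = V := eq_of_le_of_card_ge hUV (by
    rw [hVc, hUc]; exact Nat.mul_le_mul_left _ (Nat.mul_le_mul_left _ i1))
  subst hU hW
  refine ⟨hc, hnc, ⟨1, ?_⟩, hnotR⟩
  show ⁅U ⊓ center G, (⊤ : Subgroup G)⁆ = ⊥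
  rw [commutator_eq_bot_iff_le_centralizer]
  exact fun u hu => mem_centralizer_iff.2 fun g _ => mem_center_iff.1 hu.2 g

/-- `S = tw V β * O_p(G)` for a critical step. -/
theorem cover_one (hb : Short p (S : Subgroup G) V 1) {g h : G} {β : MulAut ↥(S : Subgroup G)}
    (hC : Crit p V 1 [(⟨g, β, h⟩ : Step (S : Subgroup G))]) :
    ∀ t ∈ (S : Subgroup G), ∃ η ∈ tw V β, η⁻¹ * t ∈ Cfsg.pCore p G := by
  intro t ht
  obtain ⟨y, hy, hq'⟩ :=
    c.cover hb (L := []) (s := ⟨g, β, 1⟩) (c.crit_retarget hb (L := []) hC) ht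
  obtain ⟨v, hv, hy'⟩ := mem_img.1 hy
  obtain ⟨tv, htv, hyv⟩ := link_single.1 hy'
  refine ⟨y, ?_, by simpa using hq'⟩
  have : y = ((β tv : ↥(S : Subgroup G)) : G) := by simpa using hyv
  rw [this]
  refine mem_tw_of_mem ?_
  have h1 := c.hVn.conj_mem v hv g⁻¹
  rw [htv] at h1
  simpa [mul_assoc] using h1

/-- In case `b = 1`, `[O_p(G), O^p(G)] ≤ V`. -/
theorem res_Q_le_V (hb : Short p (S : Subgroup G) V 1) {L : List (Step (S : Subgroup G))}
    (hL : Crit p V 1 L) : ⁅Cfsg.pResidual p G, Cfsg.pCore p G⁆ ≤ V := by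
  haveI := c.hVn
  obtain ⟨⟨g, β, h⟩, rfl⟩ : ∃ s, L = [s] := List.length_eq_one_iff.1 hL.1
  refine res_of_chief c.VQ (S.2.to_le c.QS) fun U W hVW hUQ hc => ?_
  haveI := hc.2.1
  haveI := hc.2.2.1
  refine c.chief_trivial hc hUQ fun t ht u hu => ?_
  obtain ⟨η, hη, h1⟩ := c.cover_one hb hL t ht
  have hmem : η ∈ cent U W := fun w hw =>
    hVW (c.S_conj_omega (c.quad_comm hb hL) hη (c.QS (hUQ hw))).1
  have := mul_mem hmem (c.chief_Q hc hUQ h1)
  rw [mul_inv_cancel_left] at this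
  exact this u hu

omit c

/-- The conclusion in case `b = 1`. -/
theorem class_two (c : Ctx p S M K V) (hd : ∀ T : Subgroup ↥(S : Subgroup G), T ≠ ⊥ →
      T.Characteristic → ¬ (T.map (S : Subgroup G).subtype).Normal)
    {F : Type*} [Field F] [Fintype F] {n : ℕ} (hF : Fintype.card F = p ^ n)
    (hq : Nat.card (S : Subgroup G) = p ^ n * Nat.card (Cfsg.pCore p G))
    (hb : Short p (S : Subgroup G) V 1) {L : List (Step (S : Subgroup G))} (hL : Crit p V 1 L) :
    (S : Subgroup G).lowerCentralSeries 2 = ⊥ ∧ (S : Subgroup G).lowerCentralSeries 1 ≠ ⊥ ∧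
      (p = 2 → Monoid.exponent ↥(S : Subgroup G) = 4) ∧
      (p ≠ 2 → Monoid.exponent ↥(S : Subgroup G) = p) ∧
      (∃ U W : Subgroup G, W ≤ U ∧ U ≤ (Cfsg.pCore p G) ∧ Cfsg.IsChiefFactor U W ∧
        ¬ ⁅U, (⊤ : Subgroup G)⁆ ≤ W ∧ (∃ k : ℕ, Cfsg.iterCommutator W ⊤ k = ⊥) ∧
        (∃ k : ℕ, Cfsg.iterCommutator (Cfsg.pCore p G) ⊤ k ≤ U)) := by
  haveI := c.hVn
  set Q := Cfsg.pCore p G with hQdef
  have hQn : Q.Normal := inferInstance
  obtain ⟨⟨g, β, h⟩, rfl⟩ : ∃ s, L = [s] := List.length_eq_one_iff.1 hL.1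
  have hrev : Crit p V 1 ([] ++ [(⟨h, β.symm, g⟩ : Step (S : Subgroup G))]) := c.crit_rev hb hL
  -- `S = tw V β * Q` for `β` and for its inverse
  have hcov := fun g h β hC => c.cover_one hb (g := g) (h := h) (β := β) hC
  have hβ := hcov g h β hL
  have hβ' := hcov h g β.symm hrev
  have hq2 := c.quad_comm hb hL
  set Om := V ⊓ centralizer ((S : Subgroup G) : Set G) with hOm
  set Q₁ := Q ⊓ tw Q β with hQ₁
  -- decomposition
  have hdecQ : ∀ q ∈ Q, ∃ v ∈ V, ∃ a ∈ Q₁, v * a = q := by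
    intro q hq'
    obtain ⟨η, hη, h1⟩ := hβ' _ (β.symm ⟨q, c.QS hq'⟩).2
    obtain ⟨v, hv, rfl⟩ := mem_tw.1 hη
    refine ⟨v, hv, (v : G)⁻¹ * q, ⟨Q.mul_mem (Q.inv_mem (c.VQ hv)) hq', ?_⟩, mul_inv_cancel_left _ _⟩
    refine mem_tw.2 ⟨(β.symm v)⁻¹ * β.symm ⟨q, c.QS hq'⟩, h1, ?_⟩
    rw [map_mul, map_inv, MulEquiv.apply_symm_apply, MulEquiv.apply_symm_apply]
    rfl
  have hdecS : ∀ t ∈ (S : Subgroup G), ∃ η ∈ tw V β, ∃ v ∈ V, ∃ a ∈ Q₁, η * v * a = t := by
    intro t ht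
    obtain ⟨η, hη, h1⟩ := hβ t ht
    obtain ⟨v, hv, a, ha, e⟩ := hdecQ _ h1
    exact ⟨η, hη, v, hv, a, ha, by rw [mul_assoc, e, mul_inv_cancel_left]⟩
  have hab : ∀ {η a : G}, η ∈ tw V β → a ∈ Q₁ → Commute a η := fun hη ha => c.tw_comm hη ha.2
  have hvb : ∀ {v a : G}, v ∈ V → a ∈ Q₁ → Commute a v := fun hv ha => c.Q_comm ha.1 hv
  have hOmS : ∀ {u s : G}, u ∈ Om → s ∈ (S : Subgroup G) → Commute s u :=
    fun hu hs => mem_centralizer_iff.1 hu.2 _ hs
  set T3 := ⁅⁅Q₁, Q₁⁆, Q₁⁆ with hT3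
  have hQ₁S : Q₁ ≤ (S : Subgroup G) := inf_le_left.trans c.QS
  -- the commutator subgroup
  have hD : ⁅Q, Q⁆ ≤ ⁅Q₁, Q₁⁆ := by
    refine commutator_le.2 fun a ha b hb' => ?_
    obtain ⟨v, hv, a1, ha1, rfl⟩ := hdecQ a ha
    obtain ⟨w, hw, b1, hb1, rfl⟩ := hdecQ b hb'
    have c1 : Commute v a1 := (hvb hv ha1).symm
    have c2 : Commute v w := mem_centralizer_iff.1 ((Thompson.ea_iff.1 c.hV).1 hw) v hv
    have c3 : Commute v b1 := (hvb hv hb1).symm
    have c4 : Commute w a1 := (hvb hw ha1).symm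
    have c5 : Commute w b1 := (hvb hw hb1).symm
    have e : ⁅v * a1, w * b1⁆ = ⁅a1, b1⁆ := by
      calc ⁅v * a1, w * b1⁆ = v * (a1 * (w * b1) * a1⁻¹) * v⁻¹ * (w * b1)⁻¹ := by
            simp only [commutatorElement_def]; group
        _ = a1 * (w * b1) * a1⁻¹ * (w * b1)⁻¹ := by
            rw [((c1.mul_right (c2.mul_right c3)).mul_right c1.inv_right).eq, mul_inv_cancel_right]
        _ = w * (a1 * b1 * a1⁻¹ * b1⁻¹) * w⁻¹ := by
            rw [show a1 * (w * b1) = w * (a1 * b1) by rw [← mul_assoc, ← c4.eq, mul_assoc]]; group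
        _ = _ := by
            rw [(((c4.mul_right c5).mul_right c4.inv_right).mul_right c5.inv_right).eq,
              mul_inv_cancel_right, commutatorElement_def]
    rw [e]
    exact commutator_mem_commutator ha1 hb1
  have hL1 : (S : Subgroup G).lowerCentralSeries 1 ≤ ⁅Q₁, Q₁⁆ ⊔ Om := by
    show ⁅(S : Subgroup G), (S : Subgroup G)⁆ ≤ _
    refine commutator_le.2 fun s hs t ht => ?_
    obtain ⟨η, hη, v, hv, a, ha, rfl⟩ := hdecS s hs
    obtain ⟨η', hη', v', hv', a', ha', rfl⟩ := hdecS t ht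
    have hηS : ∀ {x : G}, x ∈ tw V β → x ∈ (S : Subgroup G) := fun hx => tw_le hx
    have c1 : Commute (η * v) a := ((hab hη ha).symm).mul_left (hvb hv ha).symm
    have c2 : Commute (η' * v') a := ((hab hη' ha).symm).mul_left (hvb hv' ha).symm
    have c3 : Commute (η * v) a' := ((hab hη ha').symm).mul_left (hvb hv ha').symm
    have c4 : Commute (η' * v') a' := ((hab hη' ha').symm).mul_left (hvb hv' ha').symm
    have e : ⁅η * v * a, η' * v' * a'⁆ = ⁅η * v, η' * v'⁆ * ⁅a, a'⁆ := by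
      calc ⁅η * v * a, η' * v' * a'⁆
          = (η * v) * (a * (η' * v')) * a' * a⁻¹ * (η * v)⁻¹ * a'⁻¹ * (η' * v')⁻¹ := by
            simp only [commutatorElement_def]; group
        _ = (η * v) * (η' * v') * ((a * a' * a⁻¹) * (η * v)⁻¹) * a'⁻¹ * (η' * v')⁻¹ := by
            rw [← c2.eq]; group
        _ = (η * v) * (η' * v') * (η * v)⁻¹ * ((a * a' * a⁻¹ * a'⁻¹) * (η' * v')⁻¹) := by
            rw [← ((c1.mul_right c3).mul_right c1.inv_right).inv_left.eq]; group
        _ = _ := by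
            rw [← (((c2.mul_right c4).mul_right c2.inv_right).mul_right c4.inv_right).inv_left.eq]
            simp only [commutatorElement_def]; group
    rw [e]
    refine mul_mem (mem_sup_right ?_) (mem_sup_left (commutator_mem_commutator ha ha'))
    -- `[η v, η' v']` is fixed by `S`
    have h1 : ⁅v, η' * v'⁆ ∈ Om :=
      hq2 v hv _ ((S : Subgroup G).mul_mem (hηS hη') (c.VS hv'))
    have h2 : ⁅η, η' * v'⁆ ∈ Om :=
      c.S_conj_omega hq2 hη ((S : Subgroup G).mul_mem (hηS hη') (c.VS hv'))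
    have e2 : ⁅η * v, η' * v'⁆ = η * ⁅v, η' * v'⁆ * η⁻¹ * ⁅η, η' * v'⁆ := by
      simp only [commutatorElement_def]; group
    rw [e2, (hOmS h1 (hηS hη)).eq, mul_inv_cancel_right]
    exact mul_mem h1 h2
  have hQ1n : ∀ {d a : G}, d ∈ ⁅Q₁, Q₁⁆ → a ∈ Q₁ → ⁅d, a⁆ ∈ T3 := fun hd ha =>
    commutator_mem_commutator hd ha
  have hL2 : (S : Subgroup G).lowerCentralSeries 2 ≤ T3 := by
    show ⁅(S : Subgroup G).lowerCentralSeries 1, (S : Subgroup G)⁆ ≤ _
    refine commutator_le.2 fun d hd' t ht => ?_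
    obtain ⟨η, hη, v, hv, a, ha, rfl⟩ := hdecS t ht
    have hcl : ∀ y ∈ ⁅Q₁, Q₁⁆, Commute y (η * v) := by
      intro y hy
      have hyQ : y ∈ Q₁ := commutator_le_self Q₁ hy
      exact (hab hη hyQ).mul_right (hvb hv hyQ)
    have hdS := hL1 hd'
    have hOmn : ∀ y ∈ ⁅Q₁, Q₁⁆, ∀ u ∈ Om, ⁅y * u, η * v * a⁆ = ⁅y, η * v * a⁆ := by
      intro y hy u hu
      have hts : η * v * a ∈ (S : Subgroup G) := ht
      have h3 := hOmS hu hts
      calc ⁅y * u, η * v * a⁆ = y * (u * (η * v * a)) * u⁻¹ * y⁻¹ * (η * v * a)⁻¹ := by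
            simp only [commutatorElement_def]; group
        _ = y * ((η * v * a) * u) * u⁻¹ * y⁻¹ * (η * v * a)⁻¹ := by rw [h3.eq]
        _ = _ := by simp only [commutatorElement_def]; group
    haveI hn : ((⁅Q₁, Q₁⁆).subgroupOf (⁅Q₁, Q₁⁆ ⊔ Om)).Normal := by
      refine normal_subgroupOf_of_le_normalizer (sup_le le_normalizer ?_)
      exact le_trans (fun u hu => mem_centralizer_iff.2 fun y hy =>
        (hOmS hu (hQ₁S (commutator_le_self Q₁ hy))).eq) (centralizer_le_normalizer _)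
    obtain ⟨y, hy, u, hu, rfl⟩ : ∃ y ∈ ⁅Q₁, Q₁⁆, ∃ u ∈ Om, y * u = d := by
      let P : Subgroup G :=
        { carrier := {d | ∃ y ∈ ⁅Q₁, Q₁⁆, ∃ u ∈ Om, y * u = d}
          one_mem' := ⟨1, one_mem _, 1, one_mem _, by simp⟩
          mul_mem' := by
            rintro _ _ ⟨y, hy, u, hu, rfl⟩ ⟨y', hy', u', hu', rfl⟩
            refine ⟨y * y', mul_mem hy hy', u * u', mul_mem hu hu', ?_⟩
            have := (hOmS hu (hQ₁S (commutator_le_self Q₁ hy'))).eq
            calc y * y' * (u * u') = y * (y' * u) * u' := by group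
              _ = y * (u * y') * u' := by rw [this]
              _ = _ := by group
          inv_mem' := by
            rintro _ ⟨y, hy, u, hu, rfl⟩
            refine ⟨y⁻¹, inv_mem hy, u⁻¹, inv_mem hu, ?_⟩
            rw [mul_inv_rev]
            exact (hOmS (inv_mem hu) (hQ₁S (commutator_le_self Q₁ (inv_mem hy)))).eq }
      exact (sup_le (fun y hy => ⟨y, hy, 1, one_mem _, mul_one y⟩)
        (fun u hu => ⟨1, one_mem _, u, hu, one_mul u⟩) : _ ≤ P) hdS
    rw [hOmn y hy u hu]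
    have e : ⁅y, η * v * a⁆ = ⁅y, η * v⁆ * ((η * v) * ⁅y, a⁆ * (η * v)⁻¹) := by
      simp only [commutatorElement_def]; group
    rw [e, commutatorElement_eq_one_iff_mul_comm.2 (hcl y hy), one_mul]
    have h4 : Commute (η * v) ⁅y, a⁆ := by
      have hyQ : y ∈ Q₁ := commutator_le_self Q₁ hy
      have hm : ⁅y, a⁆ ∈ Q₁ := commutator_le_self Q₁ (commutator_mem_commutator hyQ ha)
      exact ((hab hη hm).mul_right (hvb hv hm)).symm
    rw [h4.eq, mul_inv_cancel_right]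
    exact hQ1n hy ha
  have hT3eq : T3 = ⁅⁅Q, Q⁆, Q⁆ := by
    refine le_antisymm (commutator_mono (commutator_mono inf_le_left inf_le_left) inf_le_left) ?_
    refine commutator_le.2 fun d hd' q hq' => ?_
    obtain ⟨v, hv, a, ha, rfl⟩ := hdecQ q hq'
    have hd1 := hD hd'
    have hdQ : d ∈ Q₁ := commutator_le_self Q₁ hd1
    have e : ⁅d, v * a⁆ = ⁅d, v⁆ * (v * ⁅d, a⁆ * v⁻¹) := by
      simp only [commutatorElement_def]; group
    rw [e, commutatorElement_eq_one_iff_mul_comm.2 (hvb hv hdQ), one_mul]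
    have hm : ⁅d, a⁆ ∈ Q₁ := commutator_le_self Q₁ (commutator_mem_commutator hdQ ha)
    rw [((hvb hv hm).symm).eq, mul_inv_cancel_right]
    exact commutator_mem_commutator hd1 ha
  have h2bot : (S : Subgroup G).lowerCentralSeries 2 = ⊥ := by
    have h2eq : (S : Subgroup G).lowerCentralSeries 2 = ⁅⁅Q, Q⁆, Q⁆ := by
      refine le_antisymm (hL2.trans hT3eq.le) (hT3eq.ge.trans ?_)
      show T3 ≤ ⁅⁅(S : Subgroup G), (S : Subgroup G)⁆, (S : Subgroup G)⁆
      exact commutator_mono (commutator_mono hQ₁S hQ₁S) hQ₁S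
    refine kill hd ((Subgroup.lowerCentralSeries_antitone (S := (S : Subgroup G))
      (Nat.zero_le 2)).trans le_rfl) (fun β x hx => lcs_inv _ β 2 x hx) ?_
    intro r _ t ht
    rw [h2eq] at ht ⊢
    exact (inferInstance : (⁅⁅Q, Q⁆, Q⁆).Normal).conj_mem t ht r
  have h1ne : (S : Subgroup G).lowerCentralSeries 1 ≠ ⊥ := by
    intro e
    obtain ⟨hlen, v, hv, y, hy, hQy⟩ := c.crit_retarget hb (L := []) (g := g) (h' := 1) hL
    obtain ⟨w, hw, hne⟩ := c.crit_witness hb hlen hv hy hQy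
    have hyS : y ∈ (S : Subgroup G) := by
      have := link_mem_last (L := ([] : List (Step (S : Subgroup G)))) hy
      rwa [Offender.cj_one] at this
    refine hne (commutatorElement_eq_one_iff_mul_comm.1 ?_)
    have : ⁅y, w⁆ ∈ (S : Subgroup G).lowerCentralSeries 1 :=
      commutator_mem_commutator hyS (c.VS hw)
    rw [e, mem_bot] at this
    exact this
  -- exponent
  have hpow : ∀ (e : ℕ), p ∣ e → p ∣ e.choose 2 → ∀ t ∈ (S : Subgroup G), ∃ q ∈ Q, t ^ e = q ^ e := by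
    intro e he he2 t ht
    obtain ⟨η, hη, v, hv, a, ha, rfl⟩ := hdecS t ht
    refine ⟨a, ha.1, ?_⟩
    have hz : ⁅v, η⁆ ∈ Om := hq2 v hv η (tw_le hη)
    have h3 : (η * v) ^ e = η ^ e * v ^ e * ⁅v, η⁆ ^ e.choose 2 :=
      mul_pow_central rfl (hOmS hz (tw_le hη)).symm (hOmS hz (c.VS hv)).symm e
    have hVp : ∀ u ∈ V, u ^ e = 1 := fun u hu => by
      obtain ⟨m, rfl⟩ := he
      rw [pow_mul, (Thompson.ea_iff.1 c.hV).2 u hu, one_pow]
    have hη1 : η ^ e = 1 := by
      obtain ⟨u, hu, rfl⟩ := mem_tw.1 hη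
      have : u ^ e = 1 := Subtype.ext (by rw [Subgroup.coe_pow]; exact hVp u hu)
      exact congrArg Subtype.val (show β u ^ e = 1 by rw [← map_pow, this, map_one])
    have hz1 : ⁅v, η⁆ ^ e.choose 2 = 1 := by
      obtain ⟨m, hm⟩ := he2
      rw [hm, pow_mul, (Thompson.ea_iff.1 c.hV).2 _ hz.1, one_pow]
    rw [((hab hη ha).symm.mul_left (hvb hv ha).symm).mul_pow, h3, hη1, hVp v hv, hz1]
    simp
  have hexp : ∀ (e : ℕ), p ∣ e → p ∣ e.choose 2 → Monoid.exponent ↥(S : Subgroup G) ∣ e := by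
    intro e he he2
    refine Monoid.exponent_dvd_iff_forall_pow_eq_one.2 fun t => ?_
    set T : Subgroup G := closure {y | ∃ q ∈ Q, q ^ e = y} with hT
    have hTQ : T ≤ Q := (closure_le _).2 fun y ⟨q, hq', hy⟩ => hy ▸ pow_mem hq' e
    have hTbot : T = ⊥ := by
      refine kill hd (hTQ.trans c.QS) (fun δ x hx => ?_) ?_
      · have hle : T ≤ ((T.subgroupOf (S : Subgroup G)).comap δ.toMonoidHom).map
            (S : Subgroup G).subtype := by
          refine (closure_le _).2 ?_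
          rintro _ ⟨q, hq', rfl⟩
          refine ⟨⟨q, c.QS hq'⟩ ^ e, ?_, rfl⟩
          show ((δ (⟨q, c.QS hq'⟩ ^ e) : ↥(S : Subgroup G)) : G) ∈ T
          rw [map_pow, Subgroup.coe_pow]
          obtain ⟨q2, hq2', e2⟩ := hpow e he he2 _ (δ ⟨q, c.QS hq'⟩).2
          rw [e2]
          exact subset_closure ⟨q2, hq2', rfl⟩
        obtain ⟨w, hw, ew⟩ := hle hx
        exact (Subtype.ext ew : w = x) ▸ hw
      · intro r _ u hu
        have hle : T ≤ T.comap (MulAut.conj r).toMonoidHom := by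
          refine (closure_le _).2 ?_
          rintro _ ⟨q, hq', rfl⟩
          refine subset_closure ⟨r * q * r⁻¹, hQn.conj_mem q hq' r, ?_⟩
          show _ = r * q ^ e * r⁻¹
          rw [conj_pow]
        exact hle hu
    obtain ⟨q, hq', e2⟩ := hpow e he he2 t t.2
    refine Subtype.ext ?_
    rw [Subgroup.coe_pow, e2, Subgroup.coe_one]
    have : q ^ e ∈ T := subset_closure ⟨q, hq', rfl⟩
    rwa [hTbot, mem_bot] at this
  have hne1 : Monoid.exponent ↥(S : Subgroup G) ≠ 1 := by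
    intro e
    haveI := Monoid.exp_eq_one_iff.1 e
    exact c.not_S_le_Q fun s hs => by
      have : (⟨s, hs⟩ : ↥(S : Subgroup G)) = 1 := Subsingleton.elim _ _
      rw [show s = 1 from congrArg Subtype.val this]
      exact one_mem _
  obtain ⟨hcV, hncV, hiV, -⟩ := c.chief_V hF hq hb hL
  refine ⟨h2bot, h1ne, ?_, ?_, V, V ⊓ center G, inf_le_left, c.VQ, hcV, hncV, hiV, ?_⟩
  · rintro rfl
    have h4 := hexp 4 ⟨2, rfl⟩ ⟨3, rfl⟩
    rcases (Nat.dvd_prime_pow Nat.prime_two).1 (show Monoid.exponent ↥(S : Subgroup G) ∣ 2 ^ 2 from h4)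
      with ⟨j, hj, hj'⟩
    rcases (show j = 0 ∨ j = 1 ∨ j = 2 by omega) with rfl | rfl | rfl
    · exact absurd hj' hne1
    · exfalso
      refine h1ne ?_
      rw [eq_bot_iff]
      show ⁅(S : Subgroup G), (S : Subgroup G)⁆ ≤ ⊥
      refine commutator_le.2 fun s hs t ht => ?_
      rw [mem_bot, commutatorElement_eq_one_iff_mul_comm]
      have hsq : ∀ u : ↥(S : Subgroup G), u * u = 1 := fun u => by
        have := Monoid.pow_exponent_eq_one u
        rw [hj'] at this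
        simpa [pow_two] using this
      have h5 : ∀ u : ↥(S : Subgroup G), u⁻¹ = u := fun u => inv_eq_of_mul_eq_one_right (hsq u)
      have h6 := h5 (⟨s, hs⟩ * ⟨t, ht⟩)
      rw [mul_inv_rev, h5, h5] at h6
      exact (congrArg Subtype.val h6).symm
    · exact hj'
  · intro hp2
    have hodd : p ∣ p.choose 2 :=
      (Fact.out : p.Prime).dvd_choose_self (by norm_num)
        (lt_of_le_of_ne (Fact.out : p.Prime).two_le (Ne.symm hp2))
    exact ((Nat.dvd_prime Fact.out).1 (hexp p dvd_rfl hodd)).resolve_left hne1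
  · haveI := c.hVn
    exact iter_le (S := S) c.QS (c.res_Q_le_V hb hL)

end Ctx

end Cfsg.Agent.PushUp
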