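import Cfsg.Agent.Thompson.Offender.Basic

/-!
# Partial isomorphisms along paths

A step conjugates into `S`, applies an automorphism of `S`, and conjugates out again.
-/

set_option autoImplicit false
set_option linter.unusedSectionVars false

namespace Cfsg.Agent.PushUp

variable {G : Type*} [Group G] {S : Subgroup G}

/-- A step. -/
structure Step (S : Subgroup G) where
  g : G
  β : MulAut ↥S
  h : G

/-- The partial map of a step. -/
def Step.Rel (s : Step S) (x y : G) : Prop :=
  ∃ t : ↥S, x = s.g * (t : G) * s.g⁻¹ ∧ y = s.h * ((s.β t : ↥S) : G) * s.h⁻¹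

/-- The opposite step. -/
def Step.rev (s : Step S) : Step S := ⟨s.h, s.β.symm, s.g⟩

/-- The composed partial map of a path. -/
def Link : List (Step S) → G → G → Prop
  | [], x, y => x = y
  | s :: L, x, y => ∃ m, s.Rel x m ∧ Link L m y

/-- The opposite path. -/
def revPath (L : List (Step S)) : List (Step S) := (L.map Step.rev).reverse

@[simp] theorem link_nil {x y : G} : Link ([] : List (Step S)) x y ↔ x = y := Iff.rfl

theorem link_cons {s : Step S} {L : List (Step S)} {x y : G} :
    Link (s :: L) x y ↔ ∃ m, s.Rel x m ∧ Link L m y := Iff.rfl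

theorem link_single {s : Step S} {x y : G} : Link [s] x y ↔ s.Rel x y := by
  simp [link_cons]

theorem link_append {L L' : List (Step S)} {x y : G} :
    Link (L ++ L') x y ↔ ∃ m, Link L x m ∧ Link L' m y := by
  induction L generalizing x with
  | nil => simp
  | cons s L ih =>
    simp only [List.cons_append, link_cons, ih]
    constructor
    · rintro ⟨m, hm, m', h1, h2⟩
      exact ⟨m', ⟨m, hm, h1⟩, h2⟩
    · rintro ⟨m', ⟨m, hm, h1⟩, h2⟩
      exact ⟨m, hm, m', h1, h2⟩

theorem Step.rev_rev (s : Step S) : s.rev.rev = s := rfl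

theorem Step.rel_rev {s : Step S} {x y : G} (h : s.Rel x y) : s.rev.Rel y x := by
  obtain ⟨t, h1, h2⟩ := h
  exact ⟨s.β t, h2, by
    rw [h1]
    show _ = s.g * ((s.β.symm (s.β t) : ↥S) : G) * s.g⁻¹
    rw [MulEquiv.symm_apply_apply]⟩

theorem revPath_revPath (L : List (Step S)) : revPath (revPath L) = L := by
  have : (Step.rev ∘ Step.rev : Step S → Step S) = id := funext fun s => s.rev_rev
  simp [revPath, List.map_reverse, List.map_map, this]

theorem revPath_length (L : List (Step S)) : (revPath L).length = L.length := by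
  simp [revPath]

theorem revPath_cons (s : Step S) (L : List (Step S)) : revPath (s :: L) = revPath L ++ [s.rev] := by
  simp [revPath]

theorem revPath_append (L L' : List (Step S)) : revPath (L ++ L') = revPath L' ++ revPath L := by
  simp [revPath]

theorem Link.rev {L : List (Step S)} {x y : G} (h : Link L x y) : Link (revPath L) y x := by
  induction L generalizing x with
  | nil => exact (link_nil.1 h).symm
  | cons s L ih =>
    obtain ⟨m, h1, h2⟩ := h
    rw [revPath_cons, link_append]
    exact ⟨m, ih h2, link_single.2 (Step.rel_rev h1)⟩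

theorem Link.of_rev {L : List (Step S)} {x y : G} (h : Link (revPath L) y x) : Link L x y := by
  have := h.rev
  rwa [revPath_revPath] at this

theorem Link.right_unique {L : List (Step S)} {x y y' : G} (h : Link L x y) (h' : Link L x y') :
    y = y' := by
  induction L generalizing x with
  | nil => exact (link_nil.1 h).symm.trans (link_nil.1 h')
  | cons s L ih =>
    obtain ⟨m, ⟨t, ht, rfl⟩, h2⟩ := h
    obtain ⟨m', ⟨t', ht', rfl⟩, h2'⟩ := h'
    obtain rfl : t = t' := Subtype.ext (mul_left_cancel (mul_right_cancel (ht ▸ ht')))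
    exact ih h2 h2'

theorem Link.left_unique {L : List (Step S)} {x x' y : G} (h : Link L x y) (h' : Link L x' y) :
    x = x' :=
  h.rev.right_unique h'.rev

theorem link_one (L : List (Step S)) : Link L 1 1 := by
  induction L with
  | nil => rfl
  | cons s L ih => exact ⟨1, ⟨1, by simp, by simp⟩, ih⟩

theorem Link.mul {L : List (Step S)} {x y x' y' : G} (h : Link L x y) (h' : Link L x' y') :
    Link L (x * x') (y * y') := by
  induction L generalizing x x' with
  | nil => rw [link_nil] at *; rw [h, h']
  | cons s L ih =>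
    obtain ⟨m, ⟨t, rfl, rfl⟩, h2⟩ := h
    obtain ⟨m', ⟨t', rfl, rfl⟩, h2'⟩ := h'
    refine ⟨_, ⟨t * t', ?_, rfl⟩, ?_⟩
    · simp [mul_assoc]
    · convert ih h2 h2' using 1
      simp [mul_assoc]

theorem Link.inv {L : List (Step S)} {x y : G} (h : Link L x y) : Link L x⁻¹ y⁻¹ := by
  induction L generalizing x with
  | nil => rw [link_nil] at *; rw [h]
  | cons s L ih =>
    obtain ⟨m, ⟨t, rfl, rfl⟩, h2⟩ := h
    refine ⟨_, ⟨t⁻¹, ?_, rfl⟩, ?_⟩
    · simp [mul_assoc]
    · convert ih h2 using 1
      simp [mul_assoc]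

theorem Link.comm {L : List (Step S)} {x y x' y' : G} (h : Link L x y) (h' : Link L x' y') :
    Link L (x * x' * x⁻¹ * x'⁻¹) (y * y' * y⁻¹ * y'⁻¹) :=
  ((h.mul h').mul h.inv).mul h'.inv

theorem Link.commute {L : List (Step S)} {x y x' y' : G} (h : Link L x y) (h' : Link L x' y')
    (hc : Commute x x') : Commute y y' := by
  have h1 : x * x' * x⁻¹ * x'⁻¹ = 1 := by rw [hc.eq]; group
  have h2 := h.comm h'
  rw [h1] at h2
  have h3 : y * y' * y⁻¹ * y'⁻¹ = 1 := h2.right_unique (link_one L)
  exact mul_inv_eq_one.1 (by rwa [mul_inv_rev, ← mul_assoc])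

theorem Link.commute_left {L : List (Step S)} {x y x' y' : G} (h : Link L x y) (h' : Link L x' y')
    (hc : Commute y y') : Commute x x' :=
  h.rev.commute h'.rev hc

theorem link_mem_last {L : List (Step S)} {s : Step S} {x y : G} (h : Link (L ++ [s]) x y) :
    y ∈ Offender.cj s.h S := by
  obtain ⟨m, -, hm⟩ := link_append.1 h
  obtain ⟨t, -, rfl⟩ := link_single.1 hm
  exact Offender.mem_cj.2 (by simp [mul_assoc])

theorem link_mem_first {L : List (Step S)} {s : Step S} {x y : G} (h : Link (s :: L) x y) :
    x ∈ Offender.cj s.g S := by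
  obtain ⟨m, ⟨t, rfl, -⟩, -⟩ := h
  exact Offender.mem_cj.2 (by simp [mul_assoc])

/-- A step applies to every element of the first Sylow subgroup. -/
theorem Step.exists_rel (s : Step S) {x : G} (hx : x ∈ Offender.cj s.g S) : ∃ y, s.Rel x y :=
  ⟨_, ⟨_, Offender.mem_cj.1 hx⟩, by simp [mul_assoc], rfl⟩

end Cfsg.Agent.PushUp
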