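import Cfsg.Agent.PushUp.Base
import Cfsg.Agent.PushUp.Link

/-!
# Critical paths
-/

set_option autoImplicit false
set_option linter.unusedSectionVars false

namespace Cfsg.Agent.PushUp

open Subgroup Cfsg.Agent.PushRankOne
open Cfsg.Agent.Offender (cj mem_cj)

variable {G : Type*} [Group G] [Finite G] {p : ℕ} [Fact p.Prime]
  {S : Sylow p G} {M K V : Subgroup G}

/-- All paths shorter than `b` keep `V` inside `O_p(G)`. -/
def Short (p : ℕ) (S : Subgroup G) (V : Subgroup G) (b : ℕ) : Prop :=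
  ∀ L : List (Step S), L.length < b → ∀ v ∈ V, ∀ y, Link L v y → y ∈ Cfsg.pCore p G

/-- A path of length `b` moving `V` outside `O_p(G)`. -/
def Crit (p : ℕ) {S : Subgroup G} (V : Subgroup G) (b : ℕ) (L : List (Step S)) : Prop :=
  L.length = b ∧ ∃ v ∈ V, ∃ y, Link L v y ∧ y ∉ Cfsg.pCore p G

/-- The image of `V` along a path. -/
def img {S : Subgroup G} (V : Subgroup G) (L : List (Step S)) : Subgroup G where
  carrier := {y | ∃ v ∈ V, Link L v y}
  one_mem' := ⟨1, one_mem _, link_one L⟩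
  mul_mem' := by
    rintro a b ⟨v, hv, h⟩ ⟨w, hw, h'⟩
    exact ⟨v * w, mul_mem hv hw, h.mul h'⟩
  inv_mem' := by
    rintro a ⟨v, hv, h⟩
    exact ⟨v⁻¹, inv_mem hv, h.inv⟩

theorem mem_img {S : Subgroup G} {L : List (Step S)} {y : G} :
    y ∈ img V L ↔ ∃ v ∈ V, Link L v y := Iff.rfl

/-- The image of `V` under an automorphism of `S`. -/
def tw {S : Subgroup G} (V : Subgroup G) (β : MulAut ↥S) : Subgroup G :=
  ((V.subgroupOf S).map β.toMonoidHom).map S.subtype

theorem mem_tw {S : Subgroup G} {β : MulAut ↥S} {x : G} :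
    x ∈ tw V β ↔ ∃ t : ↥S, (t : G) ∈ V ∧ ((β t : ↥S) : G) = x := by
  constructor
  · rintro ⟨_, ⟨t, ht, rfl⟩, rfl⟩
    exact ⟨t, ht, rfl⟩
  · rintro ⟨t, ht, rfl⟩
    exact ⟨_, ⟨t, ht, rfl⟩, rfl⟩

theorem tw_le {S : Subgroup G} {β : MulAut ↥S} : tw V β ≤ S := map_subtype_le _

theorem tw_conj {S : Subgroup G} [hV : V.Normal] {β : MulAut ↥S} {x s : G} (hx : x ∈ tw V β)
    (hs : s ∈ S) : s * x * s⁻¹ ∈ tw V β := by
  obtain ⟨t, ht, rfl⟩ := mem_tw.1 hx
  refine mem_tw.2 ⟨β.symm ⟨s, hs⟩ * t * (β.symm ⟨s, hs⟩)⁻¹, hV.conj_mem _ ht _, ?_⟩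
  rw [map_mul, map_mul, map_inv, MulEquiv.apply_symm_apply]
  rfl

/-- `V` and its image under `β` generate a normal subgroup. -/
def Nrm {S : Subgroup G} (V : Subgroup G) (β : MulAut ↥S) : Prop := (V ⊔ tw V β).Normal

namespace Ctx

variable (c : Ctx p S M K V)

include c

theorem exists_crit : ∃ b, Short p (S : Subgroup G) V b ∧ ∃ L : List (Step (S : Subgroup G)), Crit p V b L := by
  classical
  by_cases hex : ∃ n, ∃ L : List (Step (S : Subgroup G)), Crit p V n L
  · refine ⟨Nat.find hex, fun L hL v hv y hy => by_contra fun hQ => ?_, Nat.find_spec hex⟩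
    exact Nat.find_min hex hL ⟨L, rfl, v, hv, y, hy, hQ⟩
  · exfalso
    push Not at hex
    have hin : ∀ L : List (Step (S : Subgroup G)), ∀ v ∈ V, ∀ y, Link L v y → y ∈ Cfsg.pCore p G :=
      fun L v hv y hy => by_contra fun hQ => hex L.length L ⟨rfl, v, hv, y, hy, hQ⟩
    let T : Subgroup G := closure {y | ∃ L : List (Step (S : Subgroup G)), ∃ v ∈ V, Link L v y}
    have hstep : ∀ (g : G) (β : MulAut ↥(S : Subgroup G)) (y : G),
        y ∈ {y | ∃ L : List (Step (S : Subgroup G)), ∃ v ∈ V, Link L v y} → ∀ t : ↥(S : Subgroup G),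
          (t : G) = y → g * ((β t : ↥(S : Subgroup G)) : G) * g⁻¹ ∈ T := by
      rintro g β y ⟨L, v, hv, hy⟩ t ht
      refine subset_closure ⟨L ++ [⟨1, β, g⟩], v, hv, link_append.2 ⟨y, hy, link_single.2 ⟨t, ?_, rfl⟩⟩⟩
      simp [ht]
    have hTQ : T ≤ Cfsg.pCore p G := (closure_le _).2 fun y ⟨L, v, hv, hy⟩ => hin L v hv y hy
    have hTn : T.Normal := by
      refine ⟨fun x hx g => ?_⟩
      have : T ≤ T.comap (MulAut.conj g).toMonoidHom := (closure_le _).2 fun y hy => by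
        have hys : y ∈ (S : Subgroup G) := c.QS (hTQ (subset_closure hy))
        simpa using hstep g 1 y hy ⟨y, hys⟩ rfl
      exact this hx
    refine c.hclos T hTn hTQ (fun v hv => subset_closure ⟨[], v, hv, rfl⟩) fun β x hx => ?_
    have : T.subgroupOf (S : Subgroup G) ≤ (T.subgroupOf (S : Subgroup G)).comap β.toMonoidHom := by
      refine fun z hz => ?_
      have h1 : T ≤ ((T.subgroupOf (S : Subgroup G)).comap β.toMonoidHom).map (S : Subgroup G).subtype := by
        refine (closure_le _).2 fun y hy => ?_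
        have hys : y ∈ (S : Subgroup G) := c.QS (hTQ (subset_closure hy))
        refine ⟨⟨y, hys⟩, ?_, rfl⟩
        show ((β ⟨y, hys⟩ : ↥(S : Subgroup G)) : G) ∈ T
        simpa using hstep 1 β y hy ⟨y, hys⟩ rfl
      obtain ⟨w, hw, e⟩ := h1 hz
      exact (Subtype.ext e : w = z) ▸ hw
    exact this (show x ∈ T.subgroupOf (S : Subgroup G) from hx)

variable {b : ℕ} (hb : Short p (S : Subgroup G) V b)

include hb

theorem link_exists {L : List (Step (S : Subgroup G))} (hL : L.length ≤ b) {v : G} (hv : v ∈ V) :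
    ∃ y, Link L v y := by
  induction L using List.reverseRecOn with
  | nil => exact ⟨v, rfl⟩
  | append_singleton L s ih =>
    simp only [List.length_append, List.length_singleton] at hL
    obtain ⟨m, hm⟩ := ih (by omega)
    have hmQ := hb L (by omega) v hv m hm
    obtain ⟨y, hy⟩ := s.exists_rel (x := m) (mem_cj.2 (c.QS (by
      simpa using (inferInstance : (Cfsg.pCore p G).Normal).conj_mem m hmQ s.g⁻¹)))
    exact ⟨y, link_append.2 ⟨m, hm, link_single.2 hy⟩⟩

/-- Short images centralize `V`. -/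
theorem commute_short {L : List (Step (S : Subgroup G))} (hL : L.length < b) {v y w : G}
    (hv : v ∈ V) (hy : Link L v y) (hw : w ∈ V) : Commute y w :=
  c.Q_comm (hb L hL v hv y hy) hw

theorem crit_split {L : List (Step (S : Subgroup G))} (hL : Crit p V b L) :
    ∃ L' s, L = L' ++ [s] := by
  rcases List.eq_nil_or_concat L with rfl | ⟨L', s, rfl⟩
  · obtain ⟨-, v, hv, y, hy, hQ⟩ := hL
    exact absurd (link_nil.1 hy ▸ c.VQ hv) hQ
  · exact ⟨L', s, by simp⟩

theorem crit_witness {L : List (Step (S : Subgroup G))} {v y : G} (hL : L.length = b)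
    (hv : v ∈ V) (hy : Link L v y) (hQ : y ∉ Cfsg.pCore p G) :
    ∃ w ∈ V, ¬ Commute y w := by
  obtain ⟨L', s, rfl⟩ := c.crit_split hb ⟨hL, v, hv, y, hy, hQ⟩
  by_contra hcon
  push Not at hcon
  exact hQ (c.conjS_inf (link_mem_last hy) hcon)

theorem crit_rev {L : List (Step (S : Subgroup G))} (hL : Crit p V b L) : Crit p V b (revPath L) := by
  obtain ⟨hlen, v, hv, y, hy, hQ⟩ := hL
  obtain ⟨w, hw, hne⟩ := c.crit_witness hb hlen hv hy hQ
  obtain ⟨u, hu⟩ := c.link_exists hb (L := revPath L) (by rw [revPath_length]; omega) hw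
  exact ⟨(revPath_length L).trans hlen, w, hw, u, hu, fun huQ =>
    hne (hy.commute hu.of_rev (c.Q_comm huQ hv).symm)⟩

/-- Replacing the final conjugation. -/
theorem crit_retarget {L : List (Step (S : Subgroup G))} {g h h' : G}
    {β : MulAut ↥(S : Subgroup G)} (hL : Crit p V b (L ++ [⟨g, β, h⟩])) :
    Crit p V b (L ++ [⟨g, β, h'⟩]) := by
  obtain ⟨hlen, v, hv, y, hy, hQ⟩ := hL
  refine ⟨by simpa using hlen, v, hv, ?_⟩
  obtain ⟨m, hm, hs⟩ := link_append.1 hy
  obtain ⟨t, ht, rfl⟩ := link_single.1 hs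
  refine ⟨_, link_append.2 ⟨m, hm, link_single.2 ⟨t, ht, rfl⟩⟩, fun hq => hQ ?_⟩
  have := (inferInstance : (Cfsg.pCore p G).Normal).conj_mem _ hq (h * h'⁻¹)
  simpa [mul_assoc] using this

theorem card_img {L : List (Step (S : Subgroup G))} (hL : L.length ≤ b) :
    Nat.card (img V L) = Nat.card V := by
  choose f hf using fun v : ↥V => c.link_exists hb hL v.2
  refine (Nat.card_congr (Equiv.ofBijective
    (fun v : ↥V => (⟨f v, v, v.2, hf v⟩ : img V L)) ⟨fun v w e => ?_, fun y => ?_⟩)).symm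
  · have e' : f v = f w := congrArg Subtype.val e
    exact Subtype.ext ((hf v).left_unique (e' ▸ hf w))
  · obtain ⟨v, hv, hy⟩ := mem_img.1 y.2
    exact ⟨⟨v, hv⟩, Subtype.ext ((hf ⟨v, hv⟩).right_unique hy)⟩

theorem fix_le_rev {L : List (Step (S : Subgroup G))} (hL : Crit p V b L) :
    Nat.card (V ⊓ centralizer (img V L : Set G) : Subgroup G) ≤
        Nat.card (img V (revPath L) ⊓ Cfsg.pCore p G : Subgroup G) ∧
      Nat.card (img V L ⊓ Cfsg.pCore p G : Subgroup G) ≤
        Nat.card (V ⊓ centralizer (img V (revPath L) : Set G) : Subgroup G) := by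
  obtain ⟨L', s, hLe⟩ := c.crit_split hb (c.crit_rev hb hL)
  have hlen : L.length = b := hL.1
  constructor
  · choose f hf using fun v : (V ⊓ centralizer (img V L : Set G) : Subgroup G) =>
      c.link_exists hb (L := revPath L) (by rw [revPath_length]; omega) v.2.1
    refine Nat.card_le_card_of_injective
      (fun v => (⟨f v, ⟨v, v.2.1, hf v⟩, ?_⟩ : (img V (revPath L) ⊓ Cfsg.pCore p G : Subgroup G))) ?_
    · refine c.conjS_inf (k := s.h) (link_mem_last (hLe ▸ hf v)) fun w hw => ?_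
      obtain ⟨z, hz⟩ := c.link_exists hb (L := L) hlen.le hw
      exact (hf v).of_rev.commute_left hz (mem_centralizer_iff.1 v.2.2 z ⟨w, hw, hz⟩).symm
    · intro v w e
      exact Subtype.ext ((hf v).left_unique (by
        rw [show f v = f w from congrArg (fun z => ((z : (img V (revPath L) ⊓ Cfsg.pCore p G : Subgroup G)) : G)) e]
        exact hf w))
  · choose f hf1 hf using fun y : (img V L ⊓ Cfsg.pCore p G : Subgroup G) => mem_img.1 y.2.1
    refine Nat.card_le_card_of_injective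
      (fun y => (⟨f y, hf1 y, mem_centralizer_iff.2 fun u hu => ?_⟩ :
        (V ⊓ centralizer (img V (revPath L) : Set G) : Subgroup G))) ?_
    · obtain ⟨w, hw, hu'⟩ := mem_img.1 hu
      exact ((hf y).commute_left hu'.of_rev (c.Q_comm y.2.2 hw)).eq.symm
    · intro y z e
      exact Subtype.ext ((hf y).right_unique (by
        rw [show f y = f z from congrArg (fun t => ((t : (V ⊓ centralizer (img V (revPath L) : Set G) : Subgroup G)) : G)) e]
        exact hf z))

theorem offender_full {L : List (Step (S : Subgroup G))} (hL : Crit p V b L) {k : G}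
    (hk : img V L ≤ cj k (S : Subgroup G))
    (hbound : Nat.card (img V L ⊓ Cfsg.pCore p G : Subgroup G) ≤
      Nat.card (V ⊓ centralizer (img V L : Set G) : Subgroup G)) :
    (∀ t ∈ (S : Subgroup G), ∃ y ∈ img V L, y⁻¹ * (k * t * k⁻¹) ∈ Cfsg.pCore p G) ∧
      (V ⊓ centralizer (img V L : Set G) : Subgroup G) =
        cj k (V ⊓ centralizer ((S : Subgroup G) : Set G)) ∧
      Nat.card (img V L ⊓ Cfsg.pCore p G : Subgroup G) =
        Nat.card (V ⊓ centralizer (img V L : Set G) : Subgroup G) ∧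
      (∀ x : G, x ∉ M → ∀ v ∈ V, ∃ w ∈ V ⊓ centralizer ((S : Subgroup G) : Set G),
        ∃ w' ∈ V ⊓ centralizer ((S : Subgroup G) : Set G), w * (x * w' * x⁻¹) = v) ∧
      Nat.card V * Nat.card (Cfsg.pCore p G) =
        Nat.card (S : Subgroup G) * Nat.card (V ⊓ centralizer ((S : Subgroup G) : Set G) : Subgroup G) := by
  haveI := c.hVn
  obtain ⟨z, hzV, hzS, hzG⟩ := c.hz
  have hg : Ground p S V z := ⟨c.hVn, c.hV, c.hQ, hzV, hzS, hzG⟩
  set A := cj k⁻¹ (img V L) with hA
  have hAS : A ≤ (S : Subgroup G) := fun a ha => by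
    have := mem_cj.1 (hk (mem_cj.1 ha))
    simpa [mul_assoc] using this
  have hQn : ∀ g : G, cj g (Cfsg.pCore p G) = Cfsg.pCore p G := fun g =>
    Offender.cj_eq_self (by rw [normalizer_eq_top]; exact mem_top _)
  have hAinf : Nat.card (A ⊓ Cfsg.pCore p G : Subgroup G) =
      Nat.card (img V L ⊓ Cfsg.pCore p G : Subgroup G) := by
    conv_lhs => rw [← hQn k⁻¹]
    rw [hA, ← map_inf _ _ _ (MulAut.conj k⁻¹).injective]
    exact Offender.card_cj _ _
  have hfix : V ⊓ centralizer (A : Set G) = cj k⁻¹ (V ⊓ centralizer (img V L : Set G)) :=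
    (Offender.cj_fix (by rw [normalizer_eq_top]; exact mem_top _) _).symm
  obtain ⟨hlen, v, hv, y, hy, hQ⟩ := hL
  have hAQ : ¬ A ≤ Cfsg.pCore p G := fun hle => hQ (by
    have h1 : k⁻¹ * y * k ∈ A := mem_cj.2 (by simpa [mul_assoc] using (show y ∈ img V L from ⟨v, hv, hy⟩))
    have := (inferInstance : (Cfsg.pCore p G).Normal).conj_mem _ (hle h1) k
    simpa [mul_assoc] using this)
  have hbd : Nat.card V * Nat.card (A ⊓ Cfsg.pCore p G : Subgroup G) ≤
      Nat.card A * Nat.card (V ⊓ centralizer (A : Set G) : Subgroup G) := by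
    rw [hAinf, hfix, Offender.card_cj, Offender.card_cj, c.card_img hb (by omega)]
    exact Nat.mul_le_mul_left _ hbound
  obtain ⟨hcov, hWS, hcard, hdec⟩ := hg.full c.st.toSetup₀ A hAS hAQ hbd
  have heq : Nat.card (img V L ⊓ Cfsg.pCore p G : Subgroup G) =
      Nat.card (V ⊓ centralizer (img V L : Set G) : Subgroup G) := by
    rw [hAinf, hfix, Offender.card_cj, Offender.card_cj, c.card_img hb (by omega)] at hcard
    exact Nat.eq_of_mul_eq_mul_left Nat.card_pos hcard
  refine ⟨fun t ht => ?_, ?_, heq, fun x hx v hv => ?_, ?_⟩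
  · obtain ⟨a, ha, hq⟩ := hcov t ht
    refine ⟨k * a * k⁻¹, ?_, ?_⟩
    · simpa using mem_cj.1 ha
    · have := (inferInstance : (Cfsg.pCore p G).Normal).conj_mem _ hq k
      simpa [mul_assoc] using this
  · rw [← hWS, hfix, Offender.cj_cj, mul_inv_cancel, Offender.cj_one]
  · rw [← hWS]
    exact (hdec x hx).1 v hv
  · -- `|S : Q| = |A : A ∩ Q|`
    let f : ↥A → (↥(S : Subgroup G) ⧸ (Cfsg.pCore p G).subgroupOf (S : Subgroup G)) :=
      fun a => QuotientGroup.mk (⟨a, hAS a.2⟩ : ↥(S : Subgroup G))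
    let φ : ↥A →* (↥(S : Subgroup G) ⧸ (Cfsg.pCore p G).subgroupOf (S : Subgroup G)) :=
      (QuotientGroup.mk' _).comp (Subgroup.inclusion hAS)
    have hsurj : Function.Surjective φ := fun q => by
      obtain ⟨t, rfl⟩ := QuotientGroup.mk'_surjective _ q
      obtain ⟨a, ha, hq⟩ := hcov t t.2
      exact ⟨⟨a, ha⟩, QuotientGroup.eq.2 hq⟩
    have hker : φ.ker = (A ⊓ Cfsg.pCore p G).subgroupOf A := by
      ext a
      rw [MonoidHom.mem_ker]
      show QuotientGroup.mk _ = 1 ↔ _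
      rw [QuotientGroup.eq_one_iff]
      exact ⟨fun h => ⟨a.2, h⟩, fun h => h.2⟩
    have e1 := Subgroup.card_eq_card_quotient_mul_card_subgroup φ.ker
    rw [Nat.card_congr (QuotientGroup.quotientKerEquivOfSurjective φ hsurj).toEquiv, hker,
      Nat.card_congr (subgroupOfEquivOfLe inf_le_left).toEquiv] at e1
    have e2 := Subgroup.card_eq_card_quotient_mul_card_subgroup
      ((Cfsg.pCore p G).subgroupOf (S : Subgroup G))
    rw [Nat.card_congr (subgroupOfEquivOfLe c.QS).toEquiv] at e2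
    rw [hWS] at hcard
    refine Nat.eq_of_mul_eq_mul_right (Nat.card_pos (α := (A ⊓ Cfsg.pCore p G : Subgroup G))) ?_
    calc Nat.card V * Nat.card (Cfsg.pCore p G) * Nat.card (A ⊓ Cfsg.pCore p G : Subgroup G)
        = Nat.card V * Nat.card (A ⊓ Cfsg.pCore p G : Subgroup G) * Nat.card (Cfsg.pCore p G) := by ring
      _ = _ := by rw [hcard, e1, e2]; ring

theorem offender_bound {L : List (Step (S : Subgroup G))} (hL : Crit p V b L) :
    Nat.card (img V L ⊓ Cfsg.pCore p G : Subgroup G) ≤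
      Nat.card (V ⊓ centralizer (img V L : Set G) : Subgroup G) := by
  by_contra hlt
  push Not at hlt
  obtain ⟨h1, h2⟩ := c.fix_le_rev hb hL
  obtain ⟨h3, h4⟩ := c.fix_le_rev hb (c.crit_rev hb hL)
  rw [revPath_revPath] at h3 h4
  obtain ⟨L', s, hLe⟩ := c.crit_split hb (c.crit_rev hb hL)
  have := (c.offender_full hb (c.crit_rev hb hL) (k := s.h) (fun y hy => by
    obtain ⟨v, -, hy⟩ := mem_img.1 hy
    exact link_mem_last (hLe ▸ hy)) (by omega)).2.2.1
  omega

theorem cover {L : List (Step (S : Subgroup G))} {s : Step (S : Subgroup G)}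
    (hL : Crit p V b (L ++ [s])) {t : G} (ht : t ∈ (S : Subgroup G)) :
    ∃ y ∈ img V (L ++ [s]), y⁻¹ * (s.h * t * s.h⁻¹) ∈ Cfsg.pCore p G :=
  (c.offender_full hb hL (k := s.h) (fun y hy => by
    obtain ⟨v, -, hy⟩ := mem_img.1 hy
    exact link_mem_last hy) (c.offender_bound hb hL)).1 t ht

/-- `[V, S]` is fixed by `S`. -/
theorem quad {L : List (Step (S : Subgroup G))} (hL : Crit p V b L) {v t : G} (hv : v ∈ V)
    (ht : t ∈ (S : Subgroup G)) :
    v * t * v⁻¹ * t⁻¹ ∈ V ⊓ centralizer ((S : Subgroup G) : Set G) := by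
  obtain ⟨L', s, rfl⟩ := c.crit_split hb hL
  obtain ⟨g, β, h⟩ := s
  have hL1 : Crit p V b (L' ++ [⟨g, β, 1⟩]) := c.crit_retarget hb hL
  set L1 : List (Step (S : Subgroup G)) := L' ++ [⟨g, β, 1⟩] with hL1def
  have hk : img V L1 ≤ cj 1 (S : Subgroup G) := fun y hy => by
    obtain ⟨v, -, hy⟩ := mem_img.1 hy
    exact link_mem_last hy
  obtain ⟨hcov, hfix, -⟩ := c.offender_full hb hL1 hk (c.offender_bound hb hL1)
  rw [Offender.cj_one] at hfix
  rw [← hfix]
  obtain ⟨y, hy, hq⟩ := hcov t ht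
  simp only [one_mul, inv_one, mul_one] at hq
  obtain ⟨w, hw, hyw⟩ := mem_img.1 hy
  obtain ⟨x, hx⟩ := c.link_exists hb (L := revPath L1) (by rw [revPath_length, hL1.1]) hv
  -- `[v, t] = [v, y]` and this lies in the image
  have e : v * t * v⁻¹ * t⁻¹ = v * y * v⁻¹ * y⁻¹ := by
    have hc := (c.Q_comm hq (inv_mem hv)).eq
    calc v * t * v⁻¹ * t⁻¹ = v * y * ((y⁻¹ * t) * v⁻¹) * t⁻¹ := by group
      _ = v * y * (v⁻¹ * (y⁻¹ * t)) * t⁻¹ := by rw [hc]
      _ = _ := by group
  rw [e]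
  have hmem : v * y * v⁻¹ * y⁻¹ ∈ img V L1 := by
    refine ⟨x * w * x⁻¹ * w⁻¹, mul_mem (c.hVn.conj_mem w hw x) (inv_mem hw), ?_⟩
    exact hx.of_rev.comm hyw
  refine ⟨?_, mem_centralizer_iff.2 fun u hu => ?_⟩
  · rw [show v * y * v⁻¹ * y⁻¹ = v * (y * v⁻¹ * y⁻¹) by group]
    exact V.mul_mem hv (c.hVn.conj_mem _ (inv_mem hv) y)
  · obtain ⟨a, ha, hua⟩ := mem_img.1 hu
    obtain ⟨a', ha', hwa⟩ := mem_img.1 hmem
    exact (hua.commute hwa (mem_centralizer_iff.1 ((Thompson.ea_iff.1 c.hV).1 ha') a ha)).eq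

end Ctx

end Cfsg.Agent.PushUp
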