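import Mathlib

/-!
# A biadditive alternating map invariant under squares vanishes
-/

set_option autoImplicit false

namespace Cfsg.Agent.PushUp

open Polynomial

variable {F A : Type*} [Field F] [Fintype F] [Group A] {p : ℕ}

theorem biadd_eq_one [hp : Fact p.Prime] (h5 : 5 ≤ p) {n : ℕ} (hF : Fintype.card F = p ^ n)
    (B : F → F → A) (hl : ∀ x x' y, B (x + x') y = B x y * B x' y)
    (hr : ∀ x y y', B x (y + y') = B x y * B x y') (halt : ∀ x, B x x = 1)
    (hinv : ∀ m x y : F, m ≠ 0 → B (m ^ 2 * x) (m ^ 2 * y) = B x y) (x y : F) : B x y = 1 := by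
  classical
  haveI : CharP F p := charP_of_card_eq_prime_pow hF
  have hn : 1 ≤ n := by
    rcases Nat.eq_zero_or_pos n with rfl | h
    · exact absurd hF (Fintype.one_lt_card (α := F)).ne'
    · exact h
  have hl0 : ∀ w, B 0 w = 1 := fun w => by
    have := hl 0 0 w
    rw [add_zero] at this
    simpa using this
  have hr0 : ∀ u, B u 0 = 1 := fun u => by
    have := hr u 0 0
    rw [add_zero] at this
    simpa using this
  rcases (show n = 1 ∨ 2 ≤ n by omega) with rfl | h2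
  · have hsurj : ∀ z : F, ∃ k : ℕ, (k : F) = z := fun z => by
      have hinj : Function.Injective (fun k : Fin p => ((k : ℕ) : F)) := fun i j hij =>
        Fin.ext (Nat.ModEq.eq_of_lt_of_lt ((CharP.natCast_eq_natCast F p).1 hij) i.2 j.2)
      obtain ⟨k, hk⟩ := ((Fintype.bijective_iff_injective_and_card _).2
        ⟨hinj, by rw [Fintype.card_fin, hF, pow_one]⟩).2 z
      exact ⟨k, hk⟩
    have hk1 : ∀ (k : ℕ) (w : F), B (k : F) w = B 1 w ^ k := fun k w => by
      induction k with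
      | zero => simp [hl0]
      | succ k ih => rw [Nat.cast_succ, hl, ih, pow_succ]
    have hk2 : ∀ (k : ℕ) (u : F), B u (k : F) = B u 1 ^ k := fun k u => by
      induction k with
      | zero => simp [hr0]
      | succ k ih => rw [Nat.cast_succ, hr, ih, pow_succ]
    obtain ⟨i, rfl⟩ := hsurj x
    obtain ⟨j, rfl⟩ := hsurj y
    rw [hk1, hk2, halt, one_pow, one_pow]
  -- squares `a + b = c` with `a² + ab + b² ≠ 0`
  have hcard : 25 ≤ Fintype.card F := by
    rw [hF]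
    exact le_trans (by norm_num) ((Nat.pow_le_pow_left h5 2).trans
      (Nat.pow_le_pow_right (by omega) h2))
  set P : F[X] := X * (X ^ 4 - 1) *
    (((X ^ 2 - 1) ^ 2) ^ 2 + (X ^ 2 - 1) ^ 2 * (2 * X) ^ 2 + ((2 * X) ^ 2) ^ 2) with hP
  have hdeg : P.natDegree ≤ 13 := by
    rw [hP]; compute_degree
  have hP0 : P ≠ 0 := by
    refine mul_ne_zero (mul_ne_zero X_ne_zero fun h => ?_) fun h => ?_
    · simpa using congrArg (eval 0) h
    · simpa using congrArg (eval 0) h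
  obtain ⟨z, hz⟩ : ∃ z : F, P.eval z ≠ 0 := by
    by_contra hcon
    push Not at hcon
    have := card_le_degree_of_subset_roots (Z := (Finset.univ : Finset F)) (p := P)
      (fun w _ => (mem_roots hP0).2 (hcon w))
    rw [Finset.card_univ] at this
    omega
  simp only [hP, eval_mul, eval_X, eval_sub, eval_pow, eval_one, eval_add, eval_ofNat,
    mul_ne_zero_iff] at hz
  obtain ⟨⟨hz0, hz4⟩, hzc⟩ := hz
  set a := (z ^ 2 - 1) ^ 2 with ha
  set b := (2 * z) ^ 2 with hb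
  set c := (z ^ 2 + 1) ^ 2 with hc
  have habc : a + b = c := by rw [ha, hb, hc]; ring
  have h20 : (2 : F) ≠ 0 := by
    intro h
    have : ((2 : ℕ) : F) = 0 := by exact_mod_cast h
    rw [CharP.cast_eq_zero_iff F p] at this
    exact absurd (Nat.le_of_dvd (by norm_num) this) (by omega)
  have ha0 : z ^ 2 - 1 ≠ 0 := fun h => hz4 (by
    rw [show z ^ 4 - 1 = (z ^ 2 - 1) * (z ^ 2 + 1) by ring, h, zero_mul])
  have hc0 : z ^ 2 + 1 ≠ 0 := fun h => hz4 (by
    rw [show z ^ 4 - 1 = (z ^ 2 - 1) * (z ^ 2 + 1) by ring, h, mul_zero])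
  have hb0 : 2 * z ≠ 0 := mul_ne_zero h20 hz0
  have hsq : ∀ m u w : F, m ≠ 0 → B (m ^ 2 * u) w = B u ((m ^ 2)⁻¹ * w) := fun m u w hm => by
    conv_lhs => rw [← mul_inv_cancel_left₀ (pow_ne_zero 2 hm) w]
    exact hinv m u _ hm
  have key : ∀ u w : F, B u ((a⁻¹ + b⁻¹ - c⁻¹) * w) = 1 := by
    intro u w
    have h1 : B u (c⁻¹ * w) = B u ((a⁻¹ + b⁻¹) * w) := by
      rw [← hsq _ u w hc0, add_mul, hr, ← hsq _ u w ha0, ← hsq _ u w hb0, ← hl, ← add_mul]
      exact congrArg (fun t => B (t * u) w) habc.symm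
    have h3 := hr u ((a⁻¹ + b⁻¹ - c⁻¹) * w) (c⁻¹ * w)
    rw [← add_mul, sub_add_cancel, h1] at h3
    exact right_eq_mul.1 h3
  have hk0 : a⁻¹ + b⁻¹ - c⁻¹ ≠ 0 := by
    rw [← habc]
    have hab : a + b ≠ 0 := habc ▸ pow_ne_zero 2 hc0
    have : a⁻¹ + b⁻¹ - (a + b)⁻¹ = (a ^ 2 + a * b + b ^ 2) / (a * b * (a + b)) := by
      have h1 : a ≠ 0 := pow_ne_zero 2 ha0
      have h2 : b ≠ 0 := pow_ne_zero 2 hb0
      field_simp
      ring
    rw [this]
    exact div_ne_zero hzc (mul_ne_zero (mul_ne_zero (pow_ne_zero 2 ha0) (pow_ne_zero 2 hb0)) hab)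
  have := key x ((a⁻¹ + b⁻¹ - c⁻¹)⁻¹ * y)
  rwa [mul_inv_cancel_left₀ hk0] at this

end Cfsg.Agent.PushUp
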