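import Cfsg.Agent.PushUp.Crit
import Cfsg.Agent.Core.Basics

/-!
# Images of subgroups of `S` under automorphisms of `S`, and chief factors
-/

set_option autoImplicit false
set_option linter.unusedSectionVars false

namespace Cfsg.Agent.PushUp

open Subgroup
open scoped commutatorElement

variable {G : Type*} [Group G] [Finite G] {S : Subgroup G}

theorem tw_mono {A B : Subgroup G} (h : A ≤ B) (β : MulAut ↥S) : tw A β ≤ tw B β := fun x hx => by
  obtain ⟨t, ht, rfl⟩ := mem_tw.1 hx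
  exact mem_tw.2 ⟨t, h ht, rfl⟩

theorem card_tw {A : Subgroup G} (h : A ≤ S) (β : MulAut ↥S) :
    Nat.card (tw A β) = Nat.card A := by
  rw [tw, card_map_of_injective S.subtype_injective, card_map_of_injective (f := β.toMonoidHom)
    β.injective, Nat.card_congr (subgroupOfEquivOfLe h).toEquiv]

theorem mem_tw_of_mem {A : Subgroup G} {β : MulAut ↥S} {t : ↥S} (h : (t : G) ∈ A) :
    ((β t : ↥S) : G) ∈ tw A β := mem_tw.2 ⟨t, h, rfl⟩

theorem tw_commutator {A B : Subgroup G} (hA : A ≤ S) (hB : B ≤ S) (β : MulAut ↥S) :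
    ⁅tw A β, tw B β⁆ ≤ tw ⁅A, B⁆ β := by
  refine commutator_le.2 fun x hx y hy => ?_
  obtain ⟨a, ha, rfl⟩ := mem_tw.1 hx
  obtain ⟨b, hb, rfl⟩ := mem_tw.1 hy
  refine mem_tw.2 ⟨⁅a, b⁆, ?_, ?_⟩
  · have : ((⁅a, b⁆ : ↥S) : G) = ⁅(a : G), (b : G)⁆ := map_commutatorElement S.subtype a b
    exact this ▸ commutator_mem_commutator ha hb
  · rw [map_commutatorElement]
    exact map_commutatorElement S.subtype _ _

theorem mem_tw_of_eq {A : Subgroup G} {β : MulAut ↥S} (h : tw A β = A) {t : ↥S} :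
    ((β t : ↥S) : G) ∈ A ↔ (t : G) ∈ A := by
  refine ⟨fun ht => ?_, fun ht => h ▸ mem_tw_of_mem ht⟩
  rw [← h] at ht
  obtain ⟨u, hu, e⟩ := mem_tw.1 ht
  exact (β.injective (Subtype.ext e) : u = t) ▸ hu

/-- The centralizer of a normal section. -/
def cent (U W : Subgroup G) [U.Normal] [hW : W.Normal] : Subgroup G where
  carrier := {g | ∀ u ∈ U, ⁅g, u⁆ ∈ W}
  one_mem' := fun u _ => by simp
  mul_mem' := fun {a b} ha hb u hu => by
    have e : ⁅a * b, u⁆ = a * ⁅b, u⁆ * a⁻¹ * ⁅a, u⁆ := by simp only [commutatorElement_def]; group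
    rw [e]
    exact mul_mem (hW.conj_mem _ (hb u hu) a) (ha u hu)
  inv_mem' := fun {a} ha u hu => by
    have e : ⁅a⁻¹, u⁆ = a⁻¹ * ⁅a, u⁆⁻¹ * a⁻¹⁻¹ := by simp only [commutatorElement_def]; group
    rw [e]
    exact hW.conj_mem _ (inv_mem (ha u hu)) a⁻¹

theorem mem_cent {U W : Subgroup G} [U.Normal] [W.Normal] {g : G} :
    g ∈ cent U W ↔ ∀ u ∈ U, ⁅g, u⁆ ∈ W := Iff.rfl

instance cent_normal {U W : Subgroup G} [hU : U.Normal] [hW : W.Normal] : (cent U W).Normal :=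
  ⟨fun g hg h u hu => by
    have h1 := hW.conj_mem _ (hg (h⁻¹ * u * h) (by simpa using hU.conj_mem u hu h⁻¹)) h
    have e : h * ⁅g, h⁻¹ * u * h⁆ * h⁻¹ = ⁅h * g * h⁻¹, u⁆ := by
      simp only [commutatorElement_def]; group
    rwa [e] at h1⟩

theorem commutator_le_of_cent {U W : Subgroup G} [U.Normal] [W.Normal] (h : cent U W = ⊤) :
    ⁅U, (⊤ : Subgroup G)⁆ ≤ W :=
  commutator_le.2 fun u hu g _ => by
    have := (mem_cent.1 (h.ge (mem_top g))) u hu
    rw [← commutatorElement_inv]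
    exact inv_mem this

theorem cent_ne_top {U W : Subgroup G} [U.Normal] [W.Normal]
    (h : ¬ ⁅U, (⊤ : Subgroup G)⁆ ≤ W) : cent U W ≠ ⊤ := fun e => h (commutator_le_of_cent e)

/-- The points of `U` fixed by `S` modulo `W`. -/
def fix (S U W : Subgroup G) [hW : W.Normal] : Subgroup G where
  carrier := {u | u ∈ U ∧ ∀ s ∈ S, ⁅s, u⁆ ∈ W}
  one_mem' := ⟨one_mem _, fun s _ => by simp⟩
  mul_mem' := fun {a b} ha hb => ⟨mul_mem ha.1 hb.1, fun s hs => by
    have e : ⁅s, a * b⁆ = ⁅s, a⁆ * (a * ⁅s, b⁆ * a⁻¹) := by simp only [commutatorElement_def]; group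
    rw [e]
    exact mul_mem (ha.2 s hs) (hW.conj_mem _ (hb.2 s hs) a)⟩
  inv_mem' := fun {a} ha => ⟨inv_mem ha.1, fun s hs => by
    have e : ⁅s, a⁻¹⁆ = a⁻¹ * ⁅s, a⁆⁻¹ * a⁻¹⁻¹ := by simp only [commutatorElement_def]; group
    rw [e]
    exact hW.conj_mem _ (inv_mem (ha.2 s hs)) a⁻¹⟩

theorem mem_fix {U W : Subgroup G} [W.Normal] {u : G} :
    u ∈ fix S U W ↔ u ∈ U ∧ ∀ s ∈ S, ⁅s, u⁆ ∈ W := Iff.rfl

theorem chief_cases {U W : Subgroup G} (hc : Cfsg.IsChiefFactor U W) (N : Subgroup G) [N.Normal] :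
    U ⊓ N ≤ W ∨ (U ⊓ N) ⊔ W = U := by
  haveI := hc.2.1
  haveI := hc.2.2.1
  rcases hc.2.2.2 ((U ⊓ N) ⊔ W) inferInstance le_sup_right (sup_le inf_le_left hc.1.le) with h | h
  · exact Or.inl (le_sup_left.trans h.le)
  · exact Or.inr h


/-- A bound on the index of fixed points, inherited by a section of a normal subgroup. -/
theorem fix_bound {U W N F₀ : Subgroup G} [U.Normal] [W.Normal] [N.Normal] {a b : ℕ}
    (hUN : (U ⊓ N) ⊔ W = U) (hFN : F₀ ≤ N) (hF : ∀ u ∈ U ⊓ F₀, u ∈ fix S U W)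
    (hb : Nat.card N * a ≤ b * Nat.card F₀) :
    Nat.card U * a ≤ b * Nat.card (fix S U W) := by
  have hW : W ≤ fix S U W := fun w hw => ⟨hUN.le (mem_sup_right hw), fun s _ => by
    rw [commutatorElement_def]
    exact mul_mem ((inferInstance : W.Normal).conj_mem w hw s) (inv_mem hw)⟩
  have hA : (U ⊓ F₀) ⊔ W ≤ fix S U W := sup_le hF hW
  have e1 := Core.card_sup_mul_card_inf (U ⊓ N) W
  have e2 := Core.card_sup_mul_card_inf (U ⊓ F₀) W
  rw [hUN] at e1
  have i1 : Nat.card ((U ⊓ F₀) ⊓ W : Subgroup G) ≤ Nat.card ((U ⊓ N) ⊓ W : Subgroup G) :=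
    card_le_of_le (inf_le_inf_right _ (inf_le_inf_left _ hFN))
  have i2 : Nat.card ((U ⊓ F₀) ⊔ W : Subgroup G) ≤ Nat.card (fix S U W) := card_le_of_le hA
  have e3 := Core.card_sup_mul_card_inf F₀ (U ⊓ N)
  have hinf : F₀ ⊓ (U ⊓ N) = U ⊓ F₀ :=
    le_antisymm (le_inf (inf_le_right.trans inf_le_left) inf_le_left)
      (le_inf inf_le_right (inf_le_inf_left _ hFN))
  rw [hinf] at e3
  have i3 : Nat.card (F₀ ⊔ (U ⊓ N) : Subgroup G) ≤ Nat.card N :=
    card_le_of_le (sup_le hFN inf_le_right)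
  set u := Nat.card U
  set uF := Nat.card (U ⊓ F₀ : Subgroup G)
  set uN := Nat.card (U ⊓ N : Subgroup G)
  set w := Nat.card W
  set iF := Nat.card ((U ⊓ F₀) ⊓ W : Subgroup G)
  set iN := Nat.card ((U ⊓ N) ⊓ W : Subgroup G)
  set sF := Nat.card ((U ⊓ F₀) ⊔ W : Subgroup G)
  set f := Nat.card F₀
  set n := Nat.card N
  set x := Nat.card (fix S U W)
  set j := Nat.card (F₀ ⊔ (U ⊓ N) : Subgroup G)
  -- `u * uF * iN ≤ uN * sF * iN` and `uN * f ≤ uF * n`
  have hiN : 0 < iN := Nat.card_pos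
  have hf : 0 < f := Nat.card_pos
  have huF : 0 < uF := Nat.card_pos
  have k1 : u * uF ≤ uN * x := by
    refine Nat.le_of_mul_le_mul_right ?_ hiN
    calc u * uF * iN = (u * iN) * uF := by ring
      _ = uN * (uF * w) := by rw [e1]; ring
      _ = uN * (sF * iF) := by rw [e2]
      _ ≤ uN * (x * iN) := Nat.mul_le_mul_left _ (Nat.mul_le_mul i2 i1)
      _ = _ := by ring
  have k2 : uN * f ≤ n * uF := by
    calc uN * f = j * uF := by rw [e3]; ring
      _ ≤ _ := Nat.mul_le_mul_right _ i3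
  refine Nat.le_of_mul_le_mul_right ?_ (Nat.mul_pos hf huF)
  calc u * a * (f * uF) = (u * uF) * a * f := by ring
    _ ≤ (uN * x) * a * f := by gcongr
    _ = (uN * f) * (a * x) := by ring
    _ ≤ (n * uF) * (a * x) := by gcongr
    _ = (n * a) * (uF * x) := by ring
    _ ≤ (b * f) * (uF * x) := Nat.mul_le_mul_right _ hb
    _ = _ := by ring

end Cfsg.Agent.PushUp
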