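import Cfsg.Agent.PushUp.Shift
import Cfsg.Agent.PushUp.Twist

/-!
# Critical paths of length two
-/

set_option autoImplicit false
set_option linter.unusedSectionVars false

namespace Cfsg.Agent.PushUp

open Subgroup
open Cfsg.Agent.Offender (cj mem_cj)
open scoped commutatorElement

variable {G : Type*} [Group G] [Finite G] {p : ℕ} [Fact p.Prime]
  {S : Sylow p G} {M K V : Subgroup G}

/-- The two outer vertices of a critical path of length two, seen from the middle one. -/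
structure Pair (p : ℕ) (S : Sylow p G) (V : Subgroup G) (β γ : MulAut ↥(S : Subgroup G)) (x : G) :
    Prop where
  gen : (S : Subgroup G) ⊔ cj x (S : Subgroup G) = ⊤
  quad : ∀ v ∈ V, ∀ t ∈ (S : Subgroup G), ⁅v, t⁆ ∈ V ⊓ centralizer ((S : Subgroup G) : Set G)
  inQ₁ : tw V β ≤ Cfsg.pCore p G
  inQ₂ : tw V γ ≤ Cfsg.pCore p G
  cov₁ : ∀ t ∈ (S : Subgroup G), ∃ η ∈ tw V β, (x⁻¹ * η * x)⁻¹ * t ∈ tw (Cfsg.pCore p G) γ
  cov₂ : ∀ t ∈ (S : Subgroup G), ∃ ζ ∈ tw V γ, (x * ζ * x⁻¹)⁻¹ * t ∈ tw (Cfsg.pCore p G) β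
  ncomm : ∃ η ∈ tw V β, ∃ ζ ∈ tw V γ, ¬ Commute η (x * ζ * x⁻¹)

theorem Pair.symm {β γ : MulAut ↥(S : Subgroup G)} {x : G} (P : Pair p S V β γ x) :
    Pair p S V γ β x⁻¹ where
  gen := by
    have h := congrArg (Subgroup.map (MulAut.conj x⁻¹).toMonoidHom) P.gen
    rw [Subgroup.map_sup, Subgroup.map_top_of_surjective (MulAut.conj x⁻¹).toMonoidHom
      (MulAut.conj x⁻¹).surjective] at h
    have e : (cj x (S : Subgroup G)).map (MulAut.conj x⁻¹).toMonoidHom = (S : Subgroup G) := by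
      show cj x⁻¹ (cj x (S : Subgroup G)) = _
      rw [Offender.cj_cj, inv_mul_cancel, Offender.cj_one]
    rw [e, sup_comm] at h
    exact h
  quad := P.quad
  inQ₁ := P.inQ₂
  inQ₂ := P.inQ₁
  cov₁ := fun t ht => by simpa using P.cov₂ t ht
  cov₂ := fun t ht => by simpa using P.cov₁ t ht
  ncomm := by
    obtain ⟨η, hη, ζ, hζ, h⟩ := P.ncomm
    refine ⟨ζ, hζ, η, hη, fun hc => h ?_⟩
    have := hc.map (MulAut.conj x).toMonoidHom
    simpa [mul_assoc] using this.symm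

namespace Ctx

variable (c : Ctx p S M K V)

include c

theorem quad_comm {b : ℕ} (hb : Short p (S : Subgroup G) V b) {L : List (Step (S : Subgroup G))}
    (hL : Crit p V b L) : ∀ v ∈ V, ∀ t ∈ (S : Subgroup G),
      ⁅v, t⁆ ∈ V ⊓ centralizer ((S : Subgroup G) : Set G) := fun _ hv _ ht => c.quad hb hL hv ht

theorem exists_pair (hb : Short p (S : Subgroup G) V 2) {L : List (Step (S : Subgroup G))}
    (hL : Crit p V 2 L) : ∃ β γ x, Pair p S V β γ x := by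
  obtain ⟨s1, s2, rfl⟩ : ∃ s1 s2, L = [s1, s2] := by
    match L, hL.1 with
    | [a, b], _ => exact ⟨a, b, rfl⟩
  haveI := c.hVn
  have hQn : (Cfsg.pCore p G).Normal := inferInstance
  obtain ⟨k, hk⟩ := c.exists_gen s1.g
  have hns : ¬ Nrm V s2.β.symm := c.last_nonNrm hb (L0 := []) hL
  set β' := s2.β.symm
  have hC0 : Crit p V 2 [⟨1, β', k⟩, s1] :=
    c.shift hb (s := s1) (sl := s2) (L2 := []) (s' := ⟨1, β', k⟩) hL hns hk
  obtain ⟨g1, β1, h1⟩ := s1
  have hC : Crit p V 2 ([⟨1, β', k⟩] ++ [⟨g1, β1, 1⟩] : List (Step (S : Subgroup G))) :=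
    c.crit_retarget hb (L := [⟨1, β', k⟩]) (g := g1) (h := h1) hC0
  set C : List (Step (S : Subgroup G)) := [⟨1, β', k⟩] ++ [⟨g1, β1, 1⟩] with hCdef
  set x := k⁻¹ * g1 with hx
  have hQeq : ∀ {a : G} (g : G), g * a * g⁻¹ ∈ Cfsg.pCore p G → a ∈ Cfsg.pCore p G := fun g h => by
    simpa [mul_assoc] using hQn.conj_mem _ h g⁻¹
  refine ⟨β', β1.symm, x, ⟨?_, c.quad_comm hb hC, ?_, ?_, ?_, ?_, ?_⟩⟩
  · have h := congrArg (Subgroup.map (MulAut.conj k⁻¹).toMonoidHom) hk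
    rw [Subgroup.map_sup, Subgroup.map_top_of_surjective (MulAut.conj k⁻¹).toMonoidHom
      (MulAut.conj k⁻¹).surjective] at h
    rw [← h]
    congr 1
    · show _ = cj k⁻¹ (cj k (S : Subgroup G))
      rw [Offender.cj_cj, inv_mul_cancel, Offender.cj_one]
    · show _ = cj k⁻¹ (cj g1 (S : Subgroup G))
      rw [Offender.cj_cj]
  · intro η hη
    obtain ⟨t, ht, rfl⟩ := mem_tw.1 hη
    have := hb [⟨1, β', k⟩] (by simp) t ht (k * ((β' t : ↥(S : Subgroup G)) : G) * k⁻¹)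
      (link_single.2 ⟨t, by simp, rfl⟩)
    exact hQeq k this
  · intro ζ hζ
    obtain ⟨t, ht, rfl⟩ := mem_tw.1 hζ
    have := hb [⟨1, β1.symm, g1⟩] (by simp) t ht (g1 * ((β1.symm t : ↥(S : Subgroup G)) : G) * g1⁻¹)
      (link_single.2 ⟨t, by simp, rfl⟩)
    exact hQeq g1 this
  · intro t ht
    set u := β1 ⟨t, ht⟩ with hu
    obtain ⟨y, hy, hq⟩ := c.cover hb (L := [⟨1, β', k⟩]) hC u.2
    obtain ⟨v, hv, hy'⟩ := mem_img.1 hy
    obtain ⟨m, ⟨tv, htv, hm⟩, hy''⟩ := hy'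
    obtain ⟨t2, ht2, hy2⟩ := link_single.1 hy''
    refine ⟨((β' tv : ↥(S : Subgroup G)) : G), mem_tw_of_mem ?_, mem_tw.2 ⟨(β1 t2)⁻¹ * u, ?_, ?_⟩⟩
    · have : (tv : G) = v := by simpa using htv.symm
      exact this ▸ hv
    · simpa [hy2] using hq
    · have e : x⁻¹ * ((β' tv : ↥(S : Subgroup G)) : G) * x = (t2 : G) := by
        have h3 : (t2 : G) = g1⁻¹ * m * g1 := by rw [ht2]; group
        rw [h3, hm, hx]; group
      rw [map_mul, map_inv, MulEquiv.symm_apply_apply, hu, MulEquiv.symm_apply_apply, e]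
      rfl
  · intro t ht
    set u := β'.symm ⟨t, ht⟩ with hu
    have hrev : Crit p V 2 (revPath [(⟨g1, β1, 1⟩ : Step (S : Subgroup G))] ++ [⟨k, β'.symm, 1⟩]) := by
      have := c.crit_rev hb hC
      rw [hCdef, revPath_append] at this
      exact this
    obtain ⟨y, hy, hq⟩ := c.cover hb hrev u.2
    obtain ⟨w, hw, hy'⟩ := mem_img.1 hy
    obtain ⟨m, ⟨tw', htw, hm⟩, hy''⟩ := hy'
    obtain ⟨t2, ht2, hy2⟩ := link_single.1 hy''
    refine ⟨((β1.symm tw' : ↥(S : Subgroup G)) : G), mem_tw_of_mem ?_,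
      mem_tw.2 ⟨(β'.symm t2)⁻¹ * u, ?_, ?_⟩⟩
    · have : (tw' : G) = w := by
        have h3 : w = (tw' : G) := by simpa [Step.rev] using htw
        exact h3.symm
      exact this ▸ hw
    · simpa [hy2] using hq
    · have e : x * ((β1.symm tw' : ↥(S : Subgroup G)) : G) * x⁻¹ = (t2 : G) := by
        have h3 : (t2 : G) = k⁻¹ * m * k := by rw [ht2]; group
        rw [h3, hm, hx]; simp [Step.rev, mul_assoc]
      rw [map_mul, map_inv, MulEquiv.apply_symm_apply, hu, MulEquiv.apply_symm_apply, e]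
      rfl
  · obtain ⟨hlen, v, hv, y, hy, hQ⟩ := hC
    obtain ⟨w, hw, hne⟩ := c.crit_witness hb hlen hv hy hQ
    obtain ⟨m, ⟨tv, htv, hm⟩, hy''⟩ := hy
    obtain ⟨u, hu⟩ := c.link_exists hb (L := revPath [(⟨g1, β1, 1⟩ : Step (S : Subgroup G))])
      (by simp [revPath]) hw
    obtain ⟨tw', htw, hu'⟩ := link_single.1 hu
    refine ⟨((β' tv : ↥(S : Subgroup G)) : G), mem_tw_of_mem ?_,
      ((β1.symm tw' : ↥(S : Subgroup G)) : G), mem_tw_of_mem ?_, fun hc => hne ?_⟩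
    · have : (tv : G) = v := by simpa using htv.symm
      exact this ▸ hv
    · have : w = (tw' : G) := by simpa [Step.rev] using htw
      exact this ▸ hw
    · refine hy''.commute hu.of_rev ?_
      have h := hc.map (MulAut.conj k).toMonoidHom
      rw [hm, hu']
      simpa [hx, Step.rev, mul_assoc] using h

theorem S_conj_omega {β : MulAut ↥(S : Subgroup G)} {η t : G}
    (hq : ∀ v ∈ V, ∀ t ∈ (S : Subgroup G), ⁅v, t⁆ ∈ V ⊓ centralizer ((S : Subgroup G) : Set G))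
    (hη : η ∈ tw V β) (ht : t ∈ (S : Subgroup G)) :
    ⁅η, t⁆ ∈ V ⊓ centralizer ((S : Subgroup G) : Set G) := by
  obtain ⟨v, hv, rfl⟩ := mem_tw.1 hη
  have h := hq v hv _ (β.symm ⟨t, ht⟩).2
  have h2 := c.tw_omega (β := β) (x := ⁅v, β.symm ⟨t, ht⟩⁆) h
  rw [map_commutatorElement, MulEquiv.apply_symm_apply] at h2
  exact h2

/-- An element of `tw Q β` centralizes `tw V β`. -/
theorem tw_comm {β : MulAut ↥(S : Subgroup G)} {η q : G} (hη : η ∈ tw V β)
    (hq : q ∈ tw (Cfsg.pCore p G) β) : Commute q η := by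
  obtain ⟨v, hv, rfl⟩ := mem_tw.1 hη
  obtain ⟨u, hu, rfl⟩ := mem_tw.1 hq
  exact ((show Commute u v from Subtype.ext (c.Q_comm hu hv).eq).map β.toMonoidHom).map
    (S : Subgroup G).subtype

variable {β γ : MulAut ↥(S : Subgroup G)} {x : G} (P : Pair p S V β γ x)

include P

theorem pair_central {η ζ : G} (hη : η ∈ tw V β) (hζ : ζ ∈ tw V γ) :
    ⁅η, x * ζ * x⁻¹⁆ ∈ center G := by
  have hQn : (Cfsg.pCore p G).Normal := inferInstance
  have h1 := c.S_conj_omega P.quad hη (c.QS (hQn.conj_mem _ (P.inQ₂ hζ) x))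
  have h2 := c.S_conj_omega P.quad hζ (c.QS (hQn.conj_mem _ (P.inQ₁ hη) x⁻¹))
  rw [inv_inv] at h2
  refine c.center_of_fixed (k := 1) (g := x) (by rw [Offender.cj_one]; exact P.gen) ?_ ?_
  · intro s hs
    rw [Offender.cj_one] at hs
    exact mem_centralizer_iff.1 h1.2 s hs
  · intro s hs
    have h3 : Commute (x⁻¹ * s * x) ⁅ζ, x⁻¹ * η * x⁆ := mem_centralizer_iff.1 h2.2 _ (mem_cj.1 hs)
    have h4 := h3.map (MulAut.conj x).toMonoidHom
    have e : (MulAut.conj x).toMonoidHom ⁅ζ, x⁻¹ * η * x⁆ = ⁅η, x * ζ * x⁻¹⁆⁻¹ := by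
      rw [map_commutatorElement, commutatorElement_inv]
      simp [mul_assoc]
    rw [e] at h4
    simpa [mul_assoc] using h4.inv_right

theorem pair_central' {ζ t : G} (hζ : ζ ∈ tw V γ) (ht : t ∈ (S : Subgroup G)) :
    ⁅ζ, t⁆ ∈ center G := by
  obtain ⟨η, hη, hq⟩ := P.cov₁ t ht
  have h : ⁅ζ, t⁆ = ⁅ζ, x⁻¹ * η * x⁆ := comm_eq_of_left (c.tw_comm hζ hq)
  rw [h]
  have h1 := (inferInstance : (center G).Normal).conj_mem _ (inv_mem (c.pair_central P hη hζ)) x⁻¹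
  have e : x⁻¹ * ⁅η, x * ζ * x⁻¹⁆⁻¹ * x⁻¹⁻¹ = ⁅ζ, x⁻¹ * η * x⁆ := by
    simp only [commutatorElement_def]; group
  rwa [e] at h1

/-- `[z, q]` is central and in `V` for `z` in the conjugate of `tw V γ`. -/
theorem pair_zq {ζ q : G} (hζ : ζ ∈ tw V γ) (hq : q ∈ Cfsg.pCore p G) :
    ⁅x * ζ * x⁻¹, q⁆ ∈ V ⊓ center G := by
  have hs : x⁻¹ * q * x ∈ (S : Subgroup G) := c.QS (by
    simpa using (inferInstance : (Cfsg.pCore p G).Normal).conj_mem q hq x⁻¹)
  have h1 := c.pair_central' P hζ hs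
  have h2 := (c.S_conj_omega P.quad hζ hs).1
  have e : x * ⁅ζ, x⁻¹ * q * x⁆ * x⁻¹ = ⁅x * ζ * x⁻¹, q⁆ := by
    simp only [commutatorElement_def]; group
  exact ⟨e ▸ c.hVn.conj_mem _ h2 x, e ▸ (inferInstance : (center G).Normal).conj_mem _ h1 x⟩

theorem pair_split {q : G} (hq : q ∈ Cfsg.pCore p G) :
    ∃ ζ ∈ tw V γ, ∃ q₁ ∈ Cfsg.pCore p G ⊓ tw (Cfsg.pCore p G) β, x * ζ * x⁻¹ * q₁ = q := by
  obtain ⟨ζ, hζ, h⟩ := P.cov₂ q (c.QS hq)
  exact ⟨ζ, hζ, _, ⟨(Cfsg.pCore p G).mul_mem ((Cfsg.pCore p G).inv_mem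
    ((inferInstance : (Cfsg.pCore p G).Normal).conj_mem _ (P.inQ₂ hζ) x)) hq, h⟩,
    mul_inv_cancel_left _ _⟩

theorem pair_derived :
    ⁅Cfsg.pCore p G, Cfsg.pCore p G⁆ ≤
      ⁅Cfsg.pCore p G ⊓ tw (Cfsg.pCore p G) β, Cfsg.pCore p G ⊓ tw (Cfsg.pCore p G) β⁆ ⊔
        (V ⊓ center G) := by
  haveI := c.hVn
  set T := V ⊓ center G with hT
  let f := QuotientGroup.mk' T
  have hfz : ∀ {ζ q : G}, ζ ∈ tw V γ → q ∈ Cfsg.pCore p G → Commute (f (x * ζ * x⁻¹)) (f q) := by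
    intro ζ q hζ hq
    refine mul_inv_eq_one.1 ?_
    have h := c.pair_zq P hζ hq
    rw [← QuotientGroup.eq_one_iff] at h
    rw [← map_mul, ← map_mul, ← map_inv, ← map_mul]
    rw [commutatorElement_def] at h
    show f _ = 1
    rw [mul_inv_rev, ← mul_assoc]
    exact h
  refine commutator_le.2 fun a ha b hb => ?_
  obtain ⟨ζ, hζ, a1, ha1, rfl⟩ := c.pair_split P ha
  obtain ⟨ζ', hζ', b1, hb1, rfl⟩ := c.pair_split P hb
  set z := x * ζ * x⁻¹
  set z' := x * ζ' * x⁻¹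
  have hz : z ∈ Cfsg.pCore p G := (inferInstance : (Cfsg.pCore p G).Normal).conj_mem _ (P.inQ₂ hζ) x
  have hz' : z' ∈ Cfsg.pCore p G := (inferInstance : (Cfsg.pCore p G).Normal).conj_mem _ (P.inQ₂ hζ') x
  have e1 : f ⁅z * a1, z' * b1⁆ = f ⁅a1, b1⁆ := by
    rw [map_commutatorElement, map_commutatorElement, map_mul, map_mul]
    have c1 : Commute (f z) (f a1) := hfz hζ ha1.1
    have c2 : Commute (f z) (f z' * f b1) := (hfz hζ hz').mul_right (hfz hζ hb1.1)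
    have c3 : Commute (f z') (f a1) := hfz hζ' ha1.1
    have c4 : Commute (f z') (f b1) := hfz hζ' hb1.1
    have c5 : Commute (f a1) (f z') := c3.symm
    calc ⁅f z * f a1, f z' * f b1⁆
        = f z * (f a1 * (f z' * f b1) * (f a1)⁻¹) * (f z)⁻¹ * (f z' * f b1)⁻¹ := by
          simp only [commutatorElement_def]; group
      _ = f a1 * (f z' * f b1) * (f a1)⁻¹ * (f z' * f b1)⁻¹ := by
          rw [((c1.mul_right c2).mul_right c1.inv_right).eq, mul_inv_cancel_right]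
      _ = f z' * (f a1 * f b1 * (f a1)⁻¹ * (f b1)⁻¹) * (f z')⁻¹ := by
          rw [show f a1 * (f z' * f b1) = f z' * (f a1 * f b1) by
            rw [← mul_assoc, c5.eq, mul_assoc]]
          group
      _ = _ := by
          rw [(((c3.mul_right c4).mul_right c3.inv_right).mul_right c4.inv_right).eq,
            mul_inv_cancel_right, commutatorElement_def]
  have e2 := QuotientGroup.eq.1 e1
  have h3 := mul_mem (mem_sup_left (T := T) (commutator_mem_commutator ha1 hb1))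
    (mem_sup_right (inv_mem e2))
  have h4 : ⁅z * a1, z' * b1⁆ = ⁅a1, b1⁆ * ((⁅z * a1, z' * b1⁆)⁻¹ * ⁅a1, b1⁆)⁻¹ := by group
  rw [h4]
  exact h3

/-- The conjugate of `tw V γ` centralizes the derived subgroup. -/
theorem pair_z_derived {ζ d : G} (hζ : ζ ∈ tw V γ)
    (hd : d ∈ ⁅Cfsg.pCore p G, Cfsg.pCore p G⁆) : Commute (x * ζ * x⁻¹) d := by
  set Q₁ := Cfsg.pCore p G ⊓ tw (Cfsg.pCore p G) β with hQ₁
  set Z := cj x (tw V γ) with hZ
  have hzc : ⁅Q₁, Z⁆ ≤ center G := by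
    refine commutator_le.2 fun a ha z hz => ?_
    have h := c.pair_zq P (mem_cj.1 hz) ha.1
    rw [← commutatorElement_inv]
    have e : x * (x⁻¹ * z * x) * x⁻¹ = z := by group
    rw [e] at h
    exact inv_mem h.2
  have hbot : ⁅⁅Q₁, Q₁⁆, Z⁆ = ⊥ := by
    refine commutator_commutator_eq_bot_of_rotate ?_ ?_
    · exact commutator_eq_bot_iff_le_centralizer.2 (hzc.trans (center_le_centralizer _))
    · rw [commutator_comm Z Q₁]
      exact commutator_eq_bot_iff_le_centralizer.2 (hzc.trans (center_le_centralizer _))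
  have hle : ⁅Q₁, Q₁⁆ ⊔ (V ⊓ center G) ≤ centralizer (Z : Set G) :=
    sup_le (commutator_eq_bot_iff_le_centralizer.1 hbot)
      (inf_le_right.trans (center_le_centralizer _))
  exact mem_centralizer_iff.1 (hle (c.pair_derived P hd)) _ (mem_cj.2 (by simpa [mul_assoc] using hζ))

theorem pair_L3_le :
    ⁅⁅Cfsg.pCore p G, Cfsg.pCore p G⁆, Cfsg.pCore p G⁆ ≤
      tw ⁅⁅Cfsg.pCore p G, Cfsg.pCore p G⁆, Cfsg.pCore p G⁆ β := by
  set Q := Cfsg.pCore p G with hQ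
  haveI := c.hVn
  set T := V ⊓ center G
  have hDQ : ⁅Q, Q⁆ ≤ Q := commutator_le_self Q
  refine le_trans ?_ (tw_commutator (hDQ.trans c.QS) c.QS β)
  refine le_trans ?_ (commutator_mono ((commutator_mono (inf_le_right : Q ⊓ tw Q β ≤ tw Q β)
    (inf_le_right : Q ⊓ tw Q β ≤ tw Q β)).trans (tw_commutator c.QS c.QS β))
    (inf_le_right : Q ⊓ tw Q β ≤ tw Q β))
  refine commutator_le.2 fun d hd q hq => ?_
  obtain ⟨ζ, hζ, a, ha, rfl⟩ := c.pair_split P hq
  obtain ⟨d1, hd1, c0, hc0, rfl⟩ := Subgroup.mem_sup_of_normal_right.1 (c.pair_derived P hd)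
  have hz : Commute (x * ζ * x⁻¹) ⁅d1 * c0, a⁆ := by
    refine c.pair_z_derived P hζ (commutator_le.2 (fun u hu v hv => ?_)
      (commutator_mem_commutator hd ha.1))
    rw [commutatorElement_def, show u * v * u⁻¹ * v⁻¹ = u * (v * u⁻¹ * v⁻¹) by group]
    exact mul_mem hu ((inferInstance : (⁅Q, Q⁆).Normal).conj_mem _ (inv_mem hu) v)
  have hz2 : Commute (x * ζ * x⁻¹) (d1 * c0) := c.pair_z_derived P hζ hd
  have e : ⁅d1 * c0, x * ζ * x⁻¹ * a⁆ = ⁅d1 * c0, a⁆ := by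
    calc ⁅d1 * c0, x * ζ * x⁻¹ * a⁆
        = ((d1 * c0) * (x * ζ * x⁻¹) * (d1 * c0)⁻¹) * ⁅d1 * c0, a⁆ * (x * ζ * x⁻¹)⁻¹ := by
          simp only [commutatorElement_def]; group
      _ = (x * ζ * x⁻¹) * ⁅d1 * c0, a⁆ * (x * ζ * x⁻¹)⁻¹ := by
          rw [hz2.symm.eq, mul_inv_cancel_right]
      _ = _ := by rw [hz.eq, mul_inv_cancel_right]
  have e2 : ⁅d1 * c0, a⁆ = ⁅d1, a⁆ := by
    have h1 := mem_center_iff.1 hc0.2 a
    calc ⁅d1 * c0, a⁆ = d1 * (c0 * a) * c0⁻¹ * d1⁻¹ * a⁻¹ := by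
          simp only [commutatorElement_def]; group
      _ = d1 * (a * c0) * c0⁻¹ * d1⁻¹ * a⁻¹ := by rw [h1]
      _ = _ := by simp only [commutatorElement_def]; group
  rw [e, e2]
  exact commutator_mem_commutator hd1 ha

theorem pair_L3_inv :
    tw ⁅⁅Cfsg.pCore p G, Cfsg.pCore p G⁆, Cfsg.pCore p G⁆ β =
      ⁅⁅Cfsg.pCore p G, Cfsg.pCore p G⁆, Cfsg.pCore p G⁆ := by
  have hle := c.pair_L3_le P
  refine (eq_of_le_of_card_ge hle ?_).symm
  rw [card_tw]
  refine ((commutator_mono (commutator_le_self _) le_rfl).trans (commutator_le_self _)).trans c.QS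

theorem pair_D_le' : tw ⁅Cfsg.pCore p G, Cfsg.pCore p G⁆ β ≤
    ⁅Cfsg.pCore p G, Cfsg.pCore p G⁆ ⊔ (V ⊓ centralizer ((S : Subgroup G) : Set G)) := by
  set Q := Cfsg.pCore p G with hQ
  set Om := V ⊓ centralizer ((S : Subgroup G) : Set G) with hOm
  set R := ⁅Q, Q⁆ ⊔ Om with hR
  have hRS : R ≤ (S : Subgroup G) :=
    sup_le ((commutator_le_self Q).trans c.QS) (inf_le_left.trans c.VS)
  have hOmtw : Om ≤ tw R β := fun u hu => by
    refine mem_tw.2 ⟨β.symm ⟨u, c.VS hu.1⟩, mem_sup_right (c.tw_omega (β := β.symm) hu), ?_⟩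
    rw [MulEquiv.apply_symm_apply]
  have hRle : R ≤ tw R β := by
    refine sup_le ((c.pair_derived P).trans (sup_le ?_ ?_)) hOmtw
    · exact ((commutator_mono inf_le_right inf_le_right).trans (tw_commutator c.QS c.QS β)).trans
        (tw_mono le_sup_left β)
    · exact (inf_le_inf_left _ (center_le_centralizer _)).trans hOmtw
  have heq := eq_of_le_of_card_ge hRle (by rw [card_tw hRS])
  exact (tw_mono le_sup_left β).trans heq.ge

theorem pair_D_le : tw ⁅Cfsg.pCore p G, Cfsg.pCore p G⁆ β ≤ ⁅Cfsg.pCore p G, Cfsg.pCore p G⁆ ⊔ V :=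
  (c.pair_D_le' P).trans (sup_le_sup_left inf_le_left _)

theorem pair_not_cent_le :
    ¬ centralizer ((⁅⁅Cfsg.pCore p G, Cfsg.pCore p G⁆, Cfsg.pCore p G⁆ : Subgroup G) : Set G) ≤ M := by
  set Q := Cfsg.pCore p G with hQ
  set L3 := ⁅⁅Q, Q⁆, Q⁆ with hL3
  have hL3S : L3 ≤ (S : Subgroup G) :=
    ((commutator_mono (commutator_le_self _) le_rfl).trans (commutator_le_self _)).trans c.QS
  have hinv := c.pair_L3_inv P
  have hinvγ := c.pair_L3_inv P.symm
  have hL3n : L3.Normal := inferInstance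
  intro hle
  haveI : (centralizer (L3 : Set G)).Normal := inferInstance
  have hT := c.st.toSetup₀.normal_inf_le (N := centralizer (L3 : Set G)) hle
  obtain ⟨η, hη, ζ, hζ, hne⟩ := P.ncomm
  have hζL : x * ζ * x⁻¹ ∈ centralizer (L3 : Set G) := by
    have h1 : ζ ∈ centralizer (L3 : Set G) := by
      refine mem_centralizer_iff.2 fun l hl => ?_
      have hl2 : l ∈ tw L3 γ := by rw [hinvγ]; exact hl
      have hl' : l ∈ tw Q γ :=
        tw_mono ((commutator_mono (commutator_le_self _) le_rfl).trans (commutator_le_self _)) γ hl2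
      exact (c.tw_comm hζ hl').eq
    exact (inferInstance : (centralizer (L3 : Set G)).Normal).conj_mem _ h1 x
  have hz : x * ζ * x⁻¹ ∈ (S : Subgroup G) :=
    c.QS ((inferInstance : Q.Normal).conj_mem _ (P.inQ₂ hζ) x)
  -- its preimage under `β` also centralizes `L3`
  set t := β.symm ⟨_, hz⟩ with ht
  have htL : (t : G) ∈ centralizer (L3 : Set G) := by
    refine mem_centralizer_iff.2 fun l hl => ?_
    set ls : ↥(S : Subgroup G) := ⟨l, hL3S hl⟩
    have h1 : ((β ls : ↥(S : Subgroup G)) : G) ∈ L3 := (mem_tw_of_eq hinv).2 hl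
    have h2 : Commute (β ls) (⟨_, hz⟩ : ↥(S : Subgroup G)) :=
      Subtype.ext (mem_centralizer_iff.1 hζL _ h1)
    have h3 := h2.map β.symm.toMonoidHom
    rw [MulEquiv.coe_toMonoidHom, MulEquiv.symm_apply_apply] at h3
    exact congrArg Subtype.val h3.eq
  have h4 : x * ζ * x⁻¹ ∈ tw Q β := by
    refine mem_tw.2 ⟨t, hT ⟨t.2, htL⟩, ?_⟩
    rw [ht, MulEquiv.apply_symm_apply]
  exact hne (c.tw_comm hη h4).symm

end Ctx

end Cfsg.Agent.PushUp
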