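import Cfsg.Agent.PushUp.Struct
import Cfsg.Agent.PushUp.InvForm
import Cfsg.Agent.Classical.ExcSmall

/-!
# Splitting off `F² ⋊ SL₂(F)` for odd characteristic
-/

set_option autoImplicit false
set_option linter.unusedSectionVars false

namespace Cfsg.Agent.PushUp

open Subgroup Cfsg.Agent.PushRankOne
open Cfsg.Agent.Classical (rootHomSL conj_rootHomSL_mem_of_upper rootHomSL_coe sylow_sl2_conj)
open scoped commutatorElement MatrixGroups Matrix

variable {G : Type*} [Group G] [Finite G] {p : ℕ} [Fact p.Prime] {S : Sylow p G}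
  {M K V : Subgroup G} {F : Type*} [Field F]

/-- `-1`. -/
def negSL (F : Type*) [Field F] : SL(2, F) := ⟨!![-1, 0; 0, -1], by simp [Matrix.det_fin_two]⟩

/-- A diagonal element. -/
def dgSL {F : Type*} [Field F] (m : F) (hm : m ≠ 0) : SL(2, F) :=
  ⟨!![m, 0; 0, m⁻¹], by simp [Matrix.det_fin_two, hm]⟩

theorem negSL_comm (g : SL(2, F)) : negSL F * g = g * negSL F := by
  refine Subtype.ext ?_
  rw [Matrix.SpecialLinearGroup.coe_mul, Matrix.SpecialLinearGroup.coe_mul]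
  ext i j
  fin_cases i <;> fin_cases j <;> simp [negSL, Matrix.mul_apply, Fin.sum_univ_two]

theorem negSL_sq : negSL F * negSL F = 1 := by
  refine Subtype.ext ?_
  rw [Matrix.SpecialLinearGroup.coe_mul]
  ext i j
  fin_cases i <;> fin_cases j <;> simp [negSL, Matrix.mul_apply, Fin.sum_univ_two]

theorem negSL_mulVec (u : Fin 2 → F) :
    ((negSL F : SL(2, F)) : Matrix (Fin 2) (Fin 2) F) *ᵥ u = -u := by
  funext i
  fin_cases i <;> simp [negSL, Matrix.mulVec, dotProduct, Fin.sum_univ_two]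

theorem root_mulVec (a : F) (u : Fin 2 → F) :
    ((rootHomSL (Multiplicative.ofAdd a) : SL(2, F)) : Matrix (Fin 2) (Fin 2) F) *ᵥ u =
      ![u 0 + a * u 1, u 1] := by
  funext i
  rw [rootHomSL_coe]
  fin_cases i <;> simp [Matrix.mulVec, dotProduct, Fin.sum_univ_two]

theorem dg_root {m : F} (hm : m ≠ 0) (a : F) :
    dgSL m hm * rootHomSL (Multiplicative.ofAdd a) * (dgSL m hm)⁻¹ =
      rootHomSL (Multiplicative.ofAdd (m ^ 2 * a)) := by
  rw [conj_rootHomSL_mem_of_upper (by simp [dgSL])]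
  simp [dgSL, mul_comm]

variable [Fintype F]

/-- The data of a splitting. -/
structure IsQdSplit (p : ℕ) (S : Sylow p G) (ρ : G →* SL(2, F)) (ψ : G → Fin 2 → F)
    (W L L1 : Subgroup G) : Prop where
  Wn : W.Normal
  WQ : W ≤ Cfsg.pCore p G
  ψ_mul : ∀ u ∈ W, ∀ v ∈ W, ψ (u * v) = ψ u + ψ v
  ψ_inj : ∀ u ∈ W, ψ u = 0 → u = 1
  ψ_surj : ∀ v : Fin 2 → F, ∃ w ∈ W, ψ w = v
  act : ∀ g : G, ∀ w ∈ W,
    ψ (g * w * g⁻¹) = ((ρ g : SL(2, F)) : Matrix (Fin 2) (Fin 2) F) *ᵥ ψ w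
  Qcomm : ∀ q ∈ Cfsg.pCore p G, ∀ w ∈ W, Commute q w
  surj : Function.Surjective ρ
  ker : ρ.ker = Cfsg.pCore p G
  rootS : (S : Subgroup G).map ρ = (rootHomSL (F := F)).range
  WL : W ⊓ L = ⊥
  sup : ∀ g : G, ∃ w ∈ W, w⁻¹ * g ∈ L
  L1L : L1 ≤ L
  L1surj : ∀ m : SL(2, F), ∃ l ∈ L1, ρ l = m
  L1E : ∀ l ∈ L1, ∀ e ∈ Cfsg.pCore p G ⊓ L, Commute l e
  L1Q : L1 ⊓ Cfsg.pCore p G = ⊥

/-- A perfect central `p`-extension of `SL₂(q)` with `p ≥ 5` is trivial. -/
theorem central_ext_trivial {L : Type*} [Group L] [Finite L] (h5 : 5 ≤ p) {n : ℕ}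
    (hF : Fintype.card F = p ^ n) (φ : L →* SL(2, F)) (hφ : Function.Surjective φ)
    (hc : φ.ker ≤ center L) (hp : IsPGroup p φ.ker) (hR : Cfsg.pResidual p L = ⊤) :
    φ.ker = ⊥ := by
  haveI : CharP F p := charP_of_card_eq_prime_pow hF
  have hn : 1 ≤ n := by
    rcases Nat.eq_zero_or_pos n with rfl | h
    · exact absurd hF (Fintype.one_lt_card (α := F)).ne'
    · exact h
  have hq4 : 4 ≤ Fintype.card F := by
    rw [hF]; exact le_trans (by omega) (Nat.le_self_pow (by omega) p)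
  -- perfect
  have hperf : commutator L = ⊤ := by
    have himg : (commutator L).map φ = ⊤ := by
      rw [_root_.commutator_def, Subgroup.map_commutator, Subgroup.map_top_of_surjective φ hφ,
        ← _root_.commutator_def]
      exact Classical.commutator_sl_eq_top (Or.inr (Classical.Small.exists_sq_ne_one hq4))
    have hsup : commutator L ⊔ φ.ker = ⊤ := by
      rw [← Subgroup.comap_map_eq, himg, Subgroup.comap_top]
    rw [eq_top_iff, ← hR]
    refine Fusion.pResidual_le_of_isPGroup_quotient _ ?_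
    refine hp.of_surjective ((QuotientGroup.mk' (commutator L)).comp φ.ker.subtype) fun y => ?_
    obtain ⟨g, rfl⟩ := QuotientGroup.mk'_surjective (commutator L) y
    obtain ⟨a, ha, b, hb, rfl⟩ := Subgroup.mem_sup_of_normal_left.1 (hsup.ge (mem_top g))
    refine ⟨⟨b, hb⟩, ?_⟩
    show QuotientGroup.mk' (commutator L) b = _
    rw [map_mul, show QuotientGroup.mk' (commutator L) a = 1 from
      (QuotientGroup.eq_one_iff a).2 ha, one_mul]
  -- lifts of the root subgroup commute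
  obtain ⟨lf, hlf⟩ := hφ.hasRightInverse
  have hcen : ∀ {z : L}, φ z = 1 → ∀ g, g * z = z * g := fun {z} hz g =>
    mem_center_iff.1 (hc hz) g
  set r := fun a : F => lf (rootHomSL (Multiplicative.ofAdd a)) with hr
  have hr1 : ∀ a, φ (r a) = rootHomSL (Multiplicative.ofAdd a) := fun a => hlf _
  have hB0 : ∀ a b, φ ⁅r a, r b⁆ = 1 := fun a b => by
    rw [map_commutatorElement, hr1, hr1, commutatorElement_eq_one_iff_mul_comm]
    exact ((Commute.all _ _).map (rootHomSL (F := F))).eq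
  have hind : ∀ {u v : L} {a b : F}, φ u = rootHomSL (Multiplicative.ofAdd a) →
      φ v = rootHomSL (Multiplicative.ofAdd b) → ⁅u, v⁆ = ⁅r a, r b⁆ := by
    intro u v a b hu hv
    have hz : φ ((r a)⁻¹ * u) = 1 := by rw [map_mul, map_inv, hr1, hu, inv_mul_cancel]
    have hw : φ ((r b)⁻¹ * v) = 1 := by rw [map_mul, map_inv, hr1, hv, inv_mul_cancel]
    set z := (r a)⁻¹ * u with hzdef
    set w := (r b)⁻¹ * v with hwdef
    rw [show u = r a * z by rw [hzdef, mul_inv_cancel_left],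
      show v = r b * w by rw [hwdef, mul_inv_cancel_left]]
    calc ⁅r a * z, r b * w⁆ = r a * (z * (r b * w) * z⁻¹) * (r a)⁻¹ * (r b * w)⁻¹ := by
          simp only [commutatorElement_def]; group
      _ = r a * r b * (w * (r a)⁻¹) * w⁻¹ * (r b)⁻¹ := by
          rw [← hcen hz (r b * w), mul_inv_cancel_right]; group
      _ = r a * r b * ((r a)⁻¹ * w) * w⁻¹ * (r b)⁻¹ := by rw [← hcen hw (r a)⁻¹]
      _ = _ := by simp only [commutatorElement_def]; group
  have hB : ∀ a b, ⁅r a, r b⁆ = 1 := by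
    refine biadd_eq_one h5 hF (fun a b => ⁅r a, r b⁆) ?_ ?_ (fun a => commutatorElement_self _) ?_
    · intro a a' b
      show ⁅r (a + a'), r b⁆ = _
      rw [← hind (u := r a * r a') (a := a + a') (by
        rw [map_mul, hr1, hr1, ← map_mul, ← ofAdd_add]) (hr1 b),
        show ⁅r a * r a', r b⁆ = r a * ⁅r a', r b⁆ * (r a)⁻¹ * ⁅r a, r b⁆ by
          simp only [commutatorElement_def]; group,
        hcen (hB0 a' b) (r a), mul_inv_cancel_right]
      exact (hcen (hB0 a b) _)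
    · intro a b b'
      show ⁅r a, r (b + b')⁆ = _
      rw [← hind (v := r b * r b') (b := b + b') (hr1 a) (by
        rw [map_mul, hr1, hr1, ← map_mul, ← ofAdd_add]),
        show ⁅r a, r b * r b'⁆ = ⁅r a, r b⁆ * (r b * ⁅r a, r b'⁆ * (r b)⁻¹) by
          simp only [commutatorElement_def]; group,
        hcen (hB0 a b') (r b), mul_inv_cancel_right]
    · intro m a b hm
      obtain ⟨d, hd⟩ := hφ (dgSL m hm)
      have h1 : ∀ u, φ (d * r u * d⁻¹) = rootHomSL (Multiplicative.ofAdd (m ^ 2 * u)) := fun u => by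
        rw [map_mul, map_mul, map_inv, hd, hr1, dg_root]
      show ⁅r (m ^ 2 * a), r (m ^ 2 * b)⁆ = ⁅r a, r b⁆
      rw [← hind (h1 a) (h1 b), show ⁅d * r a * d⁻¹, d * r b * d⁻¹⁆ = d * ⁅r a, r b⁆ * d⁻¹ by
        simp only [commutatorElement_def]; group, hcen (hB0 a b) d, mul_inv_cancel_right]
  -- abelian Sylow subgroups
  obtain ⟨P⟩ : Nonempty (Sylow p L) := inferInstance
  have hPab : ∀ u ∈ (P : Subgroup L), ∀ v ∈ (P : Subgroup L), u * v = v * u := by
    let R := P.mapSurjective (f := φ) hφ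
    obtain ⟨a, ha⟩ := sylow_sl2_conj (F := F) p R
    obtain ⟨d, hd⟩ := hφ a
    have hmem : ∀ u ∈ (P : Subgroup L), ∃ k : F,
        φ (d⁻¹ * u * d) = rootHomSL (Multiplicative.ofAdd k) := by
      intro u hu
      obtain ⟨_, ⟨k, rfl⟩, hk⟩ :=
        ha.le (show φ u ∈ (P : Subgroup L).map φ from ⟨u, hu, rfl⟩)
      refine ⟨k.toAdd, ?_⟩
      rw [map_mul, map_mul, map_inv, hd, ← hk, ofAdd_toAdd]
      show a⁻¹ * (a * rootHomSL k * a⁻¹) * a = _
      group
    intro u hu v hv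
    obtain ⟨k, hk⟩ := hmem u hu
    obtain ⟨l, hl⟩ := hmem v hv
    have h1 : Commute (d⁻¹ * u * d) (d⁻¹ * v * d) :=
      commutatorElement_eq_one_iff_mul_comm.1 ((hind hk hl).trans (hB k l))
    have h2 := h1.map (MulAut.conj d).toMonoidHom
    simpa [mul_assoc] using h2.eq
  -- transfer
  letI : CommGroup ↥(P : Subgroup L) :=
    { (inferInstance : Group ↥(P : Subgroup L)) with
      mul_comm := fun u v => Subtype.ext (hPab u u.2 v v.2) }
  rw [eq_bot_iff]
  intro z hz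
  rw [mem_bot]
  obtain ⟨k, hk⟩ := hp ⟨z, hz⟩
  have hzk : z ^ p ^ k = 1 := congrArg Subtype.val hk
  have hkey : ∀ (j : ℕ) (g₀ : L), g₀⁻¹ * z ^ j * g₀ ∈ (P : Subgroup L) →
      g₀⁻¹ * z ^ j * g₀ = z ^ j := fun j g₀ _ => by
    rw [mul_assoc, ← (show Commute g₀ z from hcen hz g₀).pow_right j |>.eq, inv_mul_cancel_left]
  have htr := MonoidHom.transfer_eq_pow (MonoidHom.id ↥(P : Subgroup L)) z hkey
  have h1 : MonoidHom.transfer (MonoidHom.id ↥(P : Subgroup L)) z = 1 :=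
    MonoidHom.mem_ker.1 (Abelianization.commutator_subset_ker _ (hperf.ge (mem_top z)))
  rw [h1] at htr
  have h2 : z ^ (P : Subgroup L).index = 1 := (congrArg Subtype.val htr).symm
  have hcop : Nat.Coprime (P : Subgroup L).index (p ^ k) :=
    Nat.Coprime.pow_right k (((Fact.out : p.Prime).coprime_iff_not_dvd.2 (Sylow.not_dvd_index' P
      (fun h => Subgroup.index_ne_zero_of_finite h))).symm)
  have := pow_gcd_eq_one.2 ⟨h2, hzk⟩
  rwa [hcop.gcd_eq_one, pow_one] at this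

namespace Ctx

variable (c : Ctx p S M K V)

include c

/-- The natural module as coordinates on `V`. -/
theorem exists_coords {n : ℕ} (hF : Fintype.card F = p ^ n)
    (hq : Nat.card (S : Subgroup G) = p ^ n * Nat.card (Cfsg.pCore p G)) {b : ℕ}
    (hb : Short p (S : Subgroup G) V b) {L : List (Step (S : Subgroup G))} (hL : Crit p V b L) :
    ∃ (ρ : G →* SL(2, F)) (ψ : G → Fin 2 → F), Function.Surjective ρ ∧
      ρ.ker = Cfsg.pCore p G ∧
      (∀ u ∈ V, ∀ v ∈ V, ψ (u * v) = ψ u + ψ v) ∧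
      (∀ u ∈ V, ψ u = 0 ↔ u ∈ center G) ∧ (∀ v, ∃ u ∈ V, ψ u = v) ∧
      (∀ g : G, ∀ u ∈ V,
        ψ (g * u * g⁻¹) = ((ρ g : SL(2, F)) : Matrix (Fin 2) (Fin 2) F) *ᵥ ψ u) ∧
      (S : Subgroup G).map ρ = (rootHomSL (F := F)).range := by
  classical
  haveI := c.hVn
  haveI : CharP F p := charP_of_card_eq_prime_pow hF
  obtain ⟨hcV, hncV, -, -⟩ := c.chief_V (F := F) hF hq hb hL
  obtain ⟨⟨-, ρ0, ψ0, hs0, hk0, hact⟩, -⟩ := c.chief_natural (F := F) hF hq hcV c.VQ hncV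
  let π := QuotientGroup.mk' (V ⊓ center G)
  let ρ1 : G →* SL(2, F) := ρ0.comp (Subgroup.topEquiv.symm.toMonoidHom.comp π)
  have hρ1s : Function.Surjective ρ1 :=
    hs0.comp (Subgroup.topEquiv.symm.surjective.comp (QuotientGroup.mk'_surjective _))
  have hQ1 : Cfsg.pCore p G ≤ ρ1.ker := by
    intro q hq'
    have : Subgroup.topEquiv.symm (π q) ∈ ρ0.ker := by
      rw [hk0, mem_subgroupOf]
      refine mem_centralizer_iff.2 ?_
      rintro _ ⟨v, hv, rfl⟩
      exact ((c.Q_comm hq' hv).map π).eq.symm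
    exact this
  have hker := c.kernel_eq (F := F) hF hq hρ1s hQ1
  obtain ⟨a, ha⟩ := sylow_sl2_conj (F := F) p (S.mapSurjective (f := ρ1) hρ1s)
  let ρ : G →* SL(2, F) := (MulAut.conj a⁻¹).toMonoidHom.comp ρ1
  have hmem : ∀ {v : G}, v ∈ V → π v ∈ V.map π := fun {v} hv => ⟨v, hv, rfl⟩
  let ψ1 : G → Fin 2 → F := fun g =>
    if h : g ∈ V then ψ0 (Additive.ofMul ⟨π g, hmem h⟩) else 0
  have hψ1 : ∀ {v : G} (hv : v ∈ V), ψ1 v = ψ0 (Additive.ofMul ⟨π v, hmem hv⟩) :=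
    fun {v} hv => dif_pos hv
  let ψ : G → Fin 2 → F := fun g => ((a⁻¹ : SL(2, F)) : Matrix (Fin 2) (Fin 2) F) *ᵥ ψ1 g
  have hainj : ∀ u : Fin 2 → F,
      ((a : SL(2, F)) : Matrix (Fin 2) (Fin 2) F) *ᵥ
        (((a⁻¹ : SL(2, F)) : Matrix (Fin 2) (Fin 2) F) *ᵥ u) = u := fun u => by
    rw [Matrix.mulVec_mulVec, ← Matrix.SpecialLinearGroup.coe_mul, mul_inv_cancel,
      Matrix.SpecialLinearGroup.coe_one, Matrix.one_mulVec]
  refine ⟨ρ, ψ, (MulAut.conj a⁻¹).surjective.comp hρ1s, ?_, ?_, ?_, ?_, ?_, ?_⟩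
  · ext g
    rw [← hker]
    exact map_eq_one_iff _ (MulAut.conj a⁻¹).injective
  · intro u hu v hv
    show _ *ᵥ ψ1 (u * v) = _
    rw [hψ1 (mul_mem hu hv), ← Matrix.mulVec_add, hψ1 hu, hψ1 hv, ← map_add]
    congr 2
  · intro u hu
    show _ *ᵥ ψ1 u = 0 ↔ _
    rw [hψ1 hu]
    constructor
    · intro h
      have h2 := congrArg (fun w => ((a : SL(2, F)) : Matrix (Fin 2) (Fin 2) F) *ᵥ w) h
      simp only [hainj, Matrix.mulVec_zero] at h2
      have h3 := congrArg (fun w : Additive ↥(V.map π) => ((Additive.toMul w : ↥(V.map π)) : G ⧸ (V ⊓ center G)))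
        ((map_eq_zero_iff ψ0 ψ0.injective).1 h2)
      exact ((QuotientGroup.eq_one_iff u).1 h3).2
    · intro h
      rw [show (⟨π u, hmem hu⟩ : ↥(V.map π)) = 1 from
        Subtype.ext ((QuotientGroup.eq_one_iff u).2 ⟨hu, h⟩), ofMul_one, map_zero,
        Matrix.mulVec_zero]
  · intro v
    obtain ⟨⟨_, u, hu, rfl⟩, he⟩ : ∃ w : ↥(V.map π),
        ψ0 (Additive.ofMul w) = ((a : SL(2, F)) : Matrix (Fin 2) (Fin 2) F) *ᵥ v :=
      ⟨Additive.toMul (ψ0.symm _), ψ0.apply_symm_apply _⟩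
    refine ⟨u, hu, ?_⟩
    show _ *ᵥ ψ1 u = v
    rw [hψ1 hu, he, Matrix.mulVec_mulVec, ← Matrix.SpecialLinearGroup.coe_mul, inv_mul_cancel,
      Matrix.SpecialLinearGroup.coe_one, Matrix.one_mulVec]
  · intro g u hu
    obtain ⟨w, hw, hw'⟩ := hact ⟨π g, mem_top _⟩ ⟨π u, hmem hu⟩
    have hgu := c.hVn.conj_mem u hu g
    show _ *ᵥ ψ1 (g * u * g⁻¹) = _ *ᵥ (_ *ᵥ ψ1 u)
    have hρg : ρ g = a⁻¹ * ρ1 g * a := by
      show a⁻¹ * ρ1 g * a⁻¹⁻¹ = _
      rw [inv_inv]
    rw [hψ1 hgu, hψ1 hu, hρg, Matrix.SpecialLinearGroup.coe_mul,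
      Matrix.SpecialLinearGroup.coe_mul, ← Matrix.mulVec_mulVec, hainj,
      ← Matrix.mulVec_mulVec]
    congr 1
    have e : (⟨π (g * u * g⁻¹), hmem hgu⟩ : ↥(V.map π)) = w := Subtype.ext (by
      show π (g * u * g⁻¹) = _
      rw [hw]
      simp)
    rw [e]
    exact hw'
  · show (S : Subgroup G).map ((MulAut.conj a⁻¹).toMonoidHom.comp ρ1) = _
    rw [← Subgroup.map_map, show (S : Subgroup G).map ρ1 = _ from ha, Subgroup.map_map]
    convert Subgroup.map_id _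
    ext g
    simp [mul_assoc]

/-- The splitting. -/
theorem exists_split (h5 : 5 ≤ p) {n : ℕ} (hF : Fintype.card F = p ^ n)
    (hq : Nat.card (S : Subgroup G) = p ^ n * Nat.card (Cfsg.pCore p G))
    (hb : Short p (S : Subgroup G) V 1) {Lp : List (Step (S : Subgroup G))} (hL : Crit p V 1 Lp)
    (hexp : ∀ s ∈ (S : Subgroup G), s ^ p = 1) :
    ∃ (ρ : G →* SL(2, F)) (ψ : G → Fin 2 → F) (W L L1 : Subgroup G),
      IsQdSplit p S ρ ψ W L L1 := by
  haveI := c.hVn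
  have hQn : (Cfsg.pCore p G).Normal := inferInstance
  obtain ⟨ρ, ψ, hρs, hker, hψm, hψ0, hψs, hact, hroot⟩ := c.exists_coords (F := F) hF hq hb hL
  have hQV := c.res_Q_le_V hb hL
  obtain ⟨k2, hp2⟩ : ∃ k, p = 2 * k + 1 :=
    ((Fact.out : p.Prime).odd_of_ne_two (by omega))
  have hQp : ∀ q ∈ Cfsg.pCore p G, q ^ p = 1 := fun q hq' => hexp q (c.QS hq')
  have hQ2 : ∀ q ∈ Cfsg.pCore p G, q = q⁻¹ → q = 1 := fun q hq' he => by
    have h2 : q ^ 2 = 1 := by rw [pow_two]; nth_rewrite 1 [he]; exact inv_mul_cancel q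
    have h3 := hQp q hq'
    rwa [hp2, pow_succ, pow_mul, h2, one_pow, one_mul] at h3
  -- an involution over `-1`
  obtain ⟨g0, hg0⟩ := hρs (negSL F)
  obtain ⟨t, htt, hρt⟩ : ∃ t : G, t * t = 1 ∧ ρ t = negSL F := by
    have h1 : g0 * g0 ∈ Cfsg.pCore p G := by
      rw [← hker, MonoidHom.mem_ker, map_mul, hg0, negSL_sq]
    refine ⟨g0 ^ p, ?_, ?_⟩
    · rw [← (Commute.refl g0).mul_pow, hQp _ h1]
    · rw [map_pow, hg0, hp2, pow_succ, pow_mul, pow_two, negSL_sq, one_pow, one_mul]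
  have hti : t⁻¹ = t := inv_eq_of_mul_eq_one_right htt
  have htR : t ∈ Cfsg.pResidual p G := Fusion.mem_pResidual_of_coprime
    (Nat.Coprime.coprime_dvd_left (orderOf_dvd_of_pow_eq_one (by rw [pow_two, htt]))
      ((Nat.coprime_primes Nat.prime_two Fact.out).2 (by omega)))
  have hconjt : ∀ g : G, t⁻¹ * (g * t * g⁻¹) ∈ Cfsg.pCore p G := fun g => by
    rw [← hker, MonoidHom.mem_ker, map_mul, map_inv, map_mul, map_mul, map_inv, hρt,
      ← negSL_comm, mul_inv_cancel_right, inv_mul_cancel]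
  have hVc : ∀ u ∈ V, ∀ v ∈ V, Commute u v := fun u hu v hv =>
    mem_centralizer_iff.1 ((Thompson.ea_iff.1 c.hV).1 hv) u hu
  let W : Subgroup G :=
    { carrier := {v | v ∈ V ∧ t * v * t⁻¹ = v⁻¹}
      one_mem' := ⟨one_mem _, by simp⟩
      mul_mem' := fun {u v} hu hv => ⟨mul_mem hu.1 hv.1, by
        rw [show t * (u * v) * t⁻¹ = (t * u * t⁻¹) * (t * v * t⁻¹) by group, hu.2, hv.2,
          ← mul_inv_rev, (hVc u hu.1 v hv.1).eq]⟩
      inv_mem' := fun {u} hu => ⟨inv_mem hu.1, by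
        rw [show t * u⁻¹ * t⁻¹ = (t * u * t⁻¹)⁻¹ by group, hu.2]⟩ }
  have hWn : W.Normal := ⟨fun w hw g => ⟨c.hVn.conj_mem w hw.1 g, by
    have h1 := hconjt g⁻¹
    rw [inv_inv] at h1
    set q := t⁻¹ * (g⁻¹ * t * g) with hqdef
    have e : t * (g * w * g⁻¹) * t⁻¹ = g * (t * (q * w * q⁻¹) * t⁻¹) * g⁻¹ := by
      rw [hqdef]; group
    rw [e, (c.Q_comm h1 hw.1).eq, mul_inv_cancel_right, hw.2]
    group⟩⟩
  have hWcen : ∀ w ∈ W, w ∈ center G → w = 1 := fun w hw hwc =>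
    hQ2 w (c.VQ hw.1) (by
      rw [← hw.2, mem_center_iff.1 hwc t, mul_inv_cancel_right])
  have hψ1 : ψ 1 = 0 := (hψ0 1 (one_mem _)).2 (one_mem _)
  have hψinv : ∀ u ∈ V, ψ u⁻¹ = - ψ u := fun u hu =>
    eq_neg_of_add_eq_zero_left (by rw [← hψm _ (inv_mem hu) _ hu, inv_mul_cancel, hψ1])
  have hWsurj : ∀ v : Fin 2 → F, ∃ w ∈ W, ψ w = v := by
    intro v
    obtain ⟨u, hu, rfl⟩ := hψs v
    set z := t * u * t⁻¹ * u with hz
    have hzV : z ∈ V := mul_mem (c.hVn.conj_mem u hu t) hu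
    have hzc : z ∈ center G := (hψ0 z hzV).1 (by
      rw [hψm _ (c.hVn.conj_mem u hu t) _ hu, hact t u hu, hρt, negSL_mulVec, neg_add_cancel])
    have hzj : (z ^ (k2 + 1))⁻¹ ∈ center G := inv_mem (pow_mem hzc _)
    refine ⟨u * (z ^ (k2 + 1))⁻¹, ⟨mul_mem hu (inv_mem (pow_mem hzV _)), ?_⟩, ?_⟩
    · have hz2 : z * (z ^ (k2 + 1))⁻¹ = z ^ (k2 + 1) := by
        rw [mul_inv_eq_iff_eq_mul, ← pow_add, show (k2 + 1) + (k2 + 1) = p + 1 by omega, pow_succ,
          (Thompson.ea_iff.1 c.hV).2 z hzV, one_mul]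
      have e : t * u * t⁻¹ = z * u⁻¹ := by rw [hz]; group
      rw [show t * (u * (z ^ (k2 + 1))⁻¹) * t⁻¹ = (t * u * t⁻¹) * (t * (z ^ (k2 + 1))⁻¹ * t⁻¹) by
        group, mem_center_iff.1 hzj t, mul_inv_cancel_right, e, mul_inv_rev, inv_inv,
        mul_assoc, mem_center_iff.1 hzj u⁻¹, ← mul_assoc, hz2]
    · rw [hψm _ hu _ (inv_mem (pow_mem hzV _)),
        (hψ0 _ (inv_mem (pow_mem hzV _))).2 hzj, add_zero]
  -- `Q = W * C_Q(t)`
  set L := centralizer ({t} : Set G) with hLdef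
  have hLmem : ∀ g : G, g ∈ L ↔ g * t * g⁻¹ = t := fun g => by
    rw [hLdef, mem_centralizer_singleton_iff, mul_inv_eq_iff_eq_mul]
  have hWL : ∀ w ∈ W, w ∈ L → w = 1 := fun w hw hwL => by
    refine hQ2 w (c.VQ hw.1) ?_
    have h1 := (hLmem w).1 hwL
    rw [← hw.2]
    calc w = (w * t * w⁻¹) * w * t⁻¹ := by group
      _ = _ := by rw [h1]
  have hdecQ : ∀ q ∈ Cfsg.pCore p G, ∃ w ∈ W, w⁻¹ * q ∈ Cfsg.pCore p G ⊓ L := by
    intro q hq'
    have huV := hQV (commutator_mem_commutator htR hq')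
    set u := ⁅t, q⁆ with hudef
    have huW : u ∈ W := ⟨huV, by
      rw [hudef, commutatorElement_def, mul_inv_rev, mul_inv_rev, mul_inv_rev, inv_inv, inv_inv]
      calc t * (t * q * t⁻¹ * q⁻¹) * t⁻¹ = t * t * q * t⁻¹ * q⁻¹ * t⁻¹ := by group
        _ = q * t * q⁻¹ * t⁻¹ := by rw [htt, one_mul, hti]
        _ = _ := by group⟩
    refine ⟨u ^ k2, pow_mem huW _,
      (show _ ∈ Cfsg.pCore p G from mul_mem (inv_mem (c.VQ (pow_mem huV _))) hq'), ?_⟩
    show _ ∈ L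
    rw [hLmem]
    have hwW := pow_mem huW k2
    set w := u ^ k2 with hwdef
    have h1 : w⁻¹ * q * t = t * (w⁻¹ * q) := by
      have e2 : t * w⁻¹ * t⁻¹ = w := by
        rw [show t * w⁻¹ * t⁻¹ = (t * w * t⁻¹)⁻¹ by group, hwW.2, inv_inv]
      have e3 : t * q = u * q * t := by rw [hudef]; simp only [commutatorElement_def]; group
      calc w⁻¹ * q * t = w⁻¹ * (u⁻¹ * (u * q * t)) := by group
        _ = (w⁻¹ * u⁻¹ * w⁻¹) * (w * (t * q)) := by rw [e3]; group
        _ = (u ^ p)⁻¹ * (w * (t * q)) := by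
            congr 1
            rw [hwdef, ← mul_inv_rev, ← mul_inv_rev, ← pow_succ', ← pow_add,
              show k2 + (k2 + 1) = p by omega]
        _ = (t * w⁻¹ * t⁻¹) * (t * q) := by
            rw [(Thompson.ea_iff.1 c.hV).2 u huV, inv_one, one_mul, e2]
        _ = _ := by group
    rw [h1]; group
  have hsup : ∀ g : G, ∃ w ∈ W, w⁻¹ * g ∈ L := by
    intro g
    set u := t⁻¹ * (g * t * g⁻¹) with hudef
    have huQ : u ∈ Cfsg.pCore p G := hconjt g
    obtain ⟨w, hw, hwe⟩ := hdecQ u huQ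
    set e := w⁻¹ * u with hedef
    have hue : u = w * e := by rw [hedef, mul_inv_cancel_left]
    have het : t * e * t⁻¹ = e := by
      have h1 := (hLmem e).1 hwe.2
      calc t * e * t⁻¹ = (e * t * e⁻¹) * e * t⁻¹ := by rw [h1]
        _ = e := by group
    have hut : t * u * t⁻¹ = u⁻¹ := by
      rw [hudef, mul_inv_rev, mul_inv_rev, mul_inv_rev, inv_inv, inv_inv, mul_inv_cancel_left, hti]
      group
    have hwe' : Commute w e := (c.Q_comm hwe.1 hw.1).symm
    rw [hue, show t * (w * e) * t⁻¹ = (t * w * t⁻¹) * (t * e * t⁻¹) by group, hw.2, het,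
      mul_inv_rev, hwe'.inv_left.eq] at hut
    have he1 : e = 1 := hQ2 e hwe.1 (by
      have := congrArg (· * w) hut
      simpa [mul_assoc] using this)
    rw [he1, mul_one] at hue
    refine ⟨w ^ k2, pow_mem hw _, ?_⟩
    rw [hLmem]
    have hwW := pow_mem hw k2
    have e2 : g * t * g⁻¹ = t * w := by rw [← hue, hudef, mul_inv_cancel_left]
    calc (w ^ k2)⁻¹ * g * t * ((w ^ k2)⁻¹ * g)⁻¹
        = (w ^ k2)⁻¹ * (g * t * g⁻¹) * w ^ k2 := by group
      _ = t * ((t⁻¹ * (w ^ k2)⁻¹ * t) * (w * w ^ k2)) := by rw [e2]; group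
      _ = t := by
        rw [show t⁻¹ * (w ^ k2)⁻¹ * t = (t * w ^ k2 * t⁻¹)⁻¹ by
          simp only [_root_.mul_inv_rev, inv_inv, hti, mul_assoc], hwW.2, inv_inv,
          ← pow_succ', ← pow_add, show k2 + (k2 + 1) = p by omega,
          (Thompson.ea_iff.1 c.hV).2 w hw.1, mul_one]
  -- the perfect part of `L`
  have hρL : Function.Surjective (ρ.comp L.subtype) := fun m => by
    obtain ⟨g, hg⟩ := hρs m
    obtain ⟨w, hw, hwL⟩ := hsup g
    refine ⟨⟨_, hwL⟩, ?_⟩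
    show ρ (w⁻¹ * g) = m
    rw [map_mul, map_inv, show ρ w = 1 by rw [← MonoidHom.mem_ker, hker]; exact c.VQ hw.1,
      inv_one, one_mul, hg]
  set R0 := Cfsg.pResidual p ↥L with hR0
  set L1 := R0.map L.subtype with hL1
  have hL1L : L1 ≤ L := map_subtype_le _
  have hL1E : ∀ l ∈ L1, ∀ e ∈ Cfsg.pCore p G ⊓ L, Commute l e := by
    intro l hl e he
    have hle : R0 ≤ (centralizer ({e} : Set G)).comap L.subtype := by
      refine (closure_le _).2 fun r hr => ?_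
      show (r : G) ∈ centralizer ({e} : Set G)
      have hr' : Nat.Coprime (orderOf (r : G)) p := by rw [Subgroup.orderOf_coe]; exact hr
      have hrR := Fusion.mem_pResidual_of_coprime hr'
      have h1 : ∀ e' ∈ Cfsg.pCore p G ⊓ L, ⁅(r : G), e'⁆ ∈ center G := by
        intro e' he'
        have hv := hQV (commutator_mem_commutator hrR he'.1)
        have hvL : ⁅(r : G), e'⁆ ∈ L := by
          rw [commutatorElement_def]
          exact mul_mem (mul_mem (mul_mem r.2 he'.2) (inv_mem r.2)) (inv_mem he'.2)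
        obtain ⟨w, hw, hψw⟩ := hWsurj (ψ ⁅(r : G), e'⁆)
        have hd : w⁻¹ * ⁅(r : G), e'⁆ ∈ center G :=
          (hψ0 _ (mul_mem (inv_mem hw.1) hv)).1 (by
            rw [hψm _ (inv_mem hw.1) _ hv, hψinv w hw.1, hψw, neg_add_cancel])
        have hwL : w ∈ L := by
          have := mul_mem hvL (inv_mem (center_le_centralizer ({t} : Set G) hd))
          rwa [mul_inv_rev, inv_inv, mul_inv_cancel_left] at this
        rw [hWL w hw hwL, inv_one, one_mul] at hd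
        exact hd
      have h2 : ⁅(r : G), e⁆ ∈ (⊥ : Subgroup G) := by
        refine coprime_step hr' ?_ ⟨1, ?_⟩
        · rw [mem_bot, commutatorElement_eq_one_iff_mul_comm]
          exact mem_center_iff.1 (h1 e he) _
        · rw [pow_one]
          exact hQp _ (commutator_le_right _ _ (commutator_mem_commutator hrR he.1))
      rw [mem_centralizer_singleton_iff]
      exact commutatorElement_eq_one_iff_mul_comm.1 (mem_bot.1 h2)
    obtain ⟨r, hr, rfl⟩ := hl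
    exact mem_centralizer_singleton_iff.1 (hle hr)
  have hR0s : Function.Surjective ((ρ.comp L.subtype).comp R0.subtype) := by
    rw [← MonoidHom.range_eq_top, MonoidHom.range_eq_map, ← Subgroup.map_map,
      ← MonoidHom.range_eq_map, Subgroup.range_subtype, hR0,
      Fusion.map_pResidual_of_surjective _ hρL]
    by_contra hne
    haveI : CharP F p := charP_of_card_eq_prime_pow hF
    have hn : 1 ≤ n := by
      rcases Nat.eq_zero_or_pos n with rfl | h
      · exact absurd hF (Fintype.one_lt_card (α := F)).ne'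
      · exact h
    haveI := (Fusion.isPGroup_quotient_pResidual (G := SL(2, F)) (p := p)).isNilpotent
    haveI : Nontrivial (SL(2, F) ⧸ Cfsg.pResidual p SL(2, F)) :=
      QuotientGroup.nontrivial_iff.2 hne
    have hlt := IsSolvable.commutator_lt_top_of_nontrivial (SL(2, F) ⧸ Cfsg.pResidual p SL(2, F))
    refine hlt.ne ?_
    rw [_root_.commutator_def, ← Subgroup.map_top_of_surjective (QuotientGroup.mk' _)
      (QuotientGroup.mk'_surjective (Cfsg.pResidual p SL(2, F))), ← Subgroup.map_commutator,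
      ← _root_.commutator_def]
    congr 1
    exact Classical.commutator_sl_eq_top (Or.inr (Classical.Small.exists_sq_ne_one
      (by rw [hF]; exact le_trans (by omega) (Nat.le_self_pow (by omega) p))))
  have hbot : ((ρ.comp L.subtype).comp R0.subtype).ker = ⊥ := by
    refine central_ext_trivial h5 hF _ hR0s ?_ ?_ Fusion.pResidual_pResidual
    · intro z hz
      have hzQ : ((z : ↥L) : G) ∈ Cfsg.pCore p G := by rw [← hker]; exact hz
      refine mem_center_iff.2 fun r => Subtype.ext (Subtype.ext ?_)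
      exact hL1E _ ⟨r, r.2, rfl⟩ _ ⟨hzQ, (z : ↥L).2⟩
    · intro z
      refine ⟨1, Subtype.ext (Subtype.ext (Subtype.ext ?_))⟩
      have hzQ : (((z : ↥R0) : ↥L) : G) ∈ Cfsg.pCore p G := by rw [← hker]; exact z.2
      rw [pow_one]
      push_cast
      exact hQp _ hzQ
  refine ⟨ρ, ψ, W, L, L1, ⟨hWn, fun w hw => c.VQ hw.1, fun u hu v hv => hψm u hu.1 v hv.1,
    fun u hu h => hWcen u hu ((hψ0 u hu.1).1 h), hWsurj, fun g w hw => hact g w hw.1,
    fun q hq' w hw => c.Q_comm hq' hw.1, hρs, hker, hroot, ?_, hsup, hL1L, ?_, hL1E, ?_⟩⟩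
  · rw [eq_bot_iff]
    exact fun w hw => mem_bot.2 (hWL w hw.1 hw.2)
  · intro m
    obtain ⟨z, hz⟩ := hR0s m
    exact ⟨((z : ↥L) : G), ⟨z, z.2, rfl⟩, hz⟩
  · rw [eq_bot_iff]
    rintro _ ⟨⟨z, hz, rfl⟩, hzQ⟩
    have : (⟨z, hz⟩ : ↥R0) ∈ ((ρ.comp L.subtype).comp R0.subtype).ker := by
      show ρ (z : G) = 1
      rw [← MonoidHom.mem_ker, hker]
      exact hzQ
    rw [hbot, mem_bot] at this
    exact mem_bot.2 (congrArg (fun y : ↥R0 => ((y : ↥L) : G)) this)

end Ctx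

end Cfsg.Agent.PushUp
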