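import Cfsg.Prelude.Def_TwoFusion
import Cfsg.Agent.PushUp.QdSplit
import Cfsg.Agent.QdFree.Qd

/-!
# `G ≅ Qd × E`: the complement is abelian
-/

set_option autoImplicit false
set_option linter.unusedSectionVars false

namespace Cfsg.Agent.PushUp

open Subgroup
open Cfsg.Agent.Classical (rootHomSL)
open Cfsg.Agent.QdFree (Affine vecAct)
open scoped commutatorElement MatrixGroups Matrix

variable {G : Type*} [Group G] [Finite G] {p : ℕ} [Fact p.Prime] {S : Sylow p G}
  {F : Type*} [Field F] [Fintype F] {ρ : G →* SL(2, F)} {ψ : G → Fin 2 → F}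
  {W L L1 : Subgroup G}

namespace IsQdSplit

variable (d : IsQdSplit p S ρ ψ W L L1)

include d

theorem ρW {w : G} (hw : w ∈ W) : ρ w = 1 := by
  rw [← MonoidHom.mem_ker, d.ker]; exact d.WQ hw

theorem ψ_eq {u v : G} (hu : u ∈ W) (hv : v ∈ W) (h : ψ u = ψ v) : u = v := by
  have h1 : ψ (u * v⁻¹) + ψ v = ψ v := by
    rw [← d.ψ_mul _ (mul_mem hu (inv_mem hv)) _ hv, inv_mul_cancel_right, h]
  exact mul_inv_eq_one.1 (d.ψ_inj _ (mul_mem hu (inv_mem hv)) (add_eq_right.1 h1))

theorem L1_eq {u v : G} (hu : u ∈ L1) (hv : v ∈ L1) (h : ρ u = ρ v) : u = v := by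
  have h1 : u * v⁻¹ ∈ L1 ⊓ Cfsg.pCore p G :=
    ⟨show _ ∈ L1 from mul_mem hu (inv_mem hv), by
      show _ ∈ Cfsg.pCore p G
      rw [← d.ker, MonoidHom.mem_ker, map_mul, map_inv, h, mul_inv_cancel]⟩
  rw [d.L1Q, mem_bot] at h1
  exact mul_inv_eq_one.1 h1

/-- The affine group inside `G`. -/
theorem exists_hom : ∃ θ : Affine F →* G, Function.Injective θ ∧
    (∀ a, θ a ∈ W ⊔ L1) ∧ (∀ g : G, ∃ a, ∃ e ∈ Cfsg.pCore p G ⊓ L, θ a * e = g) ∧
    (∀ a, θ a ∈ Cfsg.pCore p G ⊓ L → a = 1) ∧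
    (∀ a, ∀ e ∈ Cfsg.pCore p G ⊓ L, Commute (θ a) e) ∧ ∀ a, ρ (θ a) = a.right := by
  choose w hw hψw using d.ψ_surj
  choose l hl hρl using d.L1surj
  let f1 : Multiplicative (Fin 2 → F) →* G := MonoidHom.mk' (fun v => w v.toAdd) fun u v => by
    refine d.ψ_eq (hw _) (mul_mem (hw _) (hw _)) ?_
    rw [d.ψ_mul _ (hw _) _ (hw _), hψw, hψw, hψw, toAdd_mul]
  let f2 : SL(2, F) →* G := MonoidHom.mk' l fun a b =>
    d.L1_eq (hl _) (mul_mem (hl _) (hl _)) (by rw [map_mul, hρl, hρl, hρl])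
  have hcomp : ∀ A, f1.comp (vecAct A).toMonoidHom =
      (MulAut.conj (f2 A)).toMonoidHom.comp f1 := fun A => by
    refine MonoidHom.ext fun v => ?_
    show w _ = l A * w v.toAdd * (l A)⁻¹
    refine d.ψ_eq (hw _) (d.Wn.conj_mem _ (hw _) _) ?_
    rw [d.act _ _ (hw _), hψw, hψw, hρl]
    rfl
  let θ := SemidirectProduct.lift f1 f2 hcomp
  have hθ : ∀ a : Affine F, θ a = w a.left.toAdd * l a.right := fun a => rfl
  have hρθ : ∀ a, ρ (θ a) = a.right := fun a => by
    rw [hθ, map_mul, d.ρW (hw _), one_mul, hρl]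
  have hE : ∀ a, θ a ∈ Cfsg.pCore p G ⊓ L → a = 1 := by
    intro a ha
    have h1 : a.right = 1 := by rw [← hρθ, ← MonoidHom.mem_ker, d.ker]; exact ha.1
    have hl1 : l a.right = 1 := by rw [h1]; exact map_one f2
    rw [hθ, hl1, mul_one] at ha
    have h2 : w a.left.toAdd ∈ W ⊓ L := ⟨hw _, ha.2⟩
    rw [d.WL, mem_bot] at h2
    refine SemidirectProduct.ext ?_ h1
    refine Multiplicative.toAdd.injective ?_
    have h3 : w a.left.toAdd = w 0 := h2.trans (map_one f1).symm
    have h4 := congrArg ψ h3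
    rwa [hψw, hψw] at h4
  refine ⟨θ, (injective_iff_map_eq_one θ).2 fun a ha => hE a (by rw [ha]; exact one_mem _),
    fun a => by rw [hθ]; exact mul_mem (mem_sup_left (hw _)) (mem_sup_right (hl _)), ?_, hE, ?_,
    hρθ⟩
  · intro g
    obtain ⟨u, hu, huL⟩ := d.sup g
    refine ⟨⟨Multiplicative.ofAdd (ψ u), ρ g⟩, (l (ρ g))⁻¹ * (u⁻¹ * g), ⟨?_, ?_⟩, ?_⟩
    · show _ ∈ Cfsg.pCore p G
      rw [← d.ker, MonoidHom.mem_ker, map_mul, map_inv, hρl, map_mul, map_inv, d.ρW hu, inv_one,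
        one_mul, inv_mul_cancel]
    · show _ ∈ L
      exact mul_mem (inv_mem (d.L1L (hl _))) huL
    · rw [hθ]
      show w (ψ u) * l (ρ g) * _ = g
      rw [d.ψ_eq (hw _) hu (hψw _)]
      group
  · intro a e he
    rw [hθ]
    exact ((d.Qcomm e he.1 _ (hw _)).symm).mul_left (d.L1E _ (hl _) e he)

theorem mem_S {g : G} (h : ρ g ∈ (rootHomSL (F := F)).range) : g ∈ (S : Subgroup G) := by
  rw [← d.rootS] at h
  obtain ⟨s, hs, he⟩ := h
  have h1 : s⁻¹ * g ∈ (S : Subgroup G) := Core.pCore_le_sylow S (by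
    rw [← d.ker, MonoidHom.mem_ker, map_mul, map_inv, he, inv_mul_cancel])
  have := mul_mem hs h1
  rwa [mul_inv_cancel_left] at this

theorem E_normal : (Cfsg.pCore p G ⊓ L).Normal := by
  refine ⟨fun e he g => ?_⟩
  obtain ⟨w, hw, hwL⟩ := d.sup g
  have h1 : (w⁻¹ * g) * e * (w⁻¹ * g)⁻¹ ∈ Cfsg.pCore p G ⊓ L :=
    ⟨(inferInstance : (Cfsg.pCore p G).Normal).conj_mem e he.1 _,
      show _ ∈ L from mul_mem (mul_mem hwL he.2) (inv_mem hwL)⟩
  have e2 : g * e * g⁻¹ = w * ((w⁻¹ * g) * e * (w⁻¹ * g)⁻¹) * w⁻¹ := by group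
  rw [e2, ← (d.Qcomm _ h1.1 w hw).eq, mul_inv_cancel_right]
  exact h1

end IsQdSplit

/-- Upper unitriangular elements of the affine group. -/
def upr {F : Type*} [Field F] (v : Fin 2 → F) (a : F) : Affine F :=
  ⟨Multiplicative.ofAdd v, rootHomSL (Multiplicative.ofAdd a)⟩

theorem upr_mul (v v' : Fin 2 → F) (a a' : F) :
    upr v a * upr v' a' = upr ![v 0 + v' 0 + a * v' 1, v 1 + v' 1] (a + a') := by
  refine SemidirectProduct.ext ?_ ?_
  · rw [SemidirectProduct.mul_left]
    refine Multiplicative.toAdd.injective ?_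
    rw [toAdd_mul, QdFree.vecAct_apply]
    show v + _ *ᵥ v' = _
    rw [show (upr v a).right = rootHomSL (Multiplicative.ofAdd a) from rfl, root_mulVec]
    funext i
    fin_cases i <;> simp [upr, add_assoc]
  · rw [SemidirectProduct.mul_right]
    show rootHomSL _ * rootHomSL _ = rootHomSL _
    rw [← map_mul, ← ofAdd_add]

theorem upr_one : upr (F := F) 0 0 = 1 :=
  SemidirectProduct.ext rfl (map_one rootHomSL)

theorem upr_comm (v v' : Fin 2 → F) (a a' : F) :
    ⁅upr v a, upr v' a'⁆ = upr ![a * v' 1 - a' * v 1, 0] 0 := by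
  rw [commutatorElement_def, mul_inv_eq_iff_eq_mul, mul_inv_eq_iff_eq_mul, upr_mul, upr_mul,
    upr_mul]
  congr 1
  · funext i
    fin_cases i <;> simp <;> ring
  · ring

/-- The complement is abelian, so `G ≅ Qd × E`. -/
theorem qd_conclusion (d : IsQdSplit p S ρ ψ W L L1) (h5 : 5 ≤ p) [CharP F p]
    (hcl : (S : Subgroup G).lowerCentralSeries 2 = ⊥) (hexp : ∀ s ∈ (S : Subgroup G), s ^ p = 1)
    (f f' : G → G) (hfS : ∀ s ∈ (S : Subgroup G), f s ∈ (S : Subgroup G))
    (hf'S : ∀ s ∈ (S : Subgroup G), f' s ∈ (S : Subgroup G))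
    (hmul : ∀ s ∈ (S : Subgroup G), ∀ t ∈ (S : Subgroup G), f (s * t) = f s * f t)
    (hff' : ∀ s ∈ (S : Subgroup G), f (f' s) = s) (hf'f : ∀ s ∈ (S : Subgroup G), f' (f s) = s)
    (hno : ∀ X : Subgroup G, X.Normal → X ≤ (S : Subgroup G) → (∀ y ∈ X, f y ∈ X) → X = ⊥)
    (hext : ∀ X : Subgroup G, X.Normal → X ≤ (S : Subgroup G) → X ≠ ⊥ → ∀ h : G,
      (∀ s ∈ (S : Subgroup G), h * s * h⁻¹ ∈ (S : Subgroup G)) →
      (∀ s ∈ (S : Subgroup G), f s ∈ X → f (h * s * h⁻¹) ∈ X) →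
      ∃ k : G, ∀ s ∈ (S : Subgroup G), f (h * s * h⁻¹) = k * f s * k⁻¹) :
    ∃ G0 E : Subgroup G, Cfsg.IsInternalDirectProduct G0 E ⊤ ∧ Cfsg.IsElementaryAbelian p E ∧
      Nonempty (↥G0 ≃* ↥(Cfsg.qdOver F)) := by
  obtain ⟨θ, hinj, -, hdec, hE, hcomm, hρθ⟩ := d.exists_hom
  set E := Cfsg.pCore p G ⊓ L with hEdef
  haveI hEn : E.Normal := d.E_normal
  have hES : E ≤ (S : Subgroup G) := inf_le_left.trans (Core.pCore_le_sylow S)
  set u := fun (v : Fin 2 → F) (a : F) => θ (upr v a) with hu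
  have huS : ∀ v a, u v a ∈ (S : Subgroup G) := fun v a =>
    d.mem_S (by rw [hρθ]; exact ⟨_, rfl⟩)
  have hdecS : ∀ s ∈ (S : Subgroup G), ∃ v a, ∃ e ∈ E, s = u v a * e := by
    intro s hs
    obtain ⟨x, e, he, rfl⟩ := hdec s
    have h1 : ρ (θ x * e) ∈ (rootHomSL (F := F)).range := d.rootS ▸ ⟨_, hs, rfl⟩
    rw [map_mul, hρθ, show ρ e = 1 by rw [← MonoidHom.mem_ker, d.ker]; exact he.1, mul_one] at h1
    obtain ⟨a, ha⟩ := h1
    refine ⟨x.left.toAdd, a.toAdd, e, he, ?_⟩
    show θ x * e = θ (upr _ _) * e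
    congr 2
    refine SemidirectProduct.ext rfl ?_
    show x.right = rootHomSL (Multiplicative.ofAdd a.toAdd)
    rw [ofAdd_toAdd, ha]
  have hZE : ∀ v a, u v a ∈ E → v = 0 ∧ a = 0 := by
    intro v a h
    have h1 := hE _ h
    rw [← upr_one] at h1
    exact ⟨Multiplicative.ofAdd.injective (congrArg SemidirectProduct.left h1),
      Multiplicative.ofAdd.injective (Classical.rootHomSL_injective
        (congrArg SemidirectProduct.right h1))⟩
  set z := fun a : F => u ![a, 0] 0 with hz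
  have hcomU : ∀ v a v' a', ⁅u v a, u v' a'⁆ = z (a * v' 1 - a' * v 1) := fun v a v' a' => by
    show ⁅θ _, θ _⁆ = θ _
    rw [← map_commutatorElement, upr_comm]
  have hEz : ∀ a, z a ∈ E → z a = 1 := fun a h => by
    obtain ⟨h1, -⟩ := hZE _ _ h
    show θ (upr _ _) = 1
    rw [h1, upr_one, map_one]
  have hprod : ∀ v a v' a', ∀ e ∈ E, ∀ e' ∈ E,
      ⁅u v a * e, u v' a' * e'⁆ = z (a * v' 1 - a' * v 1) * ⁅e, e'⁆ := by
    intro v a v' a' e he e' he'
    rw [← hcomU v a v' a']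
    set x := u v a
    set y := u v' a'
    have c1 : Commute x e' := hcomm _ e' he'
    have c2 : Commute y e := hcomm _ e he
    have c3 : Commute x e := hcomm _ e he
    have c4 : Commute y e' := hcomm _ e' he'
    have c5 : Commute e' x := c1.symm
    calc ⁅x * e, y * e'⁆ = x * (e * y) * (e' * e⁻¹) * x⁻¹ * (e'⁻¹ * y⁻¹) := by
          simp only [commutatorElement_def]; group
      _ = x * (y * e) * (x⁻¹ * (e' * e⁻¹)) * (y⁻¹ * e'⁻¹) := by
          rw [c2.eq, mul_assoc (x * (e * y)) (e' * e⁻¹) x⁻¹,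
            ((c1.inv_left.mul_right c3.inv_left.inv_right)).eq,
            (c4.inv_left.inv_right).eq]
      _ = x * y * ((e * x⁻¹) * ((e' * e⁻¹) * y⁻¹) * e'⁻¹) := by group
      _ = x * y * ((x⁻¹ * e) * (y⁻¹ * (e' * e⁻¹)) * e'⁻¹) := by
          rw [c3.inv_left.eq, (c4.inv_left.mul_right c2.inv_left.inv_right).eq]
      _ = x * y * x⁻¹ * ((e * y⁻¹) * (e' * e⁻¹ * e'⁻¹)) := by group
      _ = x * y * x⁻¹ * ((y⁻¹ * e) * (e' * e⁻¹ * e'⁻¹)) := by rw [c2.inv_left.eq]
      _ = _ := by simp only [commutatorElement_def]; group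
  have hz0 : z 0 = 1 := by
    show θ (upr _ _) = 1
    rw [show (![(0 : F), 0] : Fin 2 → F) = 0 from List.ofFn_inj.1 (by simp), upr_one, map_one]
  have hzu : ∀ a v' a', Commute (z a) (u v' a') := fun a v' a' => by
    refine commutatorElement_eq_one_iff_mul_comm.1 ?_
    rw [hcomU]
    simpa using hz0
  -- facts on `f`
  have hf1 : f 1 = 1 := by
    have := hmul 1 (one_mem _) 1 (one_mem _)
    rw [mul_one] at this
    exact left_eq_mul.1 this
  have hfinv : ∀ s ∈ (S : Subgroup G), f s⁻¹ = (f s)⁻¹ := fun s hs => by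
    refine eq_inv_of_mul_eq_one_left ?_
    rw [← hmul _ (inv_mem hs) _ hs, inv_mul_cancel, hf1]
  have hfc : ∀ s ∈ (S : Subgroup G), ∀ t ∈ (S : Subgroup G), f ⁅s, t⁆ = ⁅f s, f t⁆ := by
    intro s hs t ht
    simp only [commutatorElement_def]
    rw [hmul _ (mul_mem (mul_mem hs ht) (inv_mem hs)) _ (inv_mem ht),
      hmul _ (mul_mem hs ht) _ (inv_mem hs), hmul _ hs _ ht, hfinv s hs, hfinv t ht]
  have hf'c : ∀ s ∈ (S : Subgroup G), ∀ t ∈ (S : Subgroup G), f' ⁅s, t⁆ = ⁅f' s, f' t⁆ := by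
    intro s hs t ht
    have hm : ⁅f' s, f' t⁆ ∈ (S : Subgroup G) :=
      commutator_le_self _ (commutator_mem_commutator (hf'S s hs) (hf'S t ht))
    conv_lhs => rw [← hff' s hs, ← hff' t ht, ← hfc _ (hf'S s hs) _ (hf'S t ht)]
    exact hf'f _ hm
  have hEc : ∀ e ∈ ⁅E, E⁆, ∀ g : G, Commute g e := by
    intro e he g
    obtain ⟨x, e', he', rfl⟩ := hdec g
    refine (hcomm x e (commutator_le_self E he)).mul_left ?_
    have h1 : ⁅e, e'⁆ ∈ (S : Subgroup G).lowerCentralSeries 2 :=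
      commutator_mem_commutator (commutator_mono hES hES he) (hES he')
    rw [hcl, mem_bot] at h1
    exact (commutatorElement_eq_one_iff_mul_comm.1 h1).symm
  -- `E` is abelian
  have hab : ⁅E, E⁆ = ⊥ := by
    by_contra hne
    -- no noncentral element of `U` goes into `Z₀ E`
    have hcase : ∀ v a, (a ≠ 0 ∨ v 1 ≠ 0) → ∀ e ∈ E, ∀ b, f (u v a) ≠ z b * e := by
      intro v a hva e he b hfu
      have hsurj : ∀ r : F, ∃ v' a', z r = ⁅u v a, u v' a'⁆ := by
        intro r
        simp only [hcomU]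
        rcases hva with h | h
        · exact ⟨![0, a⁻¹ * r], 0, by simp [mul_inv_cancel_left₀ h]⟩
        · exact ⟨0, -(r * (v 1)⁻¹), by simp [h]⟩
      have hzX : ∀ r, f (z r) ∈ ⁅E, E⁆ := by
        intro r
        obtain ⟨v', a', hr⟩ := hsurj r
        rw [hr, hfc _ (huS v a) _ (huS v' a'), hfu]
        obtain ⟨v2, a2, e2, he2, h2⟩ := hdecS _ (hfS _ (huS v' a'))
        rw [h2, hprod _ _ _ _ e he e2 he2]
        simpa [hz0] using commutator_mem_commutator he he2
      let X : Subgroup G :=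
        { carrier := {y | ∃ r, y = f (z r)}
          one_mem' := ⟨0, by rw [hz0, hf1]⟩
          mul_mem' := by
            rintro _ _ ⟨r, rfl⟩ ⟨r', rfl⟩
            refine ⟨r + r', ?_⟩
            rw [← hmul _ (huS _ _) _ (huS _ _)]
            congr 1
            show θ _ * θ _ = θ _
            rw [← map_mul, upr_mul]
            simp
          inv_mem' := by
            rintro _ ⟨r, rfl⟩
            refine ⟨-r, ?_⟩
            rw [← hfinv _ (huS _ _)]
            congr 1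
            refine inv_eq_of_mul_eq_one_right ?_
            show θ _ * θ _ = 1
            rw [← map_mul, upr_mul, ← map_one θ, ← upr_one]
            congr 2
            · funext i; fin_cases i <;> simp
            · simp }
      have hXc : ∀ y ∈ X, ∀ g : G, Commute g y := by
        rintro _ ⟨r, rfl⟩
        exact hEc _ (hzX r)
      have hXn : X.Normal := ⟨fun y hy g => by
        rw [(hXc y hy g).eq, mul_inv_cancel_right]; exact hy⟩
      have hXS : X ≤ (S : Subgroup G) := by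
        rintro _ ⟨r, rfl⟩; exact hfS _ (huS _ _)
      have h2 : (2 : F) ≠ 0 := by
        intro h
        have h' : ((2 : ℕ) : F) = 0 := by exact_mod_cast h
        rw [CharP.cast_eq_zero_iff F p] at h'
        exact absurd (Nat.le_of_dvd (by norm_num) h') (by omega)
      have hinjz : ∀ r, z r = 1 → r = 0 := fun r hr => by
        have := (hZE ![r, 0] 0 (by rw [show u ![r, 0] 0 = 1 from hr]; exact one_mem _)).1
        simpa using congrFun this 0
      have hXne : X ≠ ⊥ := fun hX => by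
        have h1 : f (z 1) ∈ X := ⟨1, rfl⟩
        rw [hX, mem_bot] at h1
        have h3 := hf'f _ (huS ![(1 : F), 0] 0)
        rw [show f (u ![(1 : F), 0] 0) = f 1 from h1.trans hf1.symm, hf'f 1 (one_mem _)] at h3
        exact one_ne_zero (hinjz 1 h3.symm)
      set h := θ ⟨1, dgSL (2 : F) h2⟩ with hh
      have hconj : ∀ v a, h * u v a * h⁻¹ =
          θ ⟨vecAct (dgSL (2 : F) h2) (Multiplicative.ofAdd v),
            rootHomSL (Multiplicative.ofAdd ((2 : F) ^ 2 * a))⟩ := by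
        intro v a
        show θ _ * θ _ * (θ _)⁻¹ = _
        rw [← map_inv, ← map_mul, ← map_mul]
        congr 1
        refine SemidirectProduct.ext ?_ ?_
        · simp [SemidirectProduct.mul_left, upr]
        · simp [SemidirectProduct.mul_right, upr, dg_root]
      have hhz : ∀ r, h * z r * h⁻¹ = z (2 * r) := by
        intro r
        show h * u ![r, 0] 0 * h⁻¹ = _
        rw [hconj]
        show θ _ = θ _
        congr 1
        refine SemidirectProduct.ext (Multiplicative.toAdd.injective ?_) ?_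
        · rw [QdFree.vecAct_apply]
          funext i
          fin_cases i <;> simp [upr, dgSL, Matrix.mulVec, dotProduct, Fin.sum_univ_two]
        · simp [upr]
      have hhS : ∀ s ∈ (S : Subgroup G), h * s * h⁻¹ ∈ (S : Subgroup G) := by
        intro s hs
        obtain ⟨v', a', e', he', rfl⟩ := hdecS s hs
        rw [show h * (u v' a' * e') * h⁻¹ = (h * u v' a' * h⁻¹) * (h * e' * h⁻¹) by group, hconj]
        exact mul_mem (d.mem_S (by rw [hρθ]; exact ⟨_, rfl⟩)) (hES (hEn.conj_mem e' he' h))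
      obtain ⟨k, hk⟩ := hext X hXn hXS hXne h hhS (by
        rintro s hs ⟨r, hr⟩
        have : s = z r := by rw [← hf'f s hs, hr, hf'f _ (huS _ _)]
        exact ⟨2 * r, by rw [this, hhz]⟩)
      have h3 := hk _ (huS ![(1 : F), 0] 0)
      rw [show h * u ![(1 : F), 0] 0 * h⁻¹ = z (2 * 1) from hhz 1,
        (hXc _ ⟨1, rfl⟩ k).eq, mul_inv_cancel_right] at h3
      have h4 : z (2 * 1) = z 1 := by
        rw [← hf'f (z (2 * 1)) (huS _ _)]
        exact (congrArg f' h3).trans (hf'f _ (huS ![(1 : F), 0] 0))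
      have h5' := congrFun (congrArg (fun w : Affine F => w.left.toAdd) (hinj h4)) 0
      simp [upr] at h5'
      exact one_ne_zero (by linear_combination h5' : (1 : F) = 0)
    -- so `Z₀` is invariant
    have hzf' : ∀ r, ∃ r', f' (z r) = z r' := by
      intro r
      obtain ⟨v, a, e, he, hx⟩ := hdecS _ (hfS _ (huS ![0, 1] 0))
      have hva : a ≠ 0 ∨ v 1 ≠ 0 := by
        by_contra hcon
        push Not at hcon
        refine hcase ![0, 1] 0 (Or.inr (by simp)) e he (v 0) ?_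
        rw [hx, hcon.1]
        congr 2
        funext i
        fin_cases i
        · rfl
        · exact hcon.2
      obtain ⟨v', a', hr⟩ : ∃ v' a', z r = ⁅u v a, u v' a'⁆ := by
        simp only [hcomU]
        rcases hva with h | h
        · exact ⟨![0, a⁻¹ * r], 0, by simp [mul_inv_cancel_left₀ h]⟩
        · exact ⟨0, -(r * (v 1)⁻¹), by simp [h]⟩
      have hr2 : z r = ⁅f (u ![0, 1] 0), u v' a'⁆ := by
        rw [hx, hr, ← mul_one (u v' a'), hprod _ _ _ _ e he 1 (one_mem _), mul_one, hcomU,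
          commutatorElement_one_right, mul_one]
      obtain ⟨v2, a2, e2, he2, h2⟩ := hdecS _ (hf'S _ (huS v' a'))
      rw [hr2, hf'c _ (hfS _ (huS _ _)) _ (huS v' a'), hf'f _ (huS _ _), h2]
      refine ⟨(0 : F) * v2 1 - a2 * (![(0 : F), 1] : Fin 2 → F) 1, ?_⟩
      rw [← mul_one (u ![0, 1] 0), hprod _ _ _ _ 1 (one_mem _) e2 he2, commutatorElement_one_left,
        mul_one]
    choose φ hφ using hzf'
    have hφinj : Function.Injective φ := fun r r' he => by
      have h1 : z r = z r' := by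
        rw [← hff' (z r) (huS _ _), ← hff' (z r') (huS _ _), hφ, hφ, he]
      have h5' := congrFun (congrArg (fun w : Affine F => w.left.toAdd) (hinj h1)) 0
      simpa [upr] using h5'
    have hzf : ∀ r, ∃ r', f (z r) = z r' := fun r => by
      obtain ⟨r', rfl⟩ := (Finite.injective_iff_surjective.1 hφinj) r
      exact ⟨r', by rw [← hφ]; exact hff' _ (huS _ _)⟩
    have hfU : ∀ v a, ∃ v' a', ∃ e ∈ E, f (u v a) = u v' a' * e ∧ ∀ e' ∈ E, ⁅e, e'⁆ = 1 := by
      intro v a
      obtain ⟨v', a', e, he, hx⟩ := hdecS _ (hfS _ (huS v a))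
      refine ⟨v', a', e, he, hx, fun e' he' => ?_⟩
      have h1 : ⁅f (u v a), e'⁆ = ⁅e, e'⁆ := by
        rw [hx, ← one_mul e', ← (map_one θ), ← upr_one]
        show ⁅u v' a' * e, u 0 0 * e'⁆ = _
        rw [hprod _ _ _ _ e he e' he']
        simp [hz0, upr_one, map_one]
      obtain ⟨v2, a2, e2, he2, h2⟩ := hdecS _ (hf'S _ (hES he'))
      have h3 : f' ⁅f (u v a), e'⁆ = z (a * v2 1 - a2 * v 1) := by
        rw [hf'c _ (hfS _ (huS v a)) _ (hES he'), hf'f _ (huS v a), h2, ← mul_one (u v a),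
          hprod _ _ _ _ 1 (one_mem _) e2 he2, commutatorElement_one_left, mul_one]
      obtain ⟨r, hr⟩ := hzf (a * v2 1 - a2 * v 1)
      rw [← h3, hff' _ (commutator_le_self _ (commutator_mem_commutator (hfS _ (huS v a)) (hES he'))),
        h1] at hr
      rw [hr]
      exact hEz r (hr ▸ commutator_le_self E (commutator_mem_commutator he he'))
    have hC : ∀ e ∈ E, ∃ r, ∃ e' ∈ E, f' e = z r * e' := by
      intro e he
      obtain ⟨v, a, e', he', h1⟩ := hdecS _ (hf'S _ (hES he))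
      have hcu : ∀ (v1 : Fin 2 → F) (a1 : F), a * v1 1 - a1 * v 1 = 0 := by
        intro v1 a1
        obtain ⟨v', a', e'', he'', h2, h3⟩ := hfU v1 a1
        have h4 : ⁅f' e, u v1 a1⁆ = 1 := by
          rw [← hf'f _ (huS v1 a1), ← hf'c _ (hES he) _ (hfS _ (huS v1 a1)), h2,
            show ⁅e, u v' a' * e''⁆ = 1 from ?_, ← hf1, hf'f 1 (one_mem _), hf1]
          rw [commutatorElement_eq_one_iff_mul_comm]
          exact ((hcomm _ e he).symm.mul_right
            (commutatorElement_eq_one_iff_mul_comm.1 (h3 e he)).symm).eq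
        rw [h1, ← mul_one (u v1 a1), hprod _ _ _ _ e' he' 1 (one_mem _),
          commutatorElement_one_right, mul_one] at h4
        have h5' := congrFun (congrArg (fun w : Affine F => w.left.toAdd)
          (hinj (h4.trans hz0.symm))) 0
        simpa [upr] using h5'
      have ha : a = 0 := by simpa using hcu ![0, 1] 0
      have hv : v 1 = 0 := by simpa using hcu 0 1
      refine ⟨v 0, e', he', ?_⟩
      rw [h1]
      congr 1
      show θ _ = θ _
      rw [ha]
      congr 2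
      funext i
      fin_cases i
      · rfl
      · exact hv
    -- the derived subgroup is invariant
    let Y : Subgroup G :=
      { carrier := {y | y ∈ (S : Subgroup G) ∧ f' y ∈ ⁅E, E⁆}
        one_mem' := ⟨one_mem _, by rw [← hf1, hf'f 1 (one_mem _)]; exact one_mem _⟩
        mul_mem' := fun {a b} ha hb => ⟨mul_mem ha.1 hb.1, by
          rw [show f' (a * b) = f' a * f' b by
            conv_lhs => rw [← hff' a ha.1, ← hff' b hb.1, ← hmul _ (hf'S a ha.1) _ (hf'S b hb.1)]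
            exact hf'f _ (mul_mem (hf'S a ha.1) (hf'S b hb.1))]
          exact mul_mem ha.2 hb.2⟩
        inv_mem' := fun {a} ha => ⟨inv_mem ha.1, by
          rw [show f' a⁻¹ = (f' a)⁻¹ by
            conv_lhs => rw [← hff' a ha.1, ← hfinv _ (hf'S a ha.1)]
            exact hf'f _ (inv_mem (hf'S a ha.1))]
          exact inv_mem ha.2⟩ }
    have hDY : ⁅E, E⁆ ≤ Y := commutator_le.2 fun e he e2 he2 => by
      refine ⟨hES (commutator_le_self E (commutator_mem_commutator he he2)), ?_⟩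
      obtain ⟨r, e', he', h1⟩ := hC e he
      obtain ⟨r2, e2', he2', h2⟩ := hC e2 he2
      rw [hf'c _ (hES he) _ (hES he2), h1, h2]
      show ⁅u ![r, 0] 0 * e', u ![r2, 0] 0 * e2'⁆ ∈ _
      rw [hprod _ _ _ _ e' he' e2' he2']
      simpa [hz0] using commutator_mem_commutator he' he2'
    have hφ' : ∀ y ∈ ⁅E, E⁆, f y ∈ ⁅E, E⁆ := by
      intro y hy
      let g : ↥(⁅E, E⁆ : Subgroup G) → ↥(⁅E, E⁆ : Subgroup G) := fun y => ⟨f' y, (hDY y.2).2⟩
      have hg : Function.Injective g := fun a b hab' => Subtype.ext (by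
        have h := congrArg (fun w : ↥(⁅E, E⁆ : Subgroup G) => f (w : G)) hab'
        simpa [g, hff' _ (hDY a.2).1, hff' _ (hDY b.2).1] using h)
      obtain ⟨x, hx⟩ := Finite.injective_iff_surjective.1 hg ⟨y, hy⟩
      have hx' : f' (x : G) = y := congrArg Subtype.val hx
      rw [← hx', hff' _ (hDY x.2).1]
      exact x.2
    exact hne (hno _ inferInstance ((commutator_le_self E).trans hES) hφ')
  refine ⟨θ.range, E, ⟨le_top, le_top, ?_, ?_, ?_⟩, Thompson.ea_iff.2
    ⟨commutator_eq_bot_iff_le_centralizer.1 hab, fun e he => hexp e (hES he)⟩,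
    ⟨(MonoidHom.ofInjective hinj).symm.trans QdFree.qdOverEquiv⟩⟩
  · rintro _ ⟨a, rfl⟩ e he
    exact (hcomm a e he).eq
  · rw [eq_bot_iff]
    rintro _ ⟨⟨a, rfl⟩, he⟩
    rw [mem_bot, hE a he, map_one]
  · rw [eq_top_iff]
    intro g _
    obtain ⟨a, e, he, rfl⟩ := hdec g
    exact mul_mem (mem_sup_left ⟨a, rfl⟩) (mem_sup_right he)

end Cfsg.Agent.PushUp
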