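import Cfsg.Agent.PushUp.Res

/-!
# Regularity on `V`, and the center of `O_p(G)`
-/

set_option autoImplicit false
set_option linter.unusedSectionVars false

namespace Cfsg.Agent.PushUp

open Subgroup Cfsg.Agent.PushRankOne
open Cfsg.Agent.Offender (cj mem_cj)
open scoped commutatorElement

variable {G : Type*} [Group G] [Finite G] {p : ℕ} [Fact p.Prime] {S : Sylow p G}
  {M K V : Subgroup G}

namespace Ctx

variable (c : Ctx p S M K V) {b : ℕ} (hb : Short p (S : Subgroup G) V b)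
  {L : List (Step (S : Subgroup G))} (hL : Crit p V b L)

include c hb hL

theorem dec_card {x : G} (hx : x ∉ M) :
    (∀ v ∈ V, ∃ w ∈ V ⊓ centralizer ((S : Subgroup G) : Set G),
        ∃ w' ∈ V ⊓ centralizer ((S : Subgroup G) : Set G), w * (x * w' * x⁻¹) = v) ∧
      Nat.card V * Nat.card (Cfsg.pCore p G) =
        Nat.card (S : Subgroup G) *
          Nat.card (V ⊓ centralizer ((S : Subgroup G) : Set G) : Subgroup G) := by
  obtain ⟨L', s, rfl⟩ := c.crit_split hb hL
  have h := c.offender_full hb hL (k := s.h) (fun y hy => by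
    obtain ⟨v, -, hy⟩ := mem_img.1 hy
    exact link_mem_last hy) (c.offender_bound hb hL)
  exact ⟨h.2.2.2.1 x hx, h.2.2.2.2⟩

theorem omega_inf {x : G} (hx : x ∉ M) :
    (V ⊓ centralizer ((S : Subgroup G) : Set G)) ⊓
        cj x (V ⊓ centralizer ((S : Subgroup G) : Set G)) = V ⊓ center G := by
  haveI := c.hVn
  refine le_antisymm ?_ ?_
  · rintro v ⟨hv, hv'⟩
    refine ⟨hv.1, c.center_of_fixed (k := 1) (g := x)
      (by rw [Offender.cj_one]; exact sup_cj c.st.toSetup₀ hx) ?_ ?_⟩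
    · intro s hs
      rw [Offender.cj_one] at hs
      exact mem_centralizer_iff.1 hv.2 s hs
    · intro s hs
      have h1 : Commute (x⁻¹ * s * x) (x⁻¹ * v * x) :=
        mem_centralizer_iff.1 (mem_cj.1 hv').2 _ (mem_cj.1 hs)
      simpa [mul_assoc] using h1.map (MulAut.conj x).toMonoidHom
  · rintro v ⟨hv, hvc⟩
    have hmem : v ∈ V ⊓ centralizer ((S : Subgroup G) : Set G) :=
      ⟨hv, center_le_centralizer _ hvc⟩
    refine ⟨hmem, mem_cj.2 ?_⟩
    rwa [mem_center_iff.1 hvc x⁻¹, inv_mul_cancel_right]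

variable {n : ℕ} (hq : Nat.card (S : Subgroup G) = p ^ n * Nat.card (Cfsg.pCore p G))

include hq

theorem card_V_omega :
    Nat.card V = p ^ n * Nat.card (V ⊓ centralizer ((S : Subgroup G) : Set G) : Subgroup G) := by
  obtain ⟨x, hx⟩ := exists_notMem' c.st.toSetup₀
  have h := (c.dec_card hb hL hx).2
  rw [hq] at h
  refine Nat.eq_of_mul_eq_mul_right (Nat.card_pos (α := Cfsg.pCore p G)) ?_
  rw [h]; ring

theorem card_omega_center :
    Nat.card (V ⊓ centralizer ((S : Subgroup G) : Set G) : Subgroup G) =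
      p ^ n * Nat.card (V ⊓ center G : Subgroup G) := by
  haveI := c.hVn
  obtain ⟨x, hx⟩ := exists_notMem' c.st.toSetup₀
  set Om := V ⊓ centralizer ((S : Subgroup G) : Set G) with hOm
  have hle : cj x Om ≤ V := fun v hv => by
    simpa [mul_assoc] using c.hVn.conj_mem _ (mem_cj.1 hv).1 x
  have e1 := Thompson.card_sup_mul_card_inf_of_comm (X := Om) (Y := cj x Om)
    ((inf_le_left.trans (Thompson.ea_iff.1 c.hV).1).trans (Subgroup.centralizer_le hle))
  have hsup : Om ⊔ cj x Om = V := by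
    refine le_antisymm (sup_le inf_le_left hle) fun v hv => ?_
    obtain ⟨w, hw, w', hw', rfl⟩ := (c.dec_card hb hL hx).1 v hv
    exact mul_mem (mem_sup_left hw) (mem_sup_right (mem_cj.2 (by
      rw [show x⁻¹ * (x * w' * x⁻¹) * x = w' by group]
      exact hw')))
  rw [c.omega_inf hb hL hx, hsup, Offender.card_cj, c.card_V_omega hb hL hq] at e1
  refine Nat.eq_of_mul_eq_mul_right (Nat.card_pos (α := Om)) ?_
  rw [← e1]; ring

omit hq

/-- Regularity: `[t, v]` central forces `v` to be fixed. -/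
theorem regular {t v : G} (ht : t ∈ (S : Subgroup G)) (htQ : t ∉ Cfsg.pCore p G) (hv : v ∈ V)
    (hc : ⁅t, v⁆ ∈ center G) : v ∈ V ⊓ centralizer ((S : Subgroup G) : Set G) := by
  haveI := c.hVn
  obtain ⟨x, hx⟩ := exists_notMem' c.st.toSetup₀
  obtain ⟨w, hw, w', hw', rfl⟩ := (c.dec_card hb hL hx).1 v hv
  set u := x * w' * x⁻¹ with hu
  have htw : ⁅t, w⁆ = 1 :=
    commutatorElement_eq_one_iff_mul_comm.2 (mem_centralizer_iff.1 hw.2 t ht)
  have h1 : ⁅t, u⁆ ∈ center G := by
    have e : ⁅t, w * u⁆ = ⁅t, w⁆ * (w * ⁅t, u⁆ * w⁻¹) := by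
      simp only [commutatorElement_def]; group
    rw [e, htw, one_mul] at hc
    have h2 := (inferInstance : (center G).Normal).conj_mem _ hc w⁻¹
    simpa [mul_assoc] using h2
  let H : Subgroup G :=
    { carrier := {g | ⁅g, w'⁆ ∈ center G}
      one_mem' := by simp
      mul_mem' := fun {a d} ha hd => by
        show ⁅a * d, w'⁆ ∈ center G
        have e : ⁅a * d, w'⁆ = a * ⁅d, w'⁆ * a⁻¹ * ⁅a, w'⁆ := by
          simp only [commutatorElement_def]; group
        rw [e]
        exact mul_mem ((inferInstance : (center G).Normal).conj_mem _ hd a) ha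
      inv_mem' := fun {a} ha => by
        show ⁅a⁻¹, w'⁆ ∈ center G
        have e : ⁅a⁻¹, w'⁆ = a⁻¹ * ⁅a, w'⁆⁻¹ * a⁻¹⁻¹ := by
          simp only [commutatorElement_def]; group
        rw [e]
        exact (inferInstance : (center G).Normal).conj_mem _ (inv_mem ha) a⁻¹ }
  have hSH : (S : Subgroup G) ≤ H := fun s hs => by
    show ⁅s, w'⁆ ∈ center G
    rw [commutatorElement_eq_one_iff_mul_comm.2 (mem_centralizer_iff.1 hw'.2 s hs)]
    exact one_mem _
  have hxH : x⁻¹ * t * x ∈ H := by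
    show ⁅x⁻¹ * t * x, w'⁆ ∈ center G
    have e : ⁅x⁻¹ * t * x, w'⁆ = x⁻¹ * ⁅t, u⁆ * x⁻¹⁻¹ := by
      simp only [hu, commutatorElement_def]; group
    rw [e]
    exact (inferInstance : (center G).Normal).conj_mem _ h1 x⁻¹
  have hH : H = ⊤ := c.st.toSetup₀.eq_top_of_not_le hSH fun hle => by
    refine c.st.toSetup₀.conj_notMem ht htQ (g := x⁻¹) (fun h' => hx (inv_mem_iff.1 h')) ?_
    rw [inv_inv]
    exact hle hxH
  haveI : (centralizer ({w'} : Set G)).Normal := by
    refine ⟨fun g hg k => mem_centralizer_singleton_iff.2 ?_⟩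
    have hc' : ⁅k, w'⁆ ∈ center G := hH.ge (mem_top k)
    have hg' : Commute g w' := mem_centralizer_singleton_iff.1 hg
    have h2 := hg'.map (MulAut.conj k).toMonoidHom
    have e : (MulAut.conj k).toMonoidHom w' = ⁅k, w'⁆ * w' := by
      simp [commutatorElement_def, mul_assoc]
    rw [e] at h2
    have h3 : Commute ((MulAut.conj k).toMonoidHom g) ⁅k, w'⁆⁻¹ :=
      mem_center_iff.1 (inv_mem hc') _
    have h4 := h3.mul_right h2
    rw [inv_mul_cancel_left] at h4
    exact h4.eq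
  have htop := c.eq_top_of_normal (N := centralizer ({w'} : Set G)) fun s hs =>
    mem_centralizer_singleton_iff.2 (mem_centralizer_iff.1 hw'.2 s hs)
  have hw'c : w' ∈ center G := mem_center_iff.2 fun g =>
    mem_centralizer_singleton_iff.1 (htop.ge (mem_top g))
  refine mul_mem hw ?_
  rw [hu, mem_center_iff.1 hw'c x, mul_inv_cancel_right]
  exact hw'

end Ctx

namespace Ctx

variable (c : Ctx p S M K V) {β γ : MulAut ↥(S : Subgroup G)} {x : G} (P : Pair p S V β γ x)

include c P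

/-- `|Z(Q) : Z(Q) ∩ C(S)| ≤ q`. -/
theorem center_Q_bound {n : ℕ} (hq : Nat.card (S : Subgroup G) = p ^ n * Nat.card (Cfsg.pCore p G))
    (hβ : tw V β.symm ≤ Cfsg.pCore p G) :
    Nat.card (Cfsg.pCore p G ⊓ centralizer (Cfsg.pCore p G : Set G) : Subgroup G) ≤ p ^ n *
      Nat.card ((Cfsg.pCore p G ⊓ centralizer (Cfsg.pCore p G : Set G)) ⊓
        centralizer ((S : Subgroup G) : Set G) : Subgroup G) := by
  classical
  set Q := Cfsg.pCore p G with hQ
  set Z := Q ⊓ centralizer (Q : Set G) with hZ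
  have hQn : Q.Normal := inferInstance
  have hβZ : ∀ z : ↥(S : Subgroup G), (z : G) ∈ Z → ((β z : ↥(S : Subgroup G)) : G) ∈ Q := by
    intro z hz
    refine c.hQ.le ⟨(β z).2, mem_centralizer_iff.2 fun v hv => ?_⟩
    have h1 : Commute (β.symm ⟨v, c.VS hv⟩) z := by
      refine Subtype.ext ?_
      exact mem_centralizer_iff.1 hz.2 _ (hβ (mem_tw_of_mem hv))
    have h2 := h1.map β.toMonoidHom
    rw [MulEquiv.coe_toMonoidHom, MulEquiv.apply_symm_apply] at h2
    exact congrArg Subtype.val h2.eq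
  let f : ↥Z → (↥(S : Subgroup G) ⧸ (tw Q γ).subgroupOf (S : Subgroup G)) := fun z =>
    QuotientGroup.mk (⟨x⁻¹ * ((β ⟨z, c.QS z.2.1⟩ : ↥(S : Subgroup G)) : G) * x, c.QS (by
      simpa using hQn.conj_mem _ (hβZ ⟨z, c.QS z.2.1⟩ z.2) x⁻¹)⟩ : ↥(S : Subgroup G))
  haveI : ((tw Q γ).subgroupOf (S : Subgroup G)).Normal := by
    refine ⟨fun a ha g => ?_⟩
    exact tw_conj (hV := hQn) (β := γ) ha g.2
  let φ : ↥Z →* (↥(S : Subgroup G) ⧸ (tw Q γ).subgroupOf (S : Subgroup G)) :=
    { toFun := f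
      map_one' := by
        refine (QuotientGroup.eq_one_iff _).2 ?_
        have : ((β ⟨((1 : ↥Z) : G), c.QS (1 : ↥Z).2.1⟩ : ↥(S : Subgroup G)) : G) = 1 := by
          rw [show (⟨((1 : ↥Z) : G), c.QS (1 : ↥Z).2.1⟩ : ↥(S : Subgroup G)) = 1 from rfl, map_one]
          rfl
        show x⁻¹ * _ * x ∈ tw Q γ
        rw [this, mul_one, inv_mul_cancel]
        exact one_mem _
      map_mul' := fun a d => by
        refine (congrArg QuotientGroup.mk (Subtype.ext ?_)).trans (QuotientGroup.mk_mul _ _ _)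
        show x⁻¹ * _ * x = (x⁻¹ * _ * x) * (x⁻¹ * _ * x)
        rw [show (⟨((a * d : ↥Z) : G), c.QS (a * d : ↥Z).2.1⟩ : ↥(S : Subgroup G)) =
          ⟨a, c.QS a.2.1⟩ * ⟨d, c.QS d.2.1⟩ from rfl, map_mul, Subgroup.coe_mul]
        group }
  have hker : φ.ker.map Z.subtype ≤ Z ⊓ centralizer ((S : Subgroup G) : Set G) := by
    rintro _ ⟨z, hz, rfl⟩
    refine ⟨z.2, mem_centralizer_iff.2 fun s hs => ?_⟩
    set zs : ↥(S : Subgroup G) := ⟨z, c.QS z.2.1⟩
    set m := ((β zs : ↥(S : Subgroup G)) : G) with hm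
    have hkm : x⁻¹ * m * x ∈ tw Q γ :=
      (QuotientGroup.eq_one_iff (N := (tw Q γ).subgroupOf (S : Subgroup G)) _).1 (MonoidHom.mem_ker.1 hz)
    -- `β z` is centralized by all of `S`
    have hall : ∀ t ∈ (S : Subgroup G), Commute t m := by
      intro t ht
      obtain ⟨ζ, hζ, hq'⟩ := P.cov₂ t ht
      obtain ⟨q, hq'', e⟩ := mem_tw.1 hq'
      have h1 : Commute (x * ζ * x⁻¹) m := by
        have := (c.tw_comm hζ hkm).symm.map (MulAut.conj x).toMonoidHom
        simpa [mul_assoc] using this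
      have h2 : Commute ((x * ζ * x⁻¹)⁻¹ * t) m := by
        rw [← e]
        have h3 : Commute q zs := Subtype.ext (mem_centralizer_iff.1 z.2.2 _ hq'')
        exact (h3.map β.toMonoidHom).map (S : Subgroup G).subtype
      have h4 := h1.mul_left h2
      rwa [mul_inv_cancel_left] at h4
    have h5 : Commute (β ⟨s, hs⟩) (β zs) := Subtype.ext (hall _ (β ⟨s, hs⟩).2)
    have h6 := h5.map β.symm.toMonoidHom
    rw [MulEquiv.coe_toMonoidHom, MulEquiv.symm_apply_apply, MulEquiv.symm_apply_apply] at h6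
    exact congrArg Subtype.val h6.eq
  have e1 := Subgroup.card_eq_card_quotient_mul_card_subgroup φ.ker
  have e2 : Nat.card φ.ker ≤ Nat.card (Z ⊓ centralizer ((S : Subgroup G) : Set G) : Subgroup G) := by
    rw [← card_map_of_injective Z.subtype_injective (K := φ.ker)]
    exact card_le_of_le hker
  have e3 : Nat.card (↥Z ⧸ φ.ker) ≤ p ^ n := by
    refine (Nat.card_le_card_of_injective _ (QuotientGroup.kerLift_injective φ)).trans (le_of_eq ?_)
    have e4 := Subgroup.card_eq_card_quotient_mul_card_subgroup ((tw Q γ).subgroupOf (S : Subgroup G))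
    rw [Nat.card_congr (subgroupOfEquivOfLe tw_le).toEquiv, card_tw c.QS, hq] at e4
    exact (Nat.eq_of_mul_eq_mul_right Nat.card_pos e4).symm
  rw [e1]
  exact Nat.mul_le_mul e3 e2

theorem center_Q_eq {n : ℕ} (hq : Nat.card (S : Subgroup G) = p ^ n * Nat.card (Cfsg.pCore p G))
    (hβ : tw V β.symm ≤ Cfsg.pCore p G)
    (hcard : Nat.card V =
      p ^ n * Nat.card (V ⊓ centralizer ((S : Subgroup G) : Set G) : Subgroup G))
    {z : G} (hz : z ∈ Cfsg.pCore p G) (hzc : z ∈ centralizer (Cfsg.pCore p G : Set G)) :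
    ∃ v ∈ V, ∃ w ∈ centralizer ((S : Subgroup G) : Set G), v * w = z := by
  haveI := c.hVn
  set Z := Cfsg.pCore p G ⊓ centralizer (Cfsg.pCore p G : Set G) with hZ
  set ZS := Z ⊓ centralizer ((S : Subgroup G) : Set G) with hZS
  have hVZ : V ≤ Z := le_inf c.VQ (le_centralizer_iff.1 c.QC)
  have hb := c.center_Q_bound P hq hβ
  have e1 := Core.card_sup_mul_card_inf ZS V
  have hinf : ZS ⊓ V = V ⊓ centralizer ((S : Subgroup G) : Set G) := le_antisymm
    (fun a ha => ⟨ha.2, ha.1.2⟩) (fun a ha => ⟨⟨hVZ ha.1, ha.2⟩, ha.1⟩)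
  rw [hinf, hcard] at e1
  have heq : ZS ⊔ V = Z := by
    refine eq_of_le_of_card_ge (sup_le inf_le_left hVZ) ?_
    refine Nat.le_of_mul_le_mul_right ?_
      (Nat.card_pos (α := (V ⊓ centralizer ((S : Subgroup G) : Set G) : Subgroup G)))
    rw [e1, show ∀ a b d : ℕ, a * (b * d) = b * a * d from fun a b d => by ring]
    exact Nat.mul_le_mul_right _ hb
  obtain ⟨w, hw, v, hv, rfl⟩ := Subgroup.mem_sup_of_normal_right.1 (heq.ge ⟨hz, hzc⟩)
  refine ⟨v, hv, w, hw.2, ?_⟩
  exact mem_centralizer_iff.1 hw.2 v (c.VS hv)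

end Ctx

end Cfsg.Agent.PushUp
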